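import Mathlib.Algebra.Module.PID
import Mathlib.Algebra.Polynomial.Module.AEval
import Mathlib.Algebra.Module.ZMod
import Mathlib.Algebra.Field.ZMod
import Mathlib.FieldTheory.Finiteness
import Mathlib.LinearAlgebra.Dual.Lemmas
import Mathlib.GroupTheory.QuotientGroup.Finite
import Mathlib.GroupTheory.OrderOfElement
import Mathlib.GroupTheory.Perm.Cycle.Type

/-!
# Counting equivariant maps into a group with cyclic torsion
-/

open Polynomial

set_option maxHeartbeats 1000000
set_option synthInstance.maxHeartbeats 400000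
set_option backward.isDefEq.respectTransparency false
set_option linter.style.haveILetI false

namespace Groth.Agent.MinOrd22

/-- A functional whose orbit under an endomorphism of maximal minimal degree detects vectors. -/
theorem exists_functional {F V : Type*} [Field F] [AddCommGroup V] [Module F V] [FiniteDimensional F V]
    (b : Module.End F V) (h : ∀ Q : F[X], Q.degree < Module.finrank F V → aeval b Q = 0 → Q = 0) :
    ∃ lam : Module.Dual F V, ∀ w, (∀ n : ℕ, lam ((b ^ n) w) = 0) → w = 0 := by
  let T : Module.End F (Module.Dual F V) := b.dualMap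
  have hT : ∀ Q : F[X], aeval T Q = (aeval b Q).dualMap := by
    intro Q
    induction Q using Polynomial.induction_on' with
    | add p q hp hq => rw [map_add, map_add, hp, hq]; ext; simp
    | monomial n c =>
      have hpow : ∀ n : ℕ, T ^ n = (b ^ n).dualMap := fun n => by
        induction n with
        | zero => ext; simp
        | succ n ih => rw [pow_succ, ih, pow_succ']; ext; simp [T]
      rw [aeval_monomial, aeval_monomial, hpow]
      ext; simp [Module.algebraMap_end_apply]
  obtain ⟨x, hx⟩ := Module.exists_ker_toSpanSingleton_eq_annihilator (R := F[X]) (M := Module.AEval' T)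
  obtain ⟨x, rfl⟩ := (Module.AEval'.of T).surjective x
  have hann : ∀ Q : F[X], aeval T Q x = 0 → aeval T Q = 0 := fun Q hQ => by
    have h1 : Q ∈ LinearMap.ker (LinearMap.toSpanSingleton F[X] _ (Module.AEval'.of T x)) := by
      rw [LinearMap.mem_ker, LinearMap.toSpanSingleton_apply, Module.AEval'.of, ← Module.AEval.of_aeval_smul]
      show Module.AEval.of F _ T (aeval T Q x) = 0
      rw [hQ, map_zero]
    rw [hx, Module.mem_annihilator] at h1
    refine LinearMap.ext fun y => (Module.AEval.of F _ T).injective ?_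
    rw [LinearMap.zero_apply, map_zero]
    exact (Module.AEval.of_aeval_smul _ _ _).trans (h1 _)
  have hli : LinearIndependent F fun i : Fin (Module.finrank F V) => (T ^ (i : ℕ)) x := by
    rw [Fintype.linearIndependent_iff]
    intro g hg i
    let Q : F[X] := ∑ i : Fin (Module.finrank F V), monomial (i : ℕ) (g i)
    have hQx : aeval T Q x = 0 := by
      rw [← hg]
      simp [Q, map_sum, aeval_monomial, LinearMap.sum_apply, Module.algebraMap_end_apply]
    have hb : aeval b Q = 0 := by
      have h1 := hT Q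
      rw [hann Q hQx] at h1
      exact LinearMap.ext fun v => (Module.forall_dual_apply_eq_zero_iff F _).1 fun φ => by
        simpa using (LinearMap.congr_fun (LinearMap.congr_fun h1 φ) v).symm
    have hQ0 := h Q ((Polynomial.degree_sum_le _ _).trans_lt ((Finset.sup_lt_iff (WithBot.bot_lt_coe _)).2
      fun i _ => (Polynomial.degree_monomial_le _ _).trans_lt (WithBot.coe_lt_coe.2 i.isLt))) hb
    have := congrArg (fun q : F[X] => q.coeff (i : ℕ)) hQ0
    simpa [Q, Polynomial.coeff_monomial, Fin.val_inj] using this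
  have hspan := hli.span_eq_top_of_card_eq_finrank' (by rw [Fintype.card_fin, Subspace.dual_finrank_eq])
  refine ⟨x, fun w hw => (Module.forall_dual_apply_eq_zero_iff F w).1 fun φ => ?_⟩
  have hφ : φ ∈ Submodule.span F (Set.range fun i : Fin (Module.finrank F V) => (T ^ (i : ℕ)) x) := by
    rw [hspan]; trivial
  induction hφ using Submodule.span_induction with
  | mem y hy =>
    obtain ⟨i, rfl⟩ := hy
    have h1 := hw i
    have hpow : ∀ n : ℕ, (T ^ n) x = x ∘ₗ (b ^ n) := fun n => by
      have := LinearMap.congr_fun (hT (X ^ n)) x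
      simpa [LinearMap.dualMap_apply'] using this
    show ((T ^ (i : ℕ)) x) w = 0
    rw [hpow]
    exact h1
  | zero => rfl
  | add y z _ _ hy hz => rw [LinearMap.add_apply, hy, hz, add_zero]
  | smul c y _ hy => rw [LinearMap.smul_apply, hy, smul_zero]

variable {W : Type*} [AddCommGroup W] (b : Module.End ℤ W)

/-- Detecting the `q`-torsion by one functional and the powers of the endomorphism. -/
def HasFunctional (q : ℕ) : Prop :=
  ∃ lam : AddSubgroup.torsionBy W (q : ℤ) →+ ZMod q, ∀ w : AddSubgroup.torsionBy W (q : ℤ),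
    (∀ (n : ℕ) (h : (b ^ n) (w : W) ∈ AddSubgroup.torsionBy W (q : ℤ)), lam ⟨(b ^ n) w, h⟩ = 0) → w = 0

theorem pow_mem_torsionBy (q : ℤ) (n : ℕ) {w : W} (hw : w ∈ AddSubgroup.torsionBy W q) :
    (b ^ n) w ∈ AddSubgroup.torsionBy W q := by
  show q • (b ^ n) w = 0
  rw [← map_zsmul, show q • w = 0 from hw, map_zero]

/-- A functional exists when small polynomials do not kill the torsion. -/
theorem hasFunctional_of_bound {q : ℕ} [Fact q.Prime] {s : ℕ} (hfin : Finite (AddSubgroup.torsionBy W (q : ℤ)))
    (hcard : Nat.card (AddSubgroup.torsionBy W (q : ℤ)) ≤ q ^ s)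
    (h : ∀ Q : ℤ[X], Q.degree < s → (∀ w ∈ AddSubgroup.torsionBy W (q : ℤ), aeval b Q w = 0) →
      ∀ i, (q : ℤ) ∣ Q.coeff i) : HasFunctional b q := by
  let Wq := AddSubgroup.torsionBy W (q : ℤ)
  haveI : Module (ZMod q) Wq := AddCommGroup.zmodModule fun w => Subtype.ext (by
    have := w.2
    rw [AddSubgroup.coe_nsmul, ← natCast_zsmul]
    exact this)
  haveI : Module.Finite (ZMod q) Wq := Module.Finite.of_finite
  let bq : Module.End (ZMod q) Wq := AddMonoidHom.toZModLinearMap q
    (((b.toAddMonoidHom.comp Wq.subtype)).codRestrict Wq fun w => by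
      have := pow_mem_torsionBy b (q : ℤ) 1 w.2
      rwa [pow_one] at this)
  have hpow : ∀ (n : ℕ) (w : Wq), (((bq ^ n) w : Wq) : W) = (b ^ n) w := fun n => by
    induction n with
    | zero => intro w; rfl
    | succ n ih => intro w; rw [pow_succ', pow_succ', Module.End.mul_apply, Module.End.mul_apply, ← ih]; rfl
  have hs : Module.finrank (ZMod q) Wq ≤ s := by
    rw [Module.natCard_eq_pow_finrank (K := ZMod q) (V := Wq), Nat.card_zmod] at hcard
    exact (Nat.pow_le_pow_iff_right (Fact.out : q.Prime).one_lt).1 hcard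
  obtain ⟨lam, hlam⟩ := exists_functional bq fun Q hQ h0 => by
    obtain ⟨Q', hQ', hdeg⟩ := Polynomial.mem_lifts_and_degree_eq (f := Int.castRingHom (ZMod q))
      (p := Q) ((Polynomial.map_surjective _ ZMod.intCast_surjective Q))
    have key : ∀ (P : ℤ[X]) (w : Wq), ((aeval bq (P.map (Int.castRingHom (ZMod q))) w : Wq) : W) = aeval b P w := by
      intro P w
      induction P using Polynomial.induction_on' with
      | add p r hp hr => rw [Polynomial.map_add, map_add, map_add, LinearMap.add_apply, LinearMap.add_apply,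
          AddSubgroup.coe_add, hp, hr]
      | monomial n c =>
        rw [Polynomial.map_monomial, aeval_monomial, aeval_monomial, Module.End.mul_apply, Module.End.mul_apply,
          Module.algebraMap_end_apply, Module.algebraMap_end_apply, eq_intCast, Int.cast_smul_eq_zsmul,
          AddSubgroup.coe_zsmul, hpow]
    have hdvd := h Q' (by rw [hdeg]; exact hQ.trans_le (WithBot.coe_le_coe.2 hs)) fun w hw => by
      rw [← key Q' ⟨w, hw⟩, hQ', h0]; rfl
    refine Polynomial.ext fun i => ?_
    rw [← hQ', Polynomial.coeff_map, Polynomial.coeff_zero, eq_intCast]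
    exact (ZMod.intCast_zmod_eq_zero_iff_dvd _ _).2 (hdvd i)
  refine ⟨lam.toAddMonoidHom, fun w hw => hlam w fun n => ?_⟩
  refine Eq.trans ?_ (hw n (pow_mem_torsionBy b q n w.2))
  exact congrArg lam (Subtype.ext (hpow n w))

/-- The equivariant maps. -/
def EqHom {V : Type*} [AddCommGroup V] (a : V →+ V) (b : Module.End ℤ W) : Set (V →+ W) :=
  {h | ∀ v, h (a v) = b (h v)}

/-- Equivariant maps from a finite group are no more numerous than its elements. -/
theorem card_eqHom_le (n : ℕ) : ∀ {V : Type*} [AddCommGroup V] [Finite V] (a : V →+ V), Nat.card V ≤ n →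
    (∀ q : ℕ, q.Prime → q ∣ Nat.card V → HasFunctional b q) →
    (EqHom a b).Finite ∧ Nat.card (EqHom a b) ≤ Nat.card V := by
  induction n using Nat.strong_induction_on with
  | _ n ih =>
  intro V _ _ a hn hW
  classical
  rcases subsingleton_or_nontrivial V with hV | hV
  · haveI : Subsingleton (EqHom a b) :=
      ⟨fun f g => Subtype.ext (AddMonoidHom.ext fun v => by rw [Subsingleton.elim v 0, map_zero, map_zero])⟩
    exact ⟨Set.toFinite _, (Finite.card_le_one_iff_subsingleton.2 inferInstance).trans Nat.card_pos⟩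
  obtain ⟨q, hq, hqV⟩ := Nat.exists_prime_and_dvd (Finite.one_lt_card (α := V)).ne'
  haveI := Fact.mk hq
  let V₁ := AddSubgroup.torsionBy V (q : ℤ)
  let m : V →+ V := q • AddMonoidHom.id V
  have hm : ∀ v, m v = q • v := fun v => rfl
  let V₂ := m.range
  have hV₁ : V₁ = m.ker := by
    ext v
    show (q : ℤ) • v = 0 ↔ m v = 0
    rw [natCast_zsmul, hm]
  have hmul : Nat.card V = Nat.card V₁ * Nat.card V₂ := by
    rw [hV₁, mul_comm, ← Nat.card_congr (QuotientAddGroup.quotientKerEquivRange m).toEquiv]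
    exact AddSubgroup.card_eq_card_quotient_mul_card_addSubgroup _
  have ha₁ : ∀ v ∈ V₁, a v ∈ V₁ := fun v hv => by
    show (q : ℤ) • a v = 0
    rw [← map_zsmul, show (q : ℤ) • v = 0 from hv, map_zero]
  have ha₂ : ∀ v ∈ V₂, a v ∈ V₂ := by
    rintro _ ⟨v, rfl⟩
    exact ⟨a v, by rw [hm, hm, map_nsmul]⟩
  let a₂ : V₂ →+ V₂ := (a.comp V₂.subtype).codRestrict V₂ fun v => ha₂ v v.2
  have hlt : Nat.card V₂ < Nat.card V := by
    obtain ⟨v, hv⟩ := exists_prime_addOrderOf_dvd_card' (G := V) q hqV
    have h1 : 1 < Nat.card V₁ := by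
      refine Finite.one_lt_card_iff_nontrivial.2 ⟨⟨⟨v, ?_⟩, 0, fun e => ?_⟩⟩
      · show (q : ℤ) • v = 0
        rw [natCast_zsmul, ← hv, addOrderOf_nsmul_eq_zero]
      · have e' : v = 0 := congrArg Subtype.val e
        rw [e', addOrderOf_zero] at hv
        exact hq.one_lt.ne hv
    rw [hmul]
    exact lt_mul_of_one_lt_left Nat.card_pos h1
  obtain ⟨hfin₂, hle₂⟩ := ih _ (hlt.trans_le hn) a₂ le_rfl fun r hr hd => hW r hr (hd.trans (hmul ▸ dvd_mul_left _ _))
  obtain ⟨lam, hlam⟩ := hW q hq hqV
  -- the restriction to the `q`-torsion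
  let res : EqHom a b → (V₁ →+ ZMod q) := fun h => lam.comp
    ((h.1.comp V₁.subtype).codRestrict (AddSubgroup.torsionBy W (q : ℤ)) fun v => by
      show (q : ℤ) • h.1 v = 0
      rw [← map_zsmul, show (q : ℤ) • (v : V) = 0 from v.2, map_zero])
  have hres : ∀ h h' : EqHom a b, res h = res h' → ∀ v ∈ V₁, h.1 v = h'.1 v := by
    intro h h' e v hv
    have hmem : ∀ u ∈ V₁, h.1 u - h'.1 u ∈ AddSubgroup.torsionBy W (q : ℤ) := fun u hu => by
      show (q : ℤ) • (h.1 u - h'.1 u) = 0
      rw [smul_sub, ← map_zsmul, ← map_zsmul, show (q : ℤ) • u = 0 from hu, map_zero, map_zero, sub_zero]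
    have h0 := hlam ⟨_, hmem v hv⟩ fun i hi => by
      have hvi : ∀ i : ℕ, ∃ u ∈ V₁, h.1 u - h'.1 u = (b ^ i) (h.1 v - h'.1 v) := fun i => by
        induction i with
        | zero => exact ⟨v, hv, rfl⟩
        | succ i ih =>
          obtain ⟨u, hu, e⟩ := ih
          exact ⟨a u, ha₁ u hu, by rw [h.2, h'.2, ← map_sub, e, pow_succ', Module.End.mul_apply]⟩
      obtain ⟨u, hu, eu⟩ := hvi i
      have e1 := DFunLike.congr_fun e ⟨u, hu⟩
      have e2 : lam ⟨h.1 u - h'.1 u, hmem u hu⟩ = 0 := by
        rw [← sub_eq_zero] at e1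
        refine Eq.trans ?_ e1
        simp only [res, AddMonoidHom.comp_apply, ← map_sub]
        rfl
      convert e2 using 3
      exact eu.symm
    exact sub_eq_zero.1 (congrArg Subtype.val h0)
  haveI : Module (ZMod q) V₁ := AddCommGroup.zmodModule fun w => Subtype.ext (by
    rw [AddSubgroup.coe_nsmul, ← natCast_zsmul]; exact w.2)
  haveI : Module.Finite (ZMod q) V₁ := Module.Finite.of_finite
  have hdual : Finite (V₁ →+ ZMod q) ∧ Nat.card (V₁ →+ ZMod q) = Nat.card V₁ := by
    let e : (V₁ →+ ZMod q) ≃ (V₁ →ₗ[ZMod q] ZMod q) :=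
      { toFun := fun f => f.toZModLinearMap q
        invFun := fun g : V₁ →ₗ[ZMod q] ZMod q => g.toAddMonoidHom
        left_inv := fun f => by ext; rfl
        right_inv := fun g => by ext; rfl }
    haveI : Finite (V₁ →ₗ[ZMod q] ZMod q) := Finite.of_injective _ DFunLike.coe_injective
    refine ⟨Finite.of_equiv _ e.symm, ?_⟩
    rw [Nat.card_congr e, Module.natCard_eq_pow_finrank (K := ZMod q),
      Module.natCard_eq_pow_finrank (K := ZMod q) (V := V₁), Subspace.dual_finrank_eq]
  -- the fibres of the restriction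
  let desc : EqHom a₂ b → (V →+ W) := fun h => h.1.comp m.rangeRestrict
  let Kz : Set (V →+ W) := {h | h ∈ EqHom a b ∧ ∀ v ∈ V₁, h v = 0}
  have hsub : Kz ⊆ Set.range desc := by
    rintro h ⟨hh, h0⟩
    obtain ⟨h', he⟩ : ∃ h' : V₂ →+ W, h'.comp m.rangeRestrict = h :=
      ⟨(m.rangeRestrict.liftOfSurjective m.rangeRestrict_surjective) ⟨h, fun v hv => h0 v (by
        rw [hV₁]; simpa using congrArg Subtype.val hv)⟩, AddMonoidHom.liftOfRightInverse_comp _ _ _ _⟩
    refine ⟨⟨h', fun ⟨_, v, rfl⟩ => ?_⟩, he⟩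
    have e1 := hh v
    rw [← he] at e1
    show h' _ = b (h' _)
    simp only [AddMonoidHom.comp_apply] at e1
    refine Eq.trans (congrArg h' (Subtype.ext ?_)) e1
    show a (m v) = m (a v)
    rw [hm, hm, map_nsmul]
  haveI := hfin₂.to_subtype
  have hKfin : Kz.Finite := (Set.finite_range desc).subset hsub
  haveI := hKfin.to_subtype
  haveI := hdual.1
  have hchoice : ∀ r : Set.range res, ∃ h : EqHom a b, res h = r := fun r => r.2
  choose sec hsec using hchoice
  let key : EqHom a b → Set.range res × Kz := fun h => ⟨⟨res h, h, rfl⟩,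
    ⟨h.1 - (sec ⟨res h, h, rfl⟩).1, fun v => by
      rw [AddMonoidHom.sub_apply, AddMonoidHom.sub_apply, h.2, (sec _).2, map_sub],
      fun v hv => by rw [AddMonoidHom.sub_apply, hres h (sec ⟨res h, h, rfl⟩) (hsec ⟨res h, h, rfl⟩).symm v hv, sub_self]⟩⟩
  have hkey : Function.Injective key := fun h h' e => by
    have e1 : (⟨res h, h, rfl⟩ : Set.range res) = ⟨res h', h', rfl⟩ := congrArg Prod.fst e
    have e2 : h.1 - (sec ⟨res h, h, rfl⟩).1 = h'.1 - (sec ⟨res h', h', rfl⟩).1 :=
      congrArg Subtype.val (congrArg Prod.snd e)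
    rw [e1, sub_left_inj] at e2
    exact Subtype.ext e2
  haveI : Finite (EqHom a b) := Finite.of_injective key hkey
  refine ⟨Set.toFinite _, ?_⟩
  calc Nat.card (EqHom a b) ≤ Nat.card (Set.range res × Kz) := Nat.card_le_card_of_injective key hkey
    _ = Nat.card (Set.range res) * Nat.card Kz := Nat.card_prod _ _
    _ ≤ Nat.card V₁ * Nat.card V₂ := by
        refine Nat.mul_le_mul ((Finite.card_subtype_le _).trans hdual.2.le) ?_
        exact ((Nat.card_mono (Set.finite_range desc) hsub).trans (Finite.card_range_le desc)).trans hle₂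
    _ = Nat.card V := hmul.symm

end Groth.Agent.MinOrd22
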