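import Groth.Agent.Lib.MinOrd22.Setup
import Groth.Agent.Lib.AbRigid.Isogeny
import Groth.Agent.Lib.AVQuotH1.Isog
import Mathlib.LinearAlgebra.Dual.Lemmas

/-!
# Homomorphisms into the distinguished variety
-/

universe u

open CategoryTheory Limits MonoidalCategory CartesianMonoidalCategory AlgebraicGeometry
open scoped MonObj GrpObj
open Polynomial (aeval)

set_option linter.style.haveILetI false
set_option linter.unusedSectionVars false
set_option maxHeartbeats 1000000
set_option synthInstance.maxHeartbeats 400000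
set_option backward.isDefEq.respectTransparency false

noncomputable section

namespace Groth.Agent.MinOrd22

variable {J : Type} [Fintype J] {K : J → Type} [∀ j, Field (K j)] [∀ j, CharZero (K j)] {ϖ : ∀ j, K j}
variable {k : Type u} [Field k] [Finite k] {p : ℕ} [Fact p.Prime] (hk : Nat.card k = p)
  (hint : ∀ j, IsIntegral ℤ (ϖ j))
  (Ω : Type u) [Field Ω] [Algebra k Ω] [IsAlgClosure k Ω] (l : ℕ) [Fact l.Prime] (hl : (l : k) ≠ 0)
  {Aw : Over (Spec (CommRingCat.of k))} [GrpObj Aw] [IsCommMonObj Aw] [IsProper Aw.hom]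
  [GeometricallyIntegral Aw.hom] {πw : Aw ⟶ Aw} [IsMonHom πw] (hπw : IsPFrob p πw)
  (hw : aeval (EndAV.End.of πw) (PP ϖ) = 0) (t : AbDual.TateMod Aw l (SGA7.pt (K := k) Ω))
  (ht : Function.Bijective fun r => act Ω l (EndAV.End.of πw) hw r t)

/-- The coordinate with respect to a generator. -/
def coord : AbDual.TateMod Aw l (SGA7.pt (K := k) Ω) ≃ₗ[ℤ_[l]] AdjoinRoot (Pl l ϖ) :=
  (LinearEquiv.ofBijective ((act Ω l (EndAV.End.of πw) hw).toLinearMap.flip t) ht).symm

theorem coord_symm (r : AdjoinRoot (Pl l ϖ)) :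
    (coord Ω l hw t ht).symm r = act Ω l (EndAV.End.of πw) hw r t := rfl

theorem coord_act (r : AdjoinRoot (Pl l ϖ)) (x : AbDual.TateMod Aw l (SGA7.pt (K := k) Ω)) :
    coord Ω l hw t ht (act Ω l (EndAV.End.of πw) hw r x) = r * coord Ω l hw t ht x := by
  refine (coord Ω l hw t ht).symm.injective ?_
  rw [LinearEquiv.symm_apply_apply, coord_symm, map_mul, Module.End.mul_apply, ← coord_symm Ω l hw t ht,
    LinearEquiv.symm_apply_apply]

/-- The functional attached to a map into the distinguished Tate module. -/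
def functional {X : Over (Spec (CommRingCat.of k))} [GrpObj X] [IsCommMonObj X] :
    (AbDual.TateMod X l (SGA7.pt (K := k) Ω) →ₗ[ℤ_[l]] AbDual.TateMod Aw l (SGA7.pt (K := k) Ω)) →ₗ[ℤ_[l]]
      Module.Dual ℤ_[l] (AbDual.TateMod X l (SGA7.pt (K := k) Ω)) :=
  LinearMap.llcomp ℤ_[l] _ _ _ (eps (monic_Pl hint l) ∘ₗ (coord Ω l hw t ht).toLinearMap)

theorem functional_apply {X : Over (Spec (CommRingCat.of k))} [GrpObj X] [IsCommMonObj X]
    (g : AbDual.TateMod X l (SGA7.pt (K := k) Ω) →ₗ[ℤ_[l]] AbDual.TateMod Aw l (SGA7.pt (K := k) Ω))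
    (x : AbDual.TateMod X l (SGA7.pt (K := k) Ω)) :
    functional hint Ω l hw t ht g x = eps (monic_Pl hint l) (coord Ω l hw t ht (g x)) := rfl

variable {A : Over (Spec (CommRingCat.of k))} [GrpObj A] [IsCommMonObj A] [IsProper A.hom]
  [GeometricallyIntegral A.hom] {πA : A ⟶ A} [IsMonHom πA] (hπA : IsPFrob p πA)
  (hA : aeval (EndAV.End.of πA) (PP ϖ) = 0)

include hk hπw hπA in
theorem tateMap_equivariant (φ : EndAV.Hom A Aw) :
    EndAV.Hom.tateMap l (SGA7.pt (K := k) Ω) φ ∘ₗ EndAV.End.tateRep l (SGA7.pt (K := k) Ω) (EndAV.End.of πA) =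
      EndAV.End.tateRep l (SGA7.pt (K := k) Ω) (EndAV.End.of πw) ∘ₗ EndAV.Hom.tateMap l (SGA7.pt (K := k) Ω) φ := by
  refine LinearMap.ext fun z => AbDual.TateMod.ext fun n => congrArg Additive.ofMul ?_
  show (TateSub22.co Ω l n z ≫ πA) ≫ φ.toHom = (TateSub22.co Ω l n z ≫ φ.toHom) ≫ πw
  rw [Category.assoc, Category.assoc, hπA.comm hk hπw φ.toHom]

include hk hπw hπA hA in
theorem act_tateMap (φ : EndAV.Hom A Aw) (r : AdjoinRoot (Pl l ϖ)) (x : AbDual.TateMod A l (SGA7.pt (K := k) Ω)) :
    coord Ω l hw t ht (EndAV.Hom.tateMap l (SGA7.pt (K := k) Ω) φ (act Ω l (EndAV.End.of πA) hA r x)) =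
      r * coord Ω l hw t ht (EndAV.Hom.tateMap l (SGA7.pt (K := k) Ω) φ x) := by
  rw [act_comm Ω l _ hA _ hw _ (tateMap_equivariant hk Ω l hπw hπA φ), coord_act]

include hk hπw hπA hA hl in
/-- Every functional comes from an equivariant map in the span of the homomorphisms. -/
theorem exists_span_functional (mu : Module.Dual ℤ_[l] (AbDual.TateMod A l (SGA7.pt (K := k) Ω))) :
    ∃ g ∈ Submodule.span ℤ_[l] (Set.range (EndAV.Hom.tateMap (A := A) (B := Aw) l (SGA7.pt (K := k) Ω))),
      functional hint Ω l hw t ht g = mu := by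
  let g := (coord Ω l hw t ht).symm.toLinearMap ∘ₗ liftDual (monic_Pl hint l) (act Ω l (EndAV.End.of πA) hA) mu
  have hg : g ∘ₗ EndAV.End.tateRep l (SGA7.pt (K := k) Ω) (EndAV.End.of πA) =
      EndAV.End.tateRep l (SGA7.pt (K := k) Ω) (EndAV.End.of πw) ∘ₗ g := by
    refine LinearMap.ext fun x => (coord Ω l hw t ht).injective ?_
    simp only [g, LinearMap.comp_apply, LinearEquiv.coe_coe, LinearEquiv.apply_symm_apply]
    rw [← act_root Ω l (EndAV.End.of πA) hA, liftDual_smul, ← act_root Ω l (EndAV.End.of πw) hw, coord_act,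
      LinearEquiv.apply_symm_apply]
  refine ⟨g, mem_span_frob hk Ω l hl hπA hπw g hg, LinearMap.ext fun x => ?_⟩
  rw [functional_apply]
  simp only [g, LinearMap.comp_apply, LinearEquiv.coe_coe, LinearEquiv.apply_symm_apply]
  conv_lhs => rw [← mul_one (liftDual (monic_Pl hint l) (act Ω l (EndAV.End.of πA) hA) mu x)]
  rw [eps_liftDual, map_one, Module.End.one_apply]

include hk hπw hπA hA in
/-- An element of the span is determined by its functional. -/
theorem eq_zero_of_functional {g : AbDual.TateMod A l (SGA7.pt (K := k) Ω) →ₗ[ℤ_[l]] AbDual.TateMod Aw l (SGA7.pt (K := k) Ω)}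
    (hg : g ∈ Submodule.span ℤ_[l] (Set.range (EndAV.Hom.tateMap (A := A) (B := Aw) l (SGA7.pt (K := k) Ω))))
    (h : functional hint Ω l hw t ht g = 0) : g = 0 := by
  have heq : ∀ r x, coord Ω l hw t ht (g (act Ω l (EndAV.End.of πA) hA r x)) = r * coord Ω l hw t ht (g x) := by
    clear h
    induction hg using Submodule.span_induction with
    | mem x hx =>
      obtain ⟨φ, rfl⟩ := hx
      exact act_tateMap hk Ω l hπw hw t ht hπA hA φ
    | zero => intro r x; simp
    | add a b _ _ ha hb => intro r x; simp only [LinearMap.add_apply, map_add, mul_add]; rw [ha, hb]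
    | smul c a _ ha => intro r x; simp only [LinearMap.smul_apply, map_smul, mul_smul_comm]; rw [ha]
  refine LinearMap.ext fun x => (coord Ω l hw t ht).injective ?_
  rw [LinearMap.zero_apply, map_zero]
  refine eq_of_eps_mul (monic_Pl hint l) fun r => ?_
  rw [zero_mul, map_zero, mul_comm, ← heq r x]
  exact LinearMap.congr_fun h _

include hk hπw hπA hA hl in
/-- The functionals of a basis of homomorphisms form a basis. -/
theorem exists_dual_basis {κ : Type*} [Fintype κ] (b : Module.Basis κ ℤ (EndAV.Hom A Aw)) :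
    ∃ B : Module.Basis κ ℤ_[l] (Module.Dual ℤ_[l] (AbDual.TateMod A l (SGA7.pt (K := k) Ω))),
      ∀ i, B i = functional hint Ω l hw t ht (EndAV.Hom.tateMap l (SGA7.pt (K := k) Ω) (b i)) := by
  classical
  haveI : IsAlgClosed Ω := IsAlgClosure.isAlgClosed k
  have hli : LinearIndependent ℤ_[l] fun i => EndAV.Hom.tateMap l (SGA7.pt (K := k) Ω) (b i) := by
    have h := TateTors22.linearIndependent_tateMap Ω l hl (fun i : Fin (Fintype.card κ) => b ((Fintype.equivFin κ).symm i))
      (b.linearIndependent.comp _ (Fintype.equivFin κ).symm.injective)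
    exact (linearIndependent_equiv' (Fintype.equivFin κ).symm rfl).1 h
  have hspan : Submodule.span ℤ_[l] (Set.range (EndAV.Hom.tateMap (A := A) (B := Aw) l (SGA7.pt (K := k) Ω))) =
      Submodule.span ℤ_[l] (Set.range fun i => EndAV.Hom.tateMap l (SGA7.pt (K := k) Ω) (b i)) := by
    refine le_antisymm (Submodule.span_le.2 (Set.range_subset_iff.2 fun φ => ?_))
      (Submodule.span_mono (Set.range_comp_subset_range b _))
    rw [← b.sum_repr φ, map_sum]
    refine Submodule.sum_mem _ fun i _ => ?_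
    rw [map_zsmul]
    exact zsmul_mem (Submodule.subset_span (Set.mem_range_self i)) _
  have hli' : LinearIndependent ℤ_[l] fun i =>
      functional hint Ω l hw t ht (EndAV.Hom.tateMap l (SGA7.pt (K := k) Ω) (b i)) :=
    hli.map (Submodule.disjoint_def.2 fun g hg hker =>
      eq_zero_of_functional hk hint Ω l hπw hw t ht hπA hA (hspan.ge hg) (LinearMap.mem_ker.1 hker))
  refine ⟨Module.Basis.mk hli' fun mu _ => ?_, fun i => Module.Basis.mk_apply _ _ i⟩
  obtain ⟨g, hg, rfl⟩ := exists_span_functional hk hint Ω l hl hπw hw t ht hπA hA mu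
  rw [hspan] at hg
  rw [Set.range_comp' (functional hint Ω l hw t ht), Submodule.span_image]
  exact Submodule.mem_map_of_mem hg

include hk hπw hπA hA hl t ht in
/-- The rank of the homomorphism group. -/
theorem finrank_hom {g : ℕ} (hg : topologicalKrullDim A.left = g) (hint : ∀ j, IsIntegral ℤ (ϖ j)) :
    Module.Free ℤ (EndAV.Hom A Aw) ∧ Module.Finite ℤ (EndAV.Hom A Aw) ∧
      Module.finrank ℤ (EndAV.Hom A Aw) = 2 * g := by
  haveI : IsAlgClosed Ω := IsAlgClosure.isAlgClosed k
  haveI := TateTors22.finite_hom (A := A) (B := Aw)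
  haveI := TateTors22.free_hom (A := A) (B := Aw)
  haveI := TateTors22.free_tateMod (A := A) (K := Ω) l hl
  haveI := TateTors22.finite_tateMod (A := A) (K := Ω) l hl
  classical
  refine ⟨inferInstance, inferInstance, ?_⟩
  obtain ⟨B, -⟩ := exists_dual_basis hk hint Ω l hl hπw hw t ht hπA hA (Module.Free.chooseBasis ℤ (EndAV.Hom A Aw))
  rw [Module.finrank_eq_card_chooseBasisIndex, ← Module.finrank_eq_card_basis B, ← (Module.Free.chooseBasis ℤ_[l] (AbDual.TateMod A l (SGA7.pt (K := k) Ω))).toDualEquiv.finrank_eq]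
  exact TateTors22.finrank_tateMod (K := Ω) l hl hg

include hk hπw hπA hA hl hint t ht in
/-- The Tate module is the dual of the homomorphisms into the distinguished variety. -/
theorem tate_bijective :
    (∀ x y : AbDual.TateMod A l (SGA7.pt (K := k) Ω),
        (∀ φ : EndAV.Hom A Aw, EndAV.Hom.tateMap l (SGA7.pt (K := k) Ω) φ x = EndAV.Hom.tateMap l (SGA7.pt (K := k) Ω) φ y) → x = y) ∧
      (∀ g : EndAV.Hom A Aw →+ AbDual.TateMod Aw l (SGA7.pt (K := k) Ω),
        (∀ (φ : EndAV.Hom A Aw) (s : EndAV.End Aw), g (φ ≫ s) = EndAV.End.tateRep l (SGA7.pt (K := k) Ω) s (g φ)) →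
          ∃ x : AbDual.TateMod A l (SGA7.pt (K := k) Ω), ∀ φ : EndAV.Hom A Aw, g φ = EndAV.Hom.tateMap l (SGA7.pt (K := k) Ω) φ x) := by
  classical
  haveI : IsAlgClosed Ω := IsAlgClosure.isAlgClosed k
  haveI := TateTors22.finite_hom (A := A) (B := Aw)
  haveI := TateTors22.free_hom (A := A) (B := Aw)
  haveI := TateTors22.free_tateMod (A := A) (K := Ω) l hl
  haveI := TateTors22.finite_tateMod (A := A) (K := Ω) l hl
  obtain ⟨B, hB⟩ := exists_dual_basis hk hint Ω l hl hπw hw t ht hπA hA (Module.Free.chooseBasis ℤ (EndAV.Hom A Aw))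
  refine ⟨fun x y h => Module.eval_apply_injective ℤ_[l] (B.ext fun i => ?_), fun g hg => ?_⟩
  · show B i x = B i y
    rw [hB, functional_apply, functional_apply, h]
  let v : Module.Dual ℤ_[l] (Module.Dual ℤ_[l] (AbDual.TateMod A l (SGA7.pt (K := k) Ω))) :=
    B.constr ℤ_[l] fun i => eps (monic_Pl hint l) (coord Ω l hw t ht (g (Module.Free.chooseBasis ℤ (EndAV.Hom A Aw) i)))
  refine ⟨(Module.evalEquiv ℤ_[l] _).symm v, fun φ => ?_⟩
  set x := (Module.evalEquiv ℤ_[l] (AbDual.TateMod A l (SGA7.pt (K := k) Ω))).symm v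
  have hbase : ∀ φ : EndAV.Hom A Aw, eps (monic_Pl hint l) (coord Ω l hw t ht (g φ)) =
      eps (monic_Pl hint l) (coord Ω l hw t ht (EndAV.Hom.tateMap l (SGA7.pt (K := k) Ω) φ x)) := by
    let e₁ : EndAV.Hom A Aw →+ ℤ_[l] :=
      ((eps (monic_Pl hint l) ∘ₗ (coord Ω l hw t ht).toLinearMap).toAddMonoidHom).comp g
    let e₂ : EndAV.Hom A Aw →+ ℤ_[l] :=
      AddMonoidHom.mk' (fun φ => eps (monic_Pl hint l) (coord Ω l hw t ht (EndAV.Hom.tateMap l (SGA7.pt (K := k) Ω) φ x)))
        fun a b => by simp only [map_add, LinearMap.add_apply]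
    have : e₁.toIntLinearMap = e₂.toIntLinearMap := (Module.Free.chooseBasis ℤ (EndAV.Hom A Aw)).ext fun i => by
      show eps (monic_Pl hint l) (coord Ω l hw t ht (g _)) = eps (monic_Pl hint l) (coord Ω l hw t ht (EndAV.Hom.tateMap l _ _ x))
      rw [← functional_apply hint Ω l hw t ht, ← hB]
      refine Eq.trans ?_ (Module.apply_evalEquiv_symm_apply ℤ_[l] (AbDual.TateMod A l (SGA7.pt (K := k) Ω)) (B i) v).symm
      exact (B.constr_basis (M' := ℤ_[l]) ℤ_[l] (fun i => eps (monic_Pl hint l) (coord Ω l hw t ht (g (Module.Free.chooseBasis ℤ (EndAV.Hom A Aw) i)))) i).symm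
    exact fun φ => LinearMap.congr_fun this φ
  refine (coord Ω l hw t ht).injective ((bijective_eps_mul (monic_Pl hint l)).1 ?_)
  refine (AdjoinRoot.powerBasis' (monic_Pl hint l)).basis.ext fun i => ?_
  rw [PowerBasis.basis_eq_pow, AdjoinRoot.powerBasis'_gen]
  simp only [LinearMap.comp_apply, LinearMap.mulLeft_apply]
  have hp : ∀ z : AbDual.TateMod Aw l (SGA7.pt (K := k) Ω),
      coord Ω l hw t ht z * AdjoinRoot.root (Pl l ϖ) ^ (i : ℕ) =
        coord Ω l hw t ht (EndAV.End.tateRep l (SGA7.pt (K := k) Ω) (EndAV.End.of πw ^ (i : ℕ)) z) := fun z => by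
    rw [map_pow, ← act_root Ω l (EndAV.End.of πw) hw, ← map_pow, coord_act, mul_comm]
  rw [hp, hp, ← hg, hbase]
  rfl

include hk hπw hπA hA hl hint t ht in
/-- Isogenies are detected by the lattice functor. -/
theorem isogeny_iff {B : Over (Spec (CommRingCat.of k))} [GrpObj B] [IsCommMonObj B] [IsProper B.hom]
    [GeometricallyIntegral B.hom] {πB : B ⟶ B} [IsMonHom πB] (hπB : IsPFrob p πB)
    (hB : aeval (EndAV.End.of πB) (PP ϖ) = 0) (f : EndAV.Hom B A) :
    (IsFinite f.toHom.left ∧ Surjective f.toHom.left) ↔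
      (Function.Injective (Preadditive.leftComp (CommGrp.mk Aw) f) ∧
        Finite (EndAV.Hom B Aw ⧸ (Preadditive.leftComp (CommGrp.mk Aw) f).range)) := by
  classical
  haveI : IsAlgClosed Ω := IsAlgClosure.isAlgClosed k
  haveI := TateTors22.finite_hom (A := A) (B := Aw)
  haveI := TateTors22.free_hom (A := A) (B := Aw)
  haveI := TateTors22.finite_hom (A := B) (B := Aw)
  haveI := TateTors22.free_hom (A := B) (B := Aw)
  let L : EndAV.Hom A Aw →+ EndAV.Hom B Aw := Preadditive.leftComp (CommGrp.mk Aw) f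
  constructor
  · rintro ⟨hfin, hsurj⟩
    haveI := hfin
    haveI := hsurj
    obtain ⟨N, g, hN, _, hfg, -⟩ := AVQuotH1.exists_quasiInverse (Z := ⟨B⟩) (Q := ⟨A⟩) f.toHom
    refine ⟨fun a b hab => ?_, ?_⟩
    · haveI := AVQuotH1.epi_of_surjective f.toHom
      exact EndAV.Hom.ext ((cancel_epi f.toHom).1 (congrArg EndAV.Hom.toHom hab))
    · haveI : Module.Finite ℤ (EndAV.Hom B Aw ⧸ L.range) :=
        Module.Finite.of_surjective ((QuotientAddGroup.mk' L.range).toIntLinearMap) (QuotientAddGroup.mk'_surjective _)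
      refine Module.finite_of_fg_torsion _ fun q => ?_
      obtain ⟨ψ, rfl⟩ := QuotientAddGroup.mk'_surjective L.range q
      refine ⟨⟨(N : ℤ), mem_nonZeroDivisors_of_ne_zero (by exact_mod_cast hN.ne')⟩, ?_⟩
      show (N : ℤ) • QuotientAddGroup.mk' L.range ψ = 0
      rw [← map_zsmul, natCast_zsmul]
      refine (QuotientAddGroup.eq_zero_iff _).2 ⟨EndAV.Hom.of g ≫ ψ, EndAV.Hom.ext ?_⟩
      show f.toHom ≫ g ≫ ψ.toHom = _
      rw [EndAV.Hom.toHom_nsmul, ← Category.assoc, hfg, Isogeny14.hom_pow_comp, Category.id_comp]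
  · rintro ⟨hinj, hfinq⟩
    haveI := hfinq
    haveI := TateTors22.free_tateMod (A := B) (K := Ω) l hl
    haveI := TateTors22.finite_tateMod (A := B) (K := Ω) l hl
    have hkill : ∀ ψ : EndAV.Hom B Aw, Nat.card (EndAV.Hom B Aw ⧸ L.range) • ψ ∈ L.range := fun ψ =>
      L.range.nsmul_index_mem ψ
    haveI := TateTors22.isTorsionFree_tateMod (A := Aw) (K := Ω) l
    have hN : Nat.card (EndAV.Hom B Aw ⧸ L.range) ≠ 0 := Nat.card_pos.ne'
    have hTinj : Function.Injective (EndAV.Hom.tateMap l (SGA7.pt (K := k) Ω) f) := by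
      rw [injective_iff_map_eq_zero]
      intro x hx
      refine (tate_bijective hk hint Ω l hl hπw hw t ht hπB hB).1 x 0 fun ψ => ?_
      obtain ⟨φ, hφ⟩ := hkill ψ
      have h1 : EndAV.Hom.tateMap l (SGA7.pt (K := k) Ω) (L φ) x =
          EndAV.Hom.tateMap l (SGA7.pt (K := k) Ω) φ (EndAV.Hom.tateMap l (SGA7.pt (K := k) Ω) f x) :=
        AbDual.TateMod.ext fun n => congrArg Additive.ofMul (Category.assoc _ _ _).symm
      rw [hφ, hx, map_zero, map_nsmul, LinearMap.smul_apply, ← Nat.cast_smul_eq_nsmul ℤ_[l], smul_eq_zero] at h1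
      rw [map_zero, h1.resolve_left (by exact_mod_cast hN)]
    have hfin : IsFinite f.toHom.left :=
      TateTors22.isFinite_of_injective_tateMap (K := Ω) l hl f.toHom hTinj
    obtain ⟨a, ha⟩ := Index22.exists_dim (A := A)
    obtain ⟨b, hb⟩ := Index22.exists_dim (A := B)
    have hab : a = b := by
      obtain ⟨-, -, h1⟩ := finrank_hom hk Ω l hl hπw hw t ht hπA hA ha hint
      obtain ⟨-, -, h2⟩ := finrank_hom hk Ω l hl hπw hw t ht hπB hB hb hint
      have h3 : Module.finrank ℤ (EndAV.Hom A Aw) ≤ Module.finrank ℤ (EndAV.Hom B Aw) :=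
        LinearMap.finrank_le_finrank_of_injective (f := L.toIntLinearMap) hinj
      have h4 : Module.finrank ℤ (EndAV.Hom B Aw) ≤ Module.finrank ℤ (EndAV.Hom A Aw) := by
        let e : EndAV.Hom B Aw →+ EndAV.Hom A Aw :=
          { toFun := fun ψ => (hkill ψ).choose
            map_zero' := hinj (by rw [(hkill 0).choose_spec, smul_zero]; exact (map_zero L).symm)
            map_add' := fun u v => hinj (by
              show L _ = L _
              rw [map_add, (hkill _).choose_spec, (hkill _).choose_spec, (hkill _).choose_spec, smul_add]) }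
        refine LinearMap.finrank_le_finrank_of_injective (f := e.toIntLinearMap) fun u v huv => ?_
        have h5 : L (e u) = L (e v) := congrArg L huv
        rw [show L (e u) = _ from (hkill u).choose_spec, show L (e v) = _ from (hkill v).choose_spec] at h5
        rw [← natCast_zsmul, ← natCast_zsmul] at h5
        exact smul_right_injective _ (by exact_mod_cast hN) h5
      omega
    haveI := hfin
    haveI : AlgebraicGeometry.IsIntegral A.left := GeometricallyIntegral.isIntegral_of_subsingleton A.hom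
    haveI : AlgebraicGeometry.IsIntegral B.left := GeometricallyIntegral.isIntegral_of_subsingleton B.hom
    exact ⟨hfin, AbRigid.surjective_of_isFinite B A f.toHom (by rw [ha, hb, hab])⟩

end Groth.Agent.MinOrd22

end
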