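import Groth.Agent.Lib.MinOrd22.Factor
import Mathlib.AlgebraicGeometry.AlgClosed.Basic

/-!
# Purely inseparable isogenies divide a power of Frobenius; tangent vectors as a representation
-/

universe u

open CategoryTheory Limits MonoidalCategory CartesianMonoidalCategory AlgebraicGeometry MonObj
open scoped GrpObj

set_option linter.style.haveILetI false
set_option linter.unusedSectionVars false
set_option maxHeartbeats 1000000
set_option synthInstance.maxHeartbeats 400000
set_option backward.isDefEq.respectTransparency false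

noncomputable section

namespace Groth.Agent.MinOrd22

open AVQuotH1 (AV unitPt)

variable {k : Type u} [Field k]

/-- Geometric points lift along finite surjective morphisms. -/
theorem exists_lift_pt (Ω : Type u) [Field Ω] [Algebra k Ω] [IsAlgClosed Ω] {Y Z : Over (Spec (CommRingCat.of k))}
    (f : Y ⟶ Z) [IsFinite f.left] [Surjective f.left] (y : VecGrp.pt k Ω ⟶ Z) :
    ∃ x : VecGrp.pt k Ω ⟶ Y, x ≫ f = y := by
  let P := pullback f.left y.left
  let s : P ⟶ Spec (CommRingCat.of Ω) := pullback.snd f.left y.left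
  haveI : IsFinite s := MorphismProperty.pullback_snd _ _ ‹IsFinite f.left›
  haveI : Surjective s := MorphismProperty.pullback_snd _ _ ‹Surjective f.left›
  haveI : Nonempty P := ⟨(s.surjective (IsLocalRing.closedPoint Ω)).choose⟩
  haveI : JacobsonSpace P := LocallyOfFiniteType.jacobsonSpace s
  obtain ⟨z, -, hz⟩ := nonempty_inter_closedPoints Set.univ_nonempty isOpen_univ.isLocallyClosed (X := P)
  let sec : Spec (CommRingCat.of Ω) ⟶ P := pointOfClosedPoint s z hz
  have hsec : sec ≫ s = 𝟙 _ := pointOfClosedPoint_comp _ _ _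
  refine ⟨Over.homMk (sec ≫ pullback.fst f.left y.left) ?_, ?_⟩
  · show (sec ≫ pullback.fst f.left y.left) ≫ Y.hom = (VecGrp.pt k Ω).hom
    rw [Category.assoc, ← Over.w f, pullback.condition_assoc, reassoc_of% hsec, Over.w y]
  · apply Over.OverMorphism.ext
    show (sec ≫ pullback.fst f.left y.left) ≫ f.left = y.left
    rw [Category.assoc, pullback.condition, reassoc_of% hsec]

variable [Finite k] {p : ℕ} [Fact p.Prime] (hk : Nat.card k = p) (Ω : Type u) [Field Ω] [Algebra k Ω] [IsAlgClosed Ω]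

theorem exists_pFrob (hk : Nat.card k = p) (X : AV k) : ∃ π : X.X ⟶ X.X, IsMonHom π ∧ IsPFrob p π := by
  obtain ⟨π, hm, hb, hle, happ⟩ := FrobPull22.exists_frobenius k X.X
  exact ⟨π, hm, hb, hle, fun U s => by rw [happ, hk]⟩

include hk in
/-- An isogeny without geometric kernel divides a power of the Frobenius on both sides. -/
theorem exists_pow_factor (n : ℕ) : ∀ (Z X : AV k) (g : Z.X ⟶ X.X) [IsMonHom g] [IsFinite g.left] [Surjective g.left]
    (πZ : Z.X ⟶ Z.X) [IsMonHom πZ] (_ : IsPFrob p πZ) (πX : X.X ⟶ X.X) [IsMonHom πX] (_ : IsPFrob p πX),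
    degI g ≤ n → (∀ a ∈ KerPts (VecGrp.pt k Ω) g, a = 1) →
    ∃ (m : ℕ) (u : X.X ⟶ Z.X), IsMonHom u ∧ u ≫ g = (EndAV.End.of πX ^ m).toHom ∧
      g ≫ u = (EndAV.End.of πZ ^ m).toHom := by
  induction n using Nat.strong_induction_on with
  | _ n ih =>
  intro Z X g _ _ _ πZ _ hπZ πX _ hπX hn hinj
  by_cases htan : ∀ t ∈ KerTan g, t = 1
  · have h1 : degI g = 1 := by
      rw [← card_kerPts_eq Ω Z X g htan]
      haveI : Unique (KerPts (VecGrp.pt k Ω) g) :=
        { default := ⟨1, by show (1 : VecGrp.pt k Ω ⟶ Z.X) ≫ g = 1; rw [MonObj.one_comp]⟩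
          uniq := fun a => Subtype.ext (hinj a a.2) }
      exact Nat.card_unique
    haveI := isIso_of_degI_eq_one Z X g h1
    haveI : IsMonHom (inv g) := AbRigid.isMonHom_of_one X.X Z.X (inv g) (by
      rw [← IsMonHom.one_hom (f := g), Category.assoc, IsIso.hom_inv_id, Category.comp_id])
    exact ⟨0, inv g, inferInstance, by rw [pow_zero, IsIso.inv_hom_id]; rfl, by rw [pow_zero, IsIso.hom_inv_id]; rfl⟩
  push Not at htan
  obtain ⟨t, ht, ht1⟩ := htan
  obtain ⟨Z₁, h₁, g', r, _, _, _, _, _, _, _, hg, hr, hker⟩ := exists_split Z X Z g πZ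
  obtain ⟨π₁, _, hπ₁⟩ := exists_pFrob hk Z₁
  have hd1 : 1 < degI h₁ := by
    rw [← card_kerTan_eq hk Z Z₁ h₁ hπZ fun T x hx => ((hker T x).1 hx).2]
    have hfin : Finite (KerTan h₁) := by
      have := card_kerTan_eq hk Z Z₁ h₁ hπZ fun T x hx => ((hker T x).1 hx).2
      exact Nat.finite_of_card_ne_zero (this ▸ (degI_pos Z Z₁ h₁).ne')
    refine Finite.one_lt_card_iff_nontrivial.2 ⟨⟨t, ht.1, (hker _ t).2 ⟨ht.2, comp_piFrob_tan hk hπZ t ht.1⟩⟩,
      ⟨1, MonObj.comp_one _, MonObj.one_comp _⟩, fun e => ht1 (congrArg Subtype.val e)⟩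
  have hlt : degI g' < degI g := by
    have h2 := degI_comp Z Z₁ X h₁ g'
    rw [hg] at h2
    rw [h2]
    exact lt_mul_of_one_lt_left (degI_pos Z₁ X g') hd1
  have hrh : r ≫ h₁ = π₁ := by
    haveI := AVQuotH1.epi_of_surjective h₁
    rw [← cancel_epi h₁, ← Category.assoc, hr]
    exact (IsPFrob.comm hk hπZ hπ₁ h₁).symm
  obtain ⟨m, u, _, hu1, hu2⟩ := ih _ (hlt.trans_le hn) Z₁ X g' π₁ hπ₁ πX hπX le_rfl fun y hy => by
    have hy' : y ≫ g' = 1 := hy
    have h3 : y ≫ r = 1 := hinj _ (by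
      show (y ≫ r) ≫ g = 1
      rw [← hg, Category.assoc, reassoc_of% hrh, ← IsPFrob.comm hk hπ₁ hπX g', ← Category.assoc, hy',
        MonObj.one_comp])
    refine piFrob_injective hk Ω hπ₁ ?_
    rw [← hrh, ← Category.assoc, h3, MonObj.one_comp, MonObj.one_comp]
  have hc : ∀ (i : ℕ), h₁ ≫ (EndAV.End.of π₁ ^ i).toHom = (EndAV.End.of πZ ^ i).toHom ≫ h₁ := fun i => by
    induction i with
    | zero => rw [pow_zero, pow_zero]; exact (Category.comp_id _).trans (Category.id_comp _).symm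
    | succ i ih =>
      rw [EndAV.End.toHom_pow_succ, EndAV.End.toHom_pow_succ, reassoc_of% ih]
      show _ ≫ h₁ ≫ π₁ = _
      rw [IsPFrob.comm hk hπZ hπ₁ h₁]
      exact (Category.assoc _ _ _).symm
  refine ⟨m + 1, u ≫ r, inferInstance, ?_, ?_⟩
  · rw [EndAV.End.toHom_pow_succ, ← hu1, ← hg]
    show _ = (u ≫ g') ≫ πX
    rw [Category.assoc, reassoc_of% hrh, Category.assoc, ← IsPFrob.comm hk hπ₁ hπX g']
  · rw [EndAV.End.toHom_pow_succ, ← hg]
    show _ = (EndAV.End.of πZ ^ m).toHom ≫ πZ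
    simp only [Category.assoc, reassoc_of% hu2]
    rw [← Category.assoc, hc, Category.assoc, hr]

/-- Tangent vectors at the origin, written additively. -/
def Tn (B : Over (Spec (CommRingCat.of k))) [GrpObj B] [IsCommMonObj B] : AddSubgroup (Additive (dp k ⟶ B)) where
  carrier := {x | zs k ≫ x.toMul = 1}
  zero_mem' := MonObj.comp_one _
  add_mem' {x y} hx hy := by
    show zs k ≫ (x.toMul * y.toMul) = 1
    rw [MonObj.comp_mul, show zs k ≫ x.toMul = 1 from hx, show zs k ≫ y.toMul = 1 from hy, _root_.one_mul]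
  neg_mem' {x} hx := by
    show zs k ≫ (x.toMul)⁻¹ = 1
    rw [GrpObj.comp_inv, show zs k ≫ x.toMul = 1 from hx, inv_one]

variable {B C : Over (Spec (CommRingCat.of k))} [GrpObj B] [IsCommMonObj B] [GrpObj C] [IsCommMonObj C]

/-- The differential at the origin. -/
def tanMap : EndAV.Hom B C →+ (Tn B →+ Tn C) :=
  AddMonoidHom.mk' (fun φ => ((EndAV.Hom.ptsMap (dp k) φ).comp (Tn B).subtype).codRestrict (Tn C) fun x => by
    show zs k ≫ (x.1.toMul ≫ φ.toHom) = 1
    rw [← Category.assoc, show zs k ≫ x.1.toMul = 1 from x.2, MonObj.one_comp])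
    fun a b => AddMonoidHom.ext fun x => Subtype.ext (DFunLike.congr_fun (map_add (EndAV.Hom.ptsMap (dp k)) a b) x.1)

theorem tanMap_apply (φ : EndAV.Hom B C) (x : Tn B) :
    ((tanMap φ x : Tn C) : Additive (dp k ⟶ C)).toMul = (x : Additive (dp k ⟶ B)).toMul ≫ φ.toHom := rfl

/-- The representation of the endomorphism ring on tangent vectors. -/
def tanRep : EndAV.End B →+* Module.End ℤ (Tn B) where
  toFun φ := (tanMap φ).toIntLinearMap
  map_one' := LinearMap.ext fun x => Subtype.ext (congrArg Additive.ofMul (Category.comp_id x.1.toMul))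
  map_mul' φ ψ := LinearMap.ext fun x =>
    Subtype.ext (congrArg Additive.ofMul (Category.assoc x.1.toMul ψ.toHom φ.toHom).symm)
  map_zero' := LinearMap.ext fun x => Subtype.ext (congrArg Additive.ofMul (MonObj.comp_one x.1.toMul))
  map_add' φ ψ := LinearMap.ext fun x =>
    Subtype.ext (congrArg Additive.ofMul (MonObj.comp_mul x.1.toMul φ.toHom ψ.toHom))

theorem tanRep_apply (φ : EndAV.End B) (x : Tn B) :
    ((tanRep φ x : Tn B) : Additive (dp k ⟶ B)).toMul = (x : Additive (dp k ⟶ B)).toMul ≫ φ.toHom := rfl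

include hk in
/-- Tangent vectors are killed by `p`. -/
theorem comp_pow_tan (B : AV k) {πB : B.X ⟶ B.X} [IsMonHom πB] (hπB : IsPFrob p πB) (t : dp k ⟶ B.X)
    (ht : zs k ≫ t = 1) : t ≫ (𝟙 B.X ^ p) = 1 := by
  obtain ⟨-, -, v, _, h1, -⟩ := exists_versch hk B hπB
  rw [← h1, ← Category.assoc, comp_piFrob_tan hk hπB t ht, MonObj.one_comp]

end Groth.Agent.MinOrd22

end
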