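import Groth.Agent.Lib.MinOrd22.Order
import Groth.Agent.Lib.MinOrd22.Alg
import Groth.Agent.Lib.MinOrd22.Insep
import Groth.Agent.Lib.MinOrd22.Hom

/-!
# The torsion and tangent vectors of the distinguished variety are cyclic over the Frobenius
-/

universe u

open CategoryTheory Limits MonoidalCategory CartesianMonoidalCategory AlgebraicGeometry
open scoped MonObj GrpObj
open Polynomial (aeval)

set_option linter.style.haveILetI false
set_option linter.unusedSectionVars false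
set_option maxHeartbeats 2000000
set_option synthInstance.maxHeartbeats 400000
set_option backward.isDefEq.respectTransparency false

noncomputable section

namespace Groth.Agent.MinOrd22

open AVQuotH1 (AV unitPt)

variable {k : Type u} [Field k]

/-- A left factor of an isogeny leaves an isogeny. -/
theorem isogeny_of_comp (B Z C : AV k) (h : B.X ⟶ Z.X) [IsFinite h.left] [Surjective h.left] (r : Z.X ⟶ C.X)
    (hf : IsFinite (h ≫ r).left) (hs : Surjective (h ≫ r).left) : IsFinite r.left ∧ Surjective r.left := by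
  haveI := AVQuotH1.quasiCompact_left r
  haveI : IsFinite (h.left ≫ r.left) := by rw [← Over.comp_left]; exact hf
  haveI : Surjective (h.left ≫ r.left) := by rw [← Over.comp_left]; exact hs
  haveI : Surjective r.left := Surjective.of_comp h.left r.left
  haveI : LocallyQuasiFinite r.left := by
    refine locallyQuasiFinite_iff_finite_preimage_singleton.2 fun y => ?_
    refine (((h.left ≫ r.left).finite_preimage_singleton y).image h.left).subset fun z hz => ?_
    obtain ⟨b, rfl⟩ := h.left.surjective z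
    exact ⟨b, hz, rfl⟩
  exact ⟨IsFinite.of_isProper_of_locallyQuasiFinite r.left, inferInstance⟩

/-- Multiplication by a positive integer is an isogeny of degree `n ^ 2g`. -/
theorem mulN_props [Finite k] (B : AV k) {g : ℕ} (hg : topologicalKrullDim B.X.left = g) {n : ℕ} (hn : 0 < n) :
    IsFinite (𝟙 B.X ^ n).left ∧ Surjective (𝟙 B.X ^ n).left ∧ degI (𝟙 B.X ^ n) = n ^ (2 * g) := by
  obtain ⟨hf, -, hs⟩ := AVDegree22.isFinite_flat_surjective_pow B.X hn
  haveI := hf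
  haveI := hs
  haveI := TateTors22.isMonHom_pow (A := B.X) n
  obtain ⟨l, hlp, hl⟩ := TateTors22.exists_prime_ne_zero k
  haveI := Fact.mk hlp
  haveI : AlgebraicGeometry.IsIntegral B.X.left := GeometricallyIntegral.isIntegral_of_subsingleton B.X.hom
  let K := AlgebraicClosure k
  haveI := TateTors22.free_tateMod (A := B.X) (K := K) l hl
  haveI := TateTors22.finite_tateMod (A := B.X) (K := K) l hl
  have hfin : IsFinite ((n : EndAV.End B.X)).toHom.left := by rw [EndAV.End.toHom_natCast]; exact hf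
  have h := AVDegree22.deg_eq_det (A := B.X) K l hl (n : EndAV.End B.X) hfin
  rw [← EndAV.End.tateRep_apply, map_natCast] at h
  have h2 : LinearMap.det ((n : Module.End ℤ_[l] (AbDual.TateMod B.X l (SGA7.pt (K := k) K)))) = (n : ℤ_[l]) ^ (2 * g) := by
    rw [show (n : Module.End ℤ_[l] (AbDual.TateMod B.X l (SGA7.pt (K := k) K))) = (n : ℤ_[l]) • LinearMap.id by
      ext x; simp [Nat.cast_smul_eq_nsmul], LinearMap.det_smul, LinearMap.det_id, _root_.mul_one,
      TateTors22.finrank_tateMod (A := B.X) K l hl hg]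
  refine ⟨hf, hs, ?_⟩
  have h3 : ((AVDegree22.deg (n : EndAV.End B.X) : ℕ) : ℤ_[l]) = ((n ^ (2 * g) : ℕ) : ℤ_[l]) := by
    rw [h, h2]; push_cast; ring
  rw [← Nat.cast_inj (R := ℤ_[l]), ← h3, Nat.cast_inj, AVDegree22.deg, EndAV.End.toHom_natCast]
  exact (degI_eq B B _ _).symm

variable {J : Type} [Fintype J] {K : J → Type} [∀ j, Field (K j)] [∀ j, CharZero (K j)] {ϖ : ∀ j, K j}

/-- The class of `F`. -/
def Fw (p : ℕ) (ϖ : ∀ j, K j) :
    ↥(MvPolynomial.aeval ![fun j => ϖ j, fun j => (p : K j) / ϖ j] : MvPolynomial (Fin 2) ℤ →ₐ[ℤ] ((j : J) → K j)).range :=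
  ⟨_, AlgHom.mem_range_self _ (MvPolynomial.X 0)⟩

/-- The class of `V`. -/
def Vw (p : ℕ) (ϖ : ∀ j, K j) :
    ↥(MvPolynomial.aeval ![fun j => ϖ j, fun j => (p : K j) / ϖ j] : MvPolynomial (Fin 2) ℤ →ₐ[ℤ] ((j : J) → K j)).range :=
  ⟨_, AlgHom.mem_range_self _ (MvPolynomial.X 1)⟩

variable [Finite k] {p : ℕ} [Fact p.Prime] (hk : Nat.card k = p)
  (hint : ∀ j, IsIntegral ℤ (ϖ j))
  (Ω : Type u) [Field Ω] [Algebra k Ω] [IsAlgClosure k Ω]
  {Aw : Over (Spec (CommRingCat.of k))} [GrpObj Aw] [IsCommMonObj Aw] [IsProper Aw.hom]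
  [GeometricallyIntegral Aw.hom] {πw : Aw ⟶ Aw} [IsMonHom πw] (hπw : IsPFrob p πw)
  (hweil : ∀ j, ∀ z ∈ (minpoly ℤ (ϖ j)).aroots ℂ, ‖z‖ = Real.sqrt p)
  (hinj : ∀ i j, minpoly ℤ (ϖ i) = minpoly ℤ (ϖ j) → i = j)
  (ρw : (MvPolynomial.aeval ![fun j => ϖ j, fun j => (p : K j) / ϖ j] : MvPolynomial (Fin 2) ℤ →ₐ[ℤ] ((j : J) → K j)).range ≃+* EndAV.End Aw)
  (hρw : ρw ⟨(MvPolynomial.aeval ![fun j => ϖ j, fun j => (p : K j) / ϖ j] : MvPolynomial (Fin 2) ℤ →ₐ[ℤ] ((j : J) → K j)) (MvPolynomial.X 0), AlgHom.mem_range_self _ _⟩ = EndAV.End.of πw)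
  (o : OrderData p ϖ)

include hρw in
theorem rho_F : ρw (Fw p ϖ) = EndAV.End.of πw := hρw

include hint hweil in
theorem Vw_mul_Fw : Vw p ϖ * Fw p ϖ = (p : ↥(MvPolynomial.aeval ![fun j => ϖ j, fun j => (p : K j) / ϖ j] : MvPolynomial (Fin 2) ℤ →ₐ[ℤ] ((j : J) → K j)).range) := by
  refine Subtype.ext (funext fun j => ?_)
  simp [Vw, Fw, div_mul_cancel₀ _ (varpi_ne_zero (p := p) hint hweil j)]

include hint hweil hρw in
theorem piw_comp_vw : πw ≫ (ρw (Vw p ϖ)).toHom = 𝟙 Aw ^ p := by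
  have h : ρw (Vw p ϖ) * ρw (Fw p ϖ) = (p : EndAV.End Aw) := by rw [← map_mul, Vw_mul_Fw hint hweil, map_natCast]
  rw [rho_F ρw hρw] at h
  have h' := congrArg EndAV.End.toHom h
  rw [EndAV.End.toHom_natCast] at h'
  exact h'

theorem rho_aeval (a : ↥(MvPolynomial.aeval ![fun j => ϖ j, fun j => (p : K j) / ϖ j] : MvPolynomial (Fin 2) ℤ →ₐ[ℤ] ((j : J) → K j)).range)
    (Q : Polynomial ℤ) : ρw (aeval a Q) = aeval (ρw a) Q :=
  (aeval_ringHom ρw.toRingHom a Q).symm

include hk hint hπw hweil hinj ρw hρw o in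
theorem dim_Aw : topologicalKrullDim Aw.left = o.D := by
  obtain ⟨g, hg⟩ := Index22.exists_dim (A := Aw)
  obtain ⟨l, hlp, hl⟩ := TateTors22.exists_prime_ne_zero k
  haveI := Fact.mk hlp
  obtain ⟨hw, t, ht, -⟩ := exists_generator hk hint (AlgebraicClosure k) l hπw hweil hinj ρw hρw hl
  obtain ⟨-, -, h⟩ := finrank_hom hk (AlgebraicClosure k) l hl hπw hw t ht hπw (aeval_piw ρw hρw) hg hint
  obtain ⟨b⟩ := o.basis
  rw [toProd_eq_aeval] at b
  have h2 : Module.finrank ℤ (EndAV.Hom Aw Aw) = o.D + o.D := by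
    refine ((ρw.toAddEquiv.toIntLinearEquiv).finrank_eq.symm).trans ?_
    rw [Module.finrank_eq_card_basis b, Fintype.card_sum, Fintype.card_fin]
  rw [hg, show g = o.D by omega]

include hk hint hπw hweil hinj ρw hρw in
/-- The degree of a polynomial in the Frobenius. -/
theorem degI_aeval (Q : Polynomial ℤ)
    (hd : LinearMap.det (Algebra.lmul ℤ (AdjoinRoot (PP ϖ)) (AdjoinRoot.mk (PP ϖ) Q)) ≠ 0) :
    IsFinite (aeval (EndAV.End.of πw) Q).toHom.left ∧ Surjective (aeval (EndAV.End.of πw) Q).toHom.left ∧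
      degI (aeval (EndAV.End.of πw) Q).toHom =
        (LinearMap.det (Algebra.lmul ℤ (AdjoinRoot (PP ϖ)) (AdjoinRoot.mk (PP ϖ) Q))).natAbs := by
  obtain ⟨l, hlp, hl⟩ := TateTors22.exists_prime_ne_zero k
  haveI := Fact.mk hlp
  haveI : AlgebraicGeometry.IsIntegral Aw.left := GeometricallyIntegral.isIntegral_of_subsingleton Aw.hom
  let L := AlgebraicClosure k
  obtain ⟨hw, t, ht, -⟩ := exists_generator hk hint L l hπw hweil hinj ρw hρw hl
  haveI := TateTors22.free_tateMod (A := Aw) (K := L) l hl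
  haveI := TateTors22.finite_tateMod (A := Aw) (K := L) l hl
  set θ := aeval (EndAV.End.of πw) Q
  set z := AdjoinRoot.mk (Pl l ϖ) (Q.map (Int.castRingHom ℤ_[l]))
  set T := EndAV.End.tateRep l (SGA7.pt (K := k) L) θ
  have hact : act L l (EndAV.End.of πw) hw z = T := by
    show Polynomial.aeval _ (Q.map (Int.castRingHom ℤ_[l])) = _
    rw [show Int.castRingHom ℤ_[l] = algebraMap ℤ ℤ_[l] from RingHom.ext_int _ _, Polynomial.aeval_map_algebraMap]
    exact aeval_ringHom _ _ _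
  let e := coord L l hw t ht
  have hconj : T = e.symm.toLinearMap ∘ₗ Algebra.lmul ℤ_[l] (AdjoinRoot (Pl l ϖ)) z ∘ₗ e.toLinearMap := by
    refine LinearMap.ext fun x => e.injective ?_
    rw [← hact]
    exact (coord_act L l hw t ht z x).trans (e.apply_symm_apply _).symm
  have hdet : LinearMap.det T =
      ((LinearMap.det (Algebra.lmul ℤ (AdjoinRoot (PP ϖ)) (AdjoinRoot.mk (PP ϖ) Q)) : ℤ) : ℤ_[l]) := by
    rw [hconj]
    refine (LinearMap.det_conj (Algebra.lmul ℤ_[l] (AdjoinRoot (Pl l ϖ)) z) e.symm).trans ?_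
    exact (det_lmul_map (Int.castRingHom ℤ_[l]) (PP ϖ) (monic_PP hint) Q).symm
  have hTinj : Function.Injective T := by
    rw [← LinearMap.ker_eq_bot]
    by_contra h
    have h0 := LinearMap.det_eq_zero_iff_ker_ne_bot.2 h
    rw [hdet, Int.cast_eq_zero] at h0
    exact hd h0
  have hfin : IsFinite θ.toHom.left :=
    (TateTors22.isFinite_iff_injective_tateMap (A := Aw) (B := Aw) (K := L) l hl θ.toHom).2 hTinj
  haveI := hfin
  obtain ⟨hs, -, -, -⟩ := AVDegree22.finite_props θ hfin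
  haveI := hs
  refine ⟨hfin, hs, ?_⟩
  have h := AVDegree22.deg_eq_det (A := Aw) L l hl θ hfin
  rw [← EndAV.End.tateRep_apply, hdet] at h
  have h1 : ((AVDegree22.deg θ : ℕ) : ℤ) = LinearMap.det (Algebra.lmul ℤ (AdjoinRoot (PP ϖ)) (AdjoinRoot.mk (PP ϖ) Q)) :=
    Int.cast_injective (α := ℤ_[l]) (by push_cast; exact h)
  rw [← h1, Int.natAbs_natCast, AVDegree22.deg]
  exact (degI_eq ⟨Aw⟩ ⟨Aw⟩ θ.toHom _).symm

omit [Finite k] in
theorem torsionBy_iff {T B : Over (Spec (CommRingCat.of k))} [GrpObj B] [IsCommMonObj B] (q : ℕ)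
    (x : Additive (T ⟶ B)) :
    x ∈ AddSubgroup.torsionBy (Additive (T ⟶ B)) (q : ℤ) ↔ x.toMul ≫ (𝟙 B ^ q) = 1 := by
  rw [MonObj.comp_pow, Category.comp_id]
  show (q : ℤ) • x = 0 ↔ _
  rw [natCast_zsmul]
  exact ⟨fun h => congrArg Additive.toMul h, fun h => congrArg Additive.ofMul h⟩

theorem aeval_pts {T B : Over (Spec (CommRingCat.of k))} [GrpObj B] [IsCommMonObj B] (a : EndAV.End B)
    (Q : Polynomial ℤ) (x : Additive (T ⟶ B)) :
    aeval (EndAV.End.ptsRep T a) Q x = Additive.ofMul (x.toMul ≫ (aeval a Q).toHom) := by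
  rw [aeval_ringHom]; rfl

include hk hint hπw hweil hinj ρw hρw o in
/-- The prime-to-`p` torsion is cyclic. -/
theorem hasFunctional_pts_ne {q : ℕ} [Fact q.Prime] (hqp : q ≠ p) :
    HasFunctional (EndAV.End.ptsRep (VecGrp.pt k Ω) (EndAV.End.of πw)) q := by
  haveI : IsAlgClosed Ω := IsAlgClosure.isAlgClosed k
  haveI : AlgebraicGeometry.IsIntegral Aw.left := GeometricallyIntegral.isIntegral_of_subsingleton Aw.hom
  have hg := dim_Aw hk hint hπw hweil hinj ρw hρw o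
  haveI : CharP k p := charP_field hk k
  have hqk : (q : k) ≠ 0 := fun h => hqp
    ((Nat.prime_dvd_prime_iff_eq Fact.out Fact.out).1 ((CharP.cast_eq_zero_iff k p q).1 h)).symm
  have hq0 : 0 < q := (Fact.out : q.Prime).pos
  let e : AddSubgroup.torsionBy (Additive (VecGrp.pt k Ω ⟶ Aw)) (q : ℤ) ≃
      AbDual.torsPts Aw q (SGA7.pt (K := k) Ω) :=
    { toFun := fun x => ⟨x.1.toMul, by
        have := (torsionBy_iff q x.1).1 x.2
        rwa [MonObj.comp_pow, Category.comp_id] at this⟩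
      invFun := fun a => ⟨Additive.ofMul a.1, (torsionBy_iff q _).2 (by
        rw [MonObj.comp_pow, Category.comp_id]; exact a.2)⟩
      left_inv := fun _ => rfl
      right_inv := fun _ => rfl }
  have hcard : Nat.card (AddSubgroup.torsionBy (Additive (VecGrp.pt k Ω ⟶ Aw)) (q : ℤ)) = q ^ (2 * o.D) := by
    rw [Nat.card_congr e]
    exact AVDegree22.card_tors (A := Aw) Ω hg hqk
  refine hasFunctional_of_bound _ (Nat.finite_of_card_ne_zero (by rw [hcard]; positivity)) hcard.le fun Q hQ hkill => ?_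
  obtain ⟨hf, hs, -⟩ := mulN_props (⟨Aw⟩ : AV k) hg hq0
  haveI := hf
  haveI := hs
  haveI := TateTors22.isMonHom_pow (A := Aw) q
  obtain ⟨r, _, hr⟩ := exists_factor_of_pts Ω ⟨Aw⟩ ⟨Aw⟩ ⟨Aw⟩ (𝟙 Aw ^ q) (aeval (EndAV.End.of πw) Q).toHom
    (fun t ht => by
      have h1 : t ^ q = 1 := by
        have := ht.2
        rwa [MonObj.comp_pow, Category.comp_id] at this
      have h2 : t ^ p = 1 := by
        have := comp_pow_tan hk ⟨Aw⟩ hπw t ht.1
        rwa [MonObj.comp_pow, Category.comp_id] at this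
      have h3 : t ^ Nat.gcd q p = 1 := pow_gcd_eq_one.2 ⟨h1, h2⟩
      rwa [Nat.Coprime.gcd_eq_one ((Nat.coprime_primes Fact.out Fact.out).2 hqp), pow_one] at h3)
    (fun a ha => by
      have := hkill (Additive.ofMul a) ((torsionBy_iff q _).2 ha)
      rw [aeval_pts] at this
      exact congrArg Additive.toMul this)
  have hθ : aeval (Fw p ϖ) Q = (q : _) * ρw.symm (EndAV.End.of r) := by
    refine ρw.injective ?_
    rw [rho_aeval, rho_F ρw hρw, map_mul, map_natCast, RingEquiv.apply_symm_apply, Nat.cast_comm]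
    apply EndAV.End.ext
    rw [EndAV.End.toHom_mul, EndAV.End.toHom_natCast]
    exact hr.symm
  obtain ⟨χ, hχ⟩ := exists_red_unit o hqp
  intro i
  refine coeff_dvd_of_degree_lt (dvd_of_hom χ _ _ hχ Q hθ) (hQ.trans_le ?_) i
  rw [show (∏ j, minpoly ℤ (ϖ j)) = PP ϖ from rfl, (monic_PP hint).degree_map (Int.castRingHom (ZMod q)),
    Polynomial.degree_eq_natDegree (monic_PP hint).ne_zero]
  exact le_of_eq (congrArg _ o.hdeg.symm)

include hk hint hπw hweil hinj ρw hρw o in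
/-- The `p`-torsion is cyclic. -/
theorem hasFunctional_pts_p : HasFunctional (EndAV.End.ptsRep (VecGrp.pt k Ω) (EndAV.End.of πw)) p := by
  haveI : IsAlgClosed Ω := IsAlgClosure.isAlgClosed k
  haveI : AlgebraicGeometry.IsIntegral Aw.left := GeometricallyIntegral.isIntegral_of_subsingleton Aw.hom
  have hg := dim_Aw hk hint hπw hweil hinj ρw hρw o
  have hp : p.Prime := Fact.out
  obtain ⟨hcm, hcd, hPc, -⟩ := cPoly_props o hint
  set c := cPoly p ϖ o.D
  obtain ⟨hr, hfac, hdvd⟩ := Polynomial.exists_eq_pow_rootMultiplicity_mul_and_not_dvd c hcm.ne_zero 0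
  set j0 := c.rootMultiplicity 0
  rw [map_zero, sub_zero] at hfac hdvd
  have hrm : hr.Monic := by
    have := hcm
    rw [hfac] at this
    exact (Polynomial.monic_X.pow j0).of_mul_monic_left this
  have hcop : IsCoprime hr (Polynomial.X : Polynomial (ZMod p)) :=
    ((Polynomial.irreducible_X).coprime_iff_not_dvd.2 hdvd).symm
  obtain ⟨Q₀, mm, hQ₀, hmm, hdet⟩ := exists_lift_det (PP ϖ) (monic_PP hint) hr hrm
    (Polynomial.X ^ (o.D + j0)) (by rw [PP, hPc, hfac, pow_add]; ring) hcop.pow_right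
  have hdet0 : LinearMap.det (Algebra.lmul ℤ (AdjoinRoot (PP ϖ)) (AdjoinRoot.mk (PP ϖ) Q₀)) ≠ 0 := by
    rw [← Int.natAbs_ne_zero, hdet]
    exact mul_ne_zero (pow_ne_zero _ hp.ne_zero) fun h => hmm (h ▸ dvd_zero p)
  obtain ⟨hθf, hθs, hθd⟩ := degI_aeval hk hint hπw hweil hinj ρw hρw Q₀ hdet0
  haveI := hθf
  haveI := hθs
  set θ₀ := aeval (EndAV.End.of πw) Q₀
  obtain ⟨hpf, hps, hpd⟩ := mulN_props (⟨Aw⟩ : AV k) hg hp.pos
  haveI := hpf
  haveI := hps
  haveI := TateTors22.isMonHom_pow (A := Aw) p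
  obtain ⟨Z, h, g, r, _, _, _, _, _, _, _, hhg, hhr, hker⟩ := exists_split ⟨Aw⟩ ⟨Aw⟩ ⟨Aw⟩ (𝟙 Aw ^ p) θ₀.toHom
  -- the degree of `h` is a small power of `p`
  have hdh : degI h ≤ p ^ hr.natDegree := by
    obtain ⟨hrf, hrs⟩ := isogeny_of_comp ⟨Aw⟩ Z ⟨Aw⟩ h r (by rw [hhr]; exact hθf) (by rw [hhr]; exact hθs)
    haveI := hrf
    haveI := hrs
    have h1 : degI h ∣ p ^ hr.natDegree * mm := by
      rw [← hdet, ← hθd, ← hhr, degI_comp ⟨Aw⟩ Z ⟨Aw⟩ h r]
      exact dvd_mul_right _ _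
    have h2 : degI h ∣ p ^ (2 * o.D) := by
      rw [← hpd, ← hhg, degI_comp ⟨Aw⟩ Z ⟨Aw⟩ h g]
      exact dvd_mul_right _ _
    exact Nat.le_of_dvd (pow_pos hp.pos _)
      (((Nat.Coprime.pow_left (2 * o.D) ((Nat.Prime.coprime_iff_not_dvd hp).2 hmm)).coprime_dvd_left h2).dvd_of_dvd_mul_right h1)
  -- the unit-root factor kills the torsion
  have hC : ∀ (a : VecGrp.pt k Ω ⟶ Aw), a ≫ (𝟙 Aw ^ p) = 1 → a ≫ θ₀.toHom = 1 := by
    intro a ha
    have hv : a ≫ (ρw (Vw p ϖ)).toHom = 1 := by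
      refine piFrob_injective hk Ω hπw ?_
      rw [MonObj.one_comp, Category.assoc, ← hπw.comm hk hπw (ρw (Vw p ϖ)).toHom |>.symm,
        piw_comp_vw hint hweil ρw hρw, ha]
    let C₀ : Polynomial ℤ := ∑ i ∈ Finset.range (o.D + 1), Polynomial.C ((∏ j, minpoly ℤ (ϖ j)).coeff (o.D + i)) * Polynomial.X ^ i
    have hmem := o.ker.ge (Ideal.subset_span (Set.mem_insert_of_mem _ rfl))
    rw [RingHom.mem_ker, toProd_eq_aeval] at hmem
    have hz : ∃ θ', aeval (Fw p ϖ) C₀ = θ' * Vw p ϖ := by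
      refine ⟨-((o.ε : _) * ∑ i ∈ Finset.range o.D, ((∏ j, minpoly ℤ (ϖ j)).coeff (o.D + (i + 1)) : _) * Vw p ϖ ^ i), ?_⟩
      have h0 : MvPolynomial.aeval ![Fw p ϖ, Vw p ϖ] (WeilNum29.hcan o.D o.ε (∏ j, minpoly ℤ (ϖ j))) = 0 := by
        refine Subtype.ext ?_
        rw [← Subalgebra.coe_val, ← AlgHom.comp_apply, MvPolynomial.comp_aeval]
        refine Eq.trans ?_ hmem
        congr 2
        funext i
        fin_cases i
        · exact MvPolynomial.aeval_X _ 0
        · exact MvPolynomial.aeval_X _ 1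
      rw [aeval_hcan, add_eq_zero_iff_eq_neg] at h0
      simp only [C₀, map_sum, map_mul, map_pow, map_intCast, Polynomial.aeval_X, eq_intCast]
      rw [h0]
      simp only [pow_succ, ← mul_assoc, ← Finset.sum_mul]
      ring
    obtain ⟨θ', hθ'⟩ := hz
    have h1 : a ≫ (aeval (EndAV.End.of πw) C₀).toHom = 1 := by
      rw [← rho_F ρw hρw, ← rho_aeval, hθ', map_mul, EndAV.End.toHom_mul, ← Category.assoc, hv, MonObj.one_comp]
    obtain ⟨E₀, hE₀⟩ : Polynomial.C (p : ℤ) ∣ C₀ - Polynomial.X ^ j0 * Q₀ := by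
      refine (Polynomial.C_dvd_iff_dvd_coeff _ _).2 fun i => (ZMod.intCast_zmod_eq_zero_iff_dvd _ _).1 ?_
      have h2 : (C₀ - Polynomial.X ^ j0 * Q₀).map (Int.castRingHom (ZMod p)) = 0 := by
        rw [Polynomial.map_sub, Polynomial.map_mul, Polynomial.map_pow, Polynomial.map_X, hQ₀, ← hfac, sub_eq_zero]
        simp [C₀, c, cPoly, Polynomial.map_sum]
      have := congrArg (fun f : Polynomial (ZMod p) => f.coeff i) h2
      rwa [Polynomial.coeff_map, Polynomial.coeff_zero, eq_intCast] at this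
    have h2 : aeval (EndAV.End.of πw) C₀ =
        EndAV.End.of πw ^ j0 * θ₀ + aeval (EndAV.End.of πw) E₀ * (p : EndAV.End Aw) := by
      rw [show C₀ = Polynomial.X ^ j0 * Q₀ + E₀ * Polynomial.C (p : ℤ) by rw [mul_comm E₀, ← hE₀]; ring,
        map_add, map_mul, map_mul, map_pow, Polynomial.aeval_X, Polynomial.aeval_C, map_natCast]
    rw [h2, EndAV.End.toHom_add, EndAV.End.toHom_mul, EndAV.End.toHom_mul, EndAV.End.toHom_natCast, MonObj.comp_mul,
      ← Category.assoc a (𝟙 Aw ^ p), ha, MonObj.one_comp, _root_.mul_one, ← Category.assoc] at h1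
    have hpowinj : ∀ (i : ℕ) (y : VecGrp.pt k Ω ⟶ Aw), y ≫ (EndAV.End.of πw ^ i).toHom = 1 → y = 1 := fun i => by
      induction i with
      | zero => intro y hy; rw [pow_zero] at hy; exact (Category.comp_id y).symm.trans hy
      | succ i ih =>
        intro y hy
        rw [EndAV.End.toHom_pow_succ, ← Category.assoc] at hy
        exact ih y (piFrob_injective hk Ω hπw (hy.trans (MonObj.one_comp _).symm))
    exact hpowinj j0 _ h1
  have hsub : ∀ x : AddSubgroup.torsionBy (Additive (VecGrp.pt k Ω ⟶ Aw)) (p : ℤ),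
      x.1.toMul ∈ KerPts (VecGrp.pt k Ω) h := fun x =>
    (hker _ _).2 ⟨(torsionBy_iff p x.1).1 x.2, hC _ ((torsionBy_iff p x.1).1 x.2)⟩
  obtain ⟨hfinP, hleP⟩ := finite_kerPts_and_card_le Ω ⟨Aw⟩ Z h
  haveI := hfinP.to_subtype
  have hincl : Function.Injective fun x => (⟨_, hsub x⟩ : KerPts (VecGrp.pt k Ω) h) := fun x y e =>
    by have e' := congrArg Subtype.val e; exact Subtype.ext e' 
  refine hasFunctional_of_bound _ (Finite.of_injective _ hincl)
    ((Nat.card_le_card_of_injective _ hincl).trans (hleP.trans hdh)) fun Q hQ hkill => ?_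
  -- a polynomial of small degree killing the torsion is divisible by `p`
  obtain ⟨Z', h', g', r', _, _, _, _, _, _, _, hhg', hhr', hker'⟩ :=
    exists_split ⟨Aw⟩ ⟨Aw⟩ ⟨Aw⟩ (𝟙 Aw ^ p) (aeval (EndAV.End.of πw) Q).toHom
  obtain ⟨π', _, hπ'⟩ := exists_pFrob hk Z'
  obtain ⟨m, u, _, -, hu⟩ := exists_pow_factor hk Ω (degI g') Z' ⟨Aw⟩ g' π' hπ' πw hπw le_rfl fun y hy => by
    obtain ⟨x, hx⟩ := exists_lift_pt Ω h' y
    have hxp : x ≫ (𝟙 Aw ^ p) = 1 := by rw [← hhg', ← Category.assoc, hx]; exact hy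
    have hxq := hkill (Additive.ofMul x) ((torsionBy_iff p _).2 hxp)
    rw [aeval_pts] at hxq
    rw [← hx]
    exact (hker' _ x).2 ⟨hxp, congrArg Additive.toMul hxq⟩
  have hcomm : (EndAV.End.of πw ^ m).toHom ≫ h' = h' ≫ (EndAV.End.of π' ^ m).toHom := by
    clear hu
    induction m with
    | zero => rw [pow_zero, pow_zero]; exact (Category.id_comp _).trans (Category.comp_id _).symm
    | succ m ih =>
      rw [EndAV.End.toHom_pow_succ, EndAV.End.toHom_pow_succ, ← reassoc_of% ih, Category.assoc]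
      show _ ≫ πw ≫ h' = _ ≫ h' ≫ π'
      rw [IsPFrob.comm hk hπw hπ' h']
  have hθ : aeval (Fw p ϖ) (Q * Polynomial.X ^ m) = (p : _) * ρw.symm (EndAV.End.of (u ≫ r')) := by
    refine ρw.injective ?_
    rw [rho_aeval, rho_F ρw hρw, map_mul, map_mul, map_pow, Polynomial.aeval_X, map_natCast,
      RingEquiv.apply_symm_apply, Nat.cast_comm]
    apply EndAV.End.ext
    rw [EndAV.End.toHom_mul, EndAV.End.toHom_mul, EndAV.End.toHom_natCast, ← hhr', ← Category.assoc, hcomm, ← hu,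
      Category.assoc, Category.assoc, reassoc_of% hhg']
    rfl
  obtain ⟨χ, hχ⟩ := exists_red_F o
  have hd := dvd_of_hom χ _ _ hχ _ hθ
  rw [Polynomial.map_mul, Polynomial.map_pow, Polynomial.map_X] at hd
  intro i
  refine coeff_dvd_of_degree_lt (hcop.pow_right.dvd_of_dvd_mul_right ((Dvd.intro_left _ hfac.symm).trans hd)) ?_ i
  rwa [Polynomial.degree_eq_natDegree hrm.ne_zero]

include hk hint hπw hweil hinj ρw hρw o in
/-- The tangent space is cyclic over the Verschiebung. -/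
theorem hasFunctional_tan (q : ℕ) [Fact q.Prime] : HasFunctional (tanRep (ρw (Vw p ϖ))) q := by
  have hg := dim_Aw hk hint hπw hweil hinj ρw hρw o
  have hp : p.Prime := Fact.out
  by_cases hqp : q = p
  swap
  · refine ⟨0, fun w _ => ?_⟩
    have h1 : q • (w : Tn Aw) = 0 := by rw [← natCast_zsmul]; exact w.2
    have h2 : p • (w : Tn Aw) = 0 := Subtype.ext (congrArg Additive.ofMul (by
      have := comp_pow_tan hk ⟨Aw⟩ hπw _ (w : Tn Aw).2
      rwa [MonObj.comp_pow, Category.comp_id] at this))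
    have h3 : addOrderOf (w : Tn Aw) ∣ Nat.gcd q p :=
      Nat.dvd_gcd (addOrderOf_dvd_of_nsmul_eq_zero h1) (addOrderOf_dvd_of_nsmul_eq_zero h2)
    rw [Nat.Coprime.gcd_eq_one ((Nat.coprime_primes Fact.out hp).2 hqp), Nat.dvd_one, AddMonoid.addOrderOf_eq_one_iff] at h3
    exact Subtype.ext h3
  subst hqp
  obtain ⟨-, -, -, hcd'⟩ := cPoly_props o hint
  obtain ⟨hπf, hπs, -⟩ := exists_versch hk (⟨Aw⟩ : AV k) hπw
  haveI := hπf
  haveI := hπs
  have hdet : (LinearMap.det (Algebra.lmul ℤ (AdjoinRoot (PP ϖ)) (AdjoinRoot.mk (PP ϖ) Polynomial.X))).natAbs = q ^ o.D := by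
    rw [natAbs_det_lmul _ (monic_PP hint), Set.pair_comm, ← natAbs_det_lmul _ Polynomial.monic_X]
    haveI : Module.Free ℤ (AdjoinRoot (Polynomial.X : Polynomial ℤ)) :=
      Module.Free.of_basis (AdjoinRoot.powerBasis' Polynomial.monic_X).basis
    have h1 : AdjoinRoot.mk Polynomial.X (PP ϖ) = (PP ϖ).coeff 0 • (1 : AdjoinRoot (Polynomial.X : Polynomial ℤ)) := by
      rw [zsmul_eq_mul, mul_one, ← map_intCast (AdjoinRoot.mk Polynomial.X), AdjoinRoot.mk_eq_mk]
      exact Polynomial.X_dvd_iff.2 (by simp)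
    rw [h1, map_smul, map_one, Module.End.one_eq_id, LinearMap.det_smul, LinearMap.det_id, mul_one,
      PowerBasis.finrank (AdjoinRoot.powerBasis' Polynomial.monic_X), AdjoinRoot.powerBasis'_dim,
      Polynomial.natDegree_X, pow_one, PP, o.coeff0, Int.natAbs_mul, Int.natAbs_pow, Int.natAbs_natCast,
      show o.ε.natAbs = 1 from Int.isUnit_iff_natAbs_eq.1 (IsUnit.of_mul_eq_one _ o.hε), one_mul]
  obtain ⟨-, -, hdeg⟩ := degI_aeval hk hint hπw hweil hinj ρw hρw Polynomial.X (by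
    rw [← Int.natAbs_ne_zero, hdet]; exact pow_ne_zero _ hp.ne_zero)
  rw [Polynomial.aeval_X, hdet] at hdeg
  have hcardK : Nat.card (KerTan πw) = q ^ o.D :=
    (card_kerTan_eq hk ⟨Aw⟩ ⟨Aw⟩ πw hπw fun _ _ hx => hx).trans hdeg
  haveI : Finite (KerTan πw) := Nat.finite_of_card_ne_zero (hcardK ▸ pow_ne_zero _ hp.ne_zero)
  let incl : AddSubgroup.torsionBy (Tn Aw) (q : ℤ) → KerTan πw := fun x =>
    ⟨x.1.1.toMul, x.1.2, comp_piFrob_tan hk hπw _ x.1.2⟩
  have hincl : Function.Injective incl := fun x y e =>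
    by have e' := congrArg Subtype.val e; exact Subtype.ext (Subtype.ext e')
  refine hasFunctional_of_bound _ (Finite.of_injective _ hincl)
    ((Nat.card_le_card_of_injective _ hincl).trans hcardK.le) fun Q hQ hkill => ?_
  obtain ⟨r, _, hr⟩ := exists_factor_of_tan hk ⟨Aw⟩ ⟨Aw⟩ ⟨Aw⟩ πw (aeval (ρw (Vw q ϖ)) Q).toHom hπw
    (fun _ _ hx => hx) fun t ht => by
      have h1 := hkill ⟨Additive.ofMul t, ht.1⟩ (Subtype.ext (congrArg Additive.ofMul (by
        show t ^ ((q : ℤ)) = 1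
        have := comp_pow_tan hk ⟨Aw⟩ hπw t ht.1
        rwa [MonObj.comp_pow, Category.comp_id, ← zpow_natCast] at this)))
      rw [aeval_ringHom] at h1
      exact congrArg Additive.toMul (congrArg Subtype.val h1)
  have hθ : aeval (Vw q ϖ) Q = ρw.symm (EndAV.End.of r) * Fw q ϖ := by
    refine ρw.injective ?_
    rw [rho_aeval, map_mul, RingEquiv.apply_symm_apply, rho_F ρw hρw]
    apply EndAV.End.ext
    rw [EndAV.End.toHom_mul]
    exact hr.symm
  obtain ⟨χ, hχ0, hχ⟩ := exists_red_V o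
  intro i
  refine coeff_dvd_of_degree_lt (c := cPoly' q ϖ o.D o.ε) ?_ (by rw [hcd']; exact hQ) i
  rw [← AdjoinRoot.mk_eq_zero, ← AdjoinRoot.aeval_eq,
    show Int.castRingHom (ZMod q) = algebraMap ℤ (ZMod q) from RingHom.ext_int _ _, Polynomial.aeval_map_algebraMap,
    ← hχ, aeval_ringHom]
  show χ (aeval (Vw q ϖ) Q) = 0
  rw [hθ, map_mul, show χ (Fw q ϖ) = 0 from hχ0, mul_zero]

end Groth.Agent.MinOrd22

end
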