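import Groth.Agent.Lib.MinOrd22.Kernel

/-!
# The order of a kernel as a number of geometric points or of tangent vectors
-/

universe u

open CategoryTheory Limits MonoidalCategory CartesianMonoidalCategory AlgebraicGeometry MonObj Opposite WithConv
open scoped GrpObj TensorProduct

set_option linter.style.haveILetI false
set_option linter.unusedSectionVars false
set_option maxHeartbeats 1000000
set_option synthInstance.maxHeartbeats 400000
set_option backward.isDefEq.respectTransparency false

noncomputable section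

namespace Groth.Agent.MinOrd22

open GModComod21 (GA toPt ofPt)
open AVQuotH1 (AV unitPt)

variable {k : Type u} [Field k] [Finite k] {p : ℕ} [Fact p.Prime] (hk : Nat.card k = p)

include hk in
/-- A point killed by the Frobenius of the target is killed by the `p`-th power map of the source. -/
theorem comp_piFrob {R : Type u} [CommRing R] [Algebra k R] {Y : Over (Spec (CommRingCat.of k))} {π : Y ⟶ Y}
    (hπ : IsPFrob p π) (x : VecGrp.pt k R ⟶ Y) (φ : R →ₐ[k] R) (hφ : ∀ a, φ a = a ^ p) :
    x ≫ π = VecGrp.ptMap φ ≫ x := by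
  haveI : CharP k p := charP_field hk k
  haveI : FrobSch.IsCharP Y.left p := FrobSch.IsCharP.of_hom Y.hom p
  obtain ⟨-, hle, happ⟩ := hπ
  have hF : π.left = FrobSch.frob Y.left p := FrobPull22.eq_of_appLE_eq _ _ hle (fun U => le_rfl) fun U s => by
    rw [happ]
    exact (ConcreteCategory.congr_hom ((FrobSch.frob Y.left p).appLE_eq_app (U := U)) s).symm
  haveI : FrobSch.IsCharP (VecGrp.pt k R).left p := FrobSch.IsCharP.of_hom (VecGrp.pt k R).hom p
  apply Over.OverMorphism.ext
  show x.left ≫ π.left = (VecGrp.ptMap φ).left ≫ x.left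
  rw [hF, ← FrobSch.frob_comp]
  congr 1
  refine ext_of_isAffine ?_
  ext s
  refine (Scheme.ΓSpecIso (CommRingCat.of R)).commRingCatIsoToRingEquiv.injective ?_
  show (Scheme.ΓSpecIso (CommRingCat.of R)).hom (s ^ p : Γ(Spec (CommRingCat.of R), ⊤)) =
    (Scheme.ΓSpecIso (CommRingCat.of R)).hom ((Spec.map _).appTop s)
  rw [map_pow, ← ConcreteCategory.comp_apply, Scheme.ΓSpecIso_naturality, ConcreteCategory.comp_apply]
  exact (hφ _).symm

include hk in
/-- The `p`-th power as an algebra endomorphism. -/
theorem exists_frobAlgHom (R : Type u) [CommRing R] [Algebra k R] [Nontrivial R] :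
    ∃ φ : R →ₐ[k] R, ∀ a, φ a = a ^ p := by
  haveI : CharP k p := charP_field hk k
  haveI : CharP R p := charP_of_injective_algebraMap (algebraMap k R).injective p
  refine ⟨{ frobenius R p with commutes' := fun c => ?_ }, fun a => rfl⟩
  show frobenius R p (algebraMap k R c) = _
  letI := Fintype.ofFinite k
  rw [frobenius_def, ← map_pow, ← hk, Nat.card_eq_fintype_card, FiniteField.pow_card]

include hk in
/-- The tangent vectors exhaust a kernel contained in the Frobenius kernel. -/
theorem card_kerTan_eq (B X : AV k) (g : B.X ⟶ X.X) [IsMonHom g] [IsFinite g.left] [Surjective g.left]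
    {πB : B.X ⟶ B.X} [IsMonHom πB] (hπB : IsPFrob p πB)
    (hh : ∀ (T : Over (Spec (CommRingCat.of k))) (x : T ⟶ B.X), x ≫ g = 1 → x ≫ πB = 1) :
    Nat.card (KerTan g) = degI g := by
  obtain ⟨R, _, _, _, j, _, _, hj, hlift, hdeg⟩ := exists_hopf B X g
  haveI : CharP k p := charP_field hk k
  haveI : Nontrivial R := Module.nontrivial_of_finrank_pos (R := k) (hdeg ▸ degI_pos B X g)
  obtain ⟨φ, hφ⟩ := exists_frobAlgHom hk R
  have h1 : ∀ a : R, Bialgebra.counitAlgHom k R a = 0 → a ^ p = 0 := fun a ha => by
    have h := hh _ (toPt (AlgHom.id k R) ≫ j) (by rw [Category.assoc, hj, MonObj.comp_one])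
    rw [comp_piFrob hk hπB _ φ hφ, ← Category.assoc, GModComod21.ptMap_toPt, AlgHom.comp_id,
      ← toPt_comp_one (j := j), cancel_mono] at h
    have h' : φ = (Algebra.ofId k R).comp (Bialgebra.counitAlgHom k R) := by
      rw [← GModComod21.ofPt_toPt φ, h, GModComod21.ofPt_toPt]
    rw [← hφ, h', AlgHom.comp_apply, ha, map_zero]
  rw [card_kerTan_eq_derivations hj hlift, card_derivations, hk, ← hdeg]
  exact (HeightOne.exists_generators h1).symm

variable (Ω : Type u) [Field Ω] [Algebra k Ω] [IsAlgClosed Ω]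

omit [Finite k] in
/-- The points of a kernel are at most as many as its order. -/
theorem finite_kerPts_and_card_le (B X : AV k) (g : B.X ⟶ X.X) [IsMonHom g] [IsFinite g.left] [Surjective g.left] :
    (KerPts (VecGrp.pt k Ω) g).Finite ∧ Nat.card (KerPts (VecGrp.pt k Ω) g) ≤ degI g := by
  obtain ⟨R, _, _, _, j, _, _, hj, hlift, hdeg⟩ := exists_hopf B X g
  have hb := bijective_toPt hj hlift Ω
  haveI : Finite (R →ₐ[k] Ω) := inferInstance
  haveI : Finite (KerPts (VecGrp.pt k Ω) g) := Finite.of_surjective _ hb.2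
  refine ⟨Set.toFinite _, ?_⟩
  rw [← Nat.card_eq_of_bijective _ hb, ← hdeg]
  exact card_algHom_le_finrank k R Ω

/-- Without tangent vectors the points exhaust the kernel. -/
theorem card_kerPts_eq (B X : AV k) (g : B.X ⟶ X.X) [IsMonHom g] [IsFinite g.left] [Surjective g.left]
    (htan : ∀ t ∈ KerTan g, t = 1) : Nat.card (KerPts (VecGrp.pt k Ω) g) = degI g := by
  obtain ⟨R, _, _, _, j, _, _, hj, hlift, hdeg⟩ := exists_hopf B X g
  have hT : Nat.card (KerTan g) ≤ 1 := by
    haveI : Subsingleton (KerTan g) := ⟨fun a b => Subtype.ext ((htan a a.2).trans (htan b b.2).symm)⟩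
    exact Finite.card_le_one_iff_subsingleton.2 inferInstance
  rw [card_kerTan_eq_derivations hj hlift, card_derivations] at hT
  set ε := Bialgebra.counitAlgHom k R
  set W := ((RingHom.ker ε) ^ 2).restrictScalars k ⊔ Submodule.span k ({1} : Set R)
  have hk1 : 1 < Nat.card k := Finite.one_lt_card
  have hW0 : Module.finrank k (R ⧸ W) = 0 := by
    by_contra h
    exact absurd hT (not_le.2 (Nat.one_lt_pow h hk1))
  have hW : W = ⊤ := by
    haveI : Subsingleton (R ⧸ W) := Module.finrank_zero_iff.1 hW0
    exact Submodule.Quotient.subsingleton_iff.1 inferInstance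
  haveI : Algebra.Etale k R := etale_of_cotangent_eq_zero fun a ha => by
    obtain ⟨u, hu, v, hv, huv⟩ := Submodule.mem_sup.1 (show a ∈ W by rw [hW]; trivial)
    obtain ⟨c, rfl⟩ := Submodule.mem_span_singleton.1 hv
    have hu0 : ε u = 0 := Ideal.pow_le_self two_ne_zero (show u ∈ RingHom.ker ε ^ 2 from hu)
    have hc : c = 0 := by
      have := congrArg ε huv
      simpa [hu0, show ε a = 0 from ha] using this
    rw [← huv, hc, zero_smul, add_zero]
    exact hu
  haveI : IsReduced (Ω ⊗[k] R) := Algebra.FormallyUnramified.isReduced_of_field Ω (Ω ⊗[k] R)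
  rw [← Nat.card_eq_of_bijective _ (bijective_toPt hj hlift Ω), ← hdeg,
    ← Module.finrank_baseChange (R := Ω) (S := k) (M' := R),
    ← AVDegree22.card_algHom_eq_finrank (k := Ω) (Ω ⊗[k] R)]
  exact Nat.card_congr (Algebra.TensorProduct.liftEquivRight k Ω R Ω)

end Groth.Agent.MinOrd22

end
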