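import Mathlib.RingTheory.AdjoinRoot
import Mathlib.RingTheory.Ideal.AssociatedPrime.Localization
import Mathlib.RingTheory.LocalRing.Module
import Mathlib.RingTheory.Artinian.Ring
import Mathlib.RingTheory.HopkinsLevitzki
import Mathlib.RingTheory.KrullDimension.Basic
import Mathlib.RingTheory.Ideal.GoingUp
import Mathlib.LinearAlgebra.Dual.Basis

/-!
# Lattices over monogenic orders: duality and cyclicity
-/

set_option autoImplicit false
set_option linter.style.haveILetI false

open Polynomial

noncomputable section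

namespace Groth.Agent.MinOrd22

variable {O : Type*} [CommRing O] {P : O[X]}

/-- The coefficient of the top power. -/
def eps (hP : P.Monic) : AdjoinRoot P →ₗ[O] O :=
  (Polynomial.lcoeff O (P.natDegree - 1)) ∘ₗ AdjoinRoot.modByMonicHom hP

theorem eps_root_pow (hP : P.Monic) {i : ℕ} (hi : i < P.natDegree) :
    eps hP (AdjoinRoot.root P ^ i) = if i = P.natDegree - 1 then 1 else 0 := by
  nontriviality O
  rw [← AdjoinRoot.mk_X, ← map_pow]
  show ((AdjoinRoot.modByMonicHom hP) (AdjoinRoot.mk P (X ^ i))).coeff (P.natDegree - 1) = _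
  rw [AdjoinRoot.modByMonicHom_mk, (modByMonic_eq_self_iff hP).2 (by
    rw [degree_X_pow, degree_eq_natDegree hP.ne_zero]; exact_mod_cast hi), coeff_X_pow]
  simp only [eq_comm]

theorem exists_eps_mul_eq (hP : P.Monic) (c : ℕ → O) : ∀ j ≤ P.natDegree,
    ∃ r : AdjoinRoot P, ∀ i < j, eps hP (r * AdjoinRoot.root P ^ i) = c i
  | 0, _ => ⟨0, fun i hi => absurd hi (Nat.not_lt_zero i)⟩
  | j + 1, hj => by
    obtain ⟨r, hr⟩ := exists_eps_mul_eq hP c j (Nat.le_of_succ_le hj)
    refine ⟨r + (c j - eps hP (r * AdjoinRoot.root P ^ j)) • AdjoinRoot.root P ^ (P.natDegree - 1 - j), fun i hi => ?_⟩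
    rw [add_mul, map_add, smul_mul_assoc, map_smul, ← pow_add, eps_root_pow hP (by omega), smul_eq_mul]
    rcases Nat.lt_succ_iff_lt_or_eq.1 hi with h | rfl
    · rw [if_neg (by omega), mul_zero, add_zero, hr i h]
    · rw [if_pos (by omega), mul_one, add_sub_cancel]

/-- The pairing given by `eps` is perfect. -/
theorem bijective_eps_mul (hP : P.Monic) :
    Function.Bijective fun r : AdjoinRoot P => eps hP ∘ₗ LinearMap.mulLeft O r := by
  haveI : Module.Free O (AdjoinRoot P) := Module.Free.of_basis (AdjoinRoot.powerBasis' hP).basis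
  haveI : Module.Finite O (AdjoinRoot P) := hP.finite_adjoinRoot
  let D : AdjoinRoot P →ₗ[O] Module.Dual O (AdjoinRoot P) :=
    { toFun := fun r => eps hP ∘ₗ LinearMap.mulLeft O r
      map_add' := fun a b => LinearMap.ext fun x => by simp [add_mul]
      map_smul' := fun c a => LinearMap.ext fun x => by simp }
  have hs : Function.Surjective D := fun μ => by
    obtain ⟨r, hr⟩ := exists_eps_mul_eq hP (fun i => μ (AdjoinRoot.root P ^ i)) P.natDegree le_rfl
    refine ⟨r, (AdjoinRoot.powerBasis' hP).basis.ext fun i => ?_⟩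
    rw [PowerBasis.basis_eq_pow, AdjoinRoot.powerBasis'_gen]
    exact hr i i.isLt
  let b := (AdjoinRoot.powerBasis' hP).basis
  refine ⟨?_, hs⟩
  have h2 : Function.Injective (b.toDualEquiv.symm.toLinearMap ∘ₗ D) :=
    OrzechProperty.injective_of_surjective_endomorphism _ (b.toDualEquiv.symm.surjective.comp hs)
  intro x y h
  exact h2 (congrArg b.toDualEquiv.symm h)

variable (hP : P.Monic) {T : Type*} [AddCommGroup T] [Module O T]
  (φ : AdjoinRoot P →ₐ[O] Module.End O T)

/-- The pairing map as an equivalence. -/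
def epsEquiv : AdjoinRoot P ≃ₗ[O] Module.Dual O (AdjoinRoot P) :=
  LinearEquiv.ofBijective
    { toFun := fun r => eps hP ∘ₗ LinearMap.mulLeft O r
      map_add' := fun a b => LinearMap.ext fun x => by simp [add_mul]
      map_smul' := fun c a => LinearMap.ext fun x => by simp }
    (bijective_eps_mul hP)

/-- The equivariant map attached to a functional. -/
def liftDual (μ : T →ₗ[O] O) : T →ₗ[O] AdjoinRoot P :=
  (epsEquiv hP).symm.toLinearMap ∘ₗ
    { toFun := fun t => μ ∘ₗ φ.toLinearMap.flip t
      map_add' := fun a b => LinearMap.ext fun x => by simp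
      map_smul' := fun c a => LinearMap.ext fun x => by simp }

theorem eps_liftDual (μ : T →ₗ[O] O) (t : T) (x : AdjoinRoot P) :
    eps hP (liftDual hP φ μ t * x) = μ (φ x t) :=
  LinearMap.congr_fun ((epsEquiv hP).apply_symm_apply (μ ∘ₗ φ.toLinearMap.flip t)) x

theorem eq_of_eps_mul {a b : AdjoinRoot P} (h : ∀ x, eps hP (a * x) = eps hP (b * x)) : a = b :=
  (bijective_eps_mul hP).1 (LinearMap.ext h)

theorem liftDual_smul (μ : T →ₗ[O] O) (r : AdjoinRoot P) (t : T) :
    liftDual hP φ μ (φ r t) = r * liftDual hP φ μ t :=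
  eq_of_eps_mul hP fun x => by
    rw [eps_liftDual, mul_comm r, mul_assoc, eps_liftDual, map_mul, Module.End.mul_apply]
    congr 1
    rw [← Module.End.mul_apply, ← map_mul, mul_comm x r, map_mul, Module.End.mul_apply]

/-- An equivariant map is determined by the functional it induces. -/
theorem eq_liftDual (g : T →ₗ[O] AdjoinRoot P) (hg : ∀ r t, g (φ r t) = r * g t) :
    g = liftDual hP φ (eps hP ∘ₗ g) :=
  LinearMap.ext fun t => eq_of_eps_mul hP fun x => by
    rw [eps_liftDual, LinearMap.comp_apply, hg, mul_comm]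

include hP in
/-- A faithful lattice whose commutant is the order is free of rank one. -/
theorem exists_cyclic [IsDomain O] [IsLocalRing O] [IsNoetherianRing O] (ϖ : O) (hϖ : ϖ ≠ 0)
    (hmax : IsLocalRing.maximalIdeal O = Ideal.span {ϖ}) [Module.Free O T] [Module.Finite O T]
    (hinj : Function.Injective φ)
    (hend : ∀ g : Module.End O T, (∀ r, g * φ r = φ r * g) → ∃ r, φ r = g) :
    ∃ t : T, Function.Bijective fun r : AdjoinRoot P => φ r t := by
  classical
  haveI : Module.Finite O (AdjoinRoot P) := hP.finite_adjoinRoot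
  haveI : IsNoetherianRing (AdjoinRoot P) := IsNoetherianRing.of_finite O _
  haveI : Algebra.IsIntegral O (AdjoinRoot P) := Algebra.IsIntegral.of_finite O _
  haveI : Module.Free O (AdjoinRoot P) := Module.Free.of_basis (AdjoinRoot.powerBasis' hP).basis
  set π₀ : AdjoinRoot P := algebraMap O _ ϖ
  -- the maximal ideals contain `ϖ`
  have hmem : ∀ m : Ideal (AdjoinRoot P), m.IsMaximal → π₀ ∈ m := fun m hm => by
    haveI := hm
    have h := Ideal.isMaximal_comap_of_isIntegral_of_isMaximal (R := O) m
    have h2 : IsLocalRing.maximalIdeal O = m.comap (algebraMap O (AdjoinRoot P)) :=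
      (IsLocalRing.eq_maximalIdeal h).symm
    have h3 : ϖ ∈ m.comap (algebraMap O (AdjoinRoot P)) := by
      rw [← h2, hmax]; exact Ideal.mem_span_singleton_self ϖ
    exact h3
  haveI hart : IsArtinianRing (AdjoinRoot P ⧸ Ideal.span {π₀}) := by
    haveI : Ring.KrullDimLE 0 (AdjoinRoot P ⧸ Ideal.span {π₀}) := Ring.KrullDimLE.mk₀ fun q hq => by
      haveI := hq
      let q' := q.comap (Ideal.Quotient.mk (Ideal.span {π₀}))
      haveI : q'.IsPrime := Ideal.comap_isPrime _ _
      have hle : IsLocalRing.maximalIdeal O ≤ q'.comap (algebraMap O (AdjoinRoot P)) := by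
        rw [hmax, Ideal.span_singleton_le_iff_mem]
        show Ideal.Quotient.mk (Ideal.span {π₀}) π₀ ∈ q
        rw [Ideal.Quotient.eq_zero_iff_mem.2 (Ideal.mem_span_singleton_self π₀)]
        exact q.zero_mem
      have hcm : (q'.comap (algebraMap O (AdjoinRoot P))).IsMaximal := by
        rw [← (IsLocalRing.maximalIdeal.isMaximal O).eq_of_le (Ideal.IsPrime.ne_top inferInstance) hle]
        exact IsLocalRing.maximalIdeal.isMaximal O
      haveI : q'.IsMaximal := Ideal.isMaximal_of_isIntegral_of_isMaximal_comap q' hcm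
      rw [← Ideal.map_comap_of_surjective _ Ideal.Quotient.mk_surjective q]
      exact Ideal.IsMaximal.map_of_surjective_of_ker_le Ideal.Quotient.mk_surjective
        (fun x hx => by
          show Ideal.Quotient.mk (Ideal.span {π₀}) x ∈ q
          rw [show Ideal.Quotient.mk (Ideal.span {π₀}) x = 0 from hx]
          exact q.zero_mem)
    exact isArtinianRing_iff_krullDimLE_zero.2 inferInstance
  -- at each maximal ideal some equivariant functional is a unit
  have hloc : ∀ m : Ideal (AdjoinRoot P), m.IsMaximal → ∃ (μ : T →ₗ[O] O) (t : T), liftDual hP φ μ t ∉ m := by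
    intro m hm
    by_contra hne
    push Not at hne
    haveI := hm
    obtain ⟨a, ha1, ha2⟩ : ∃ a, a ∉ Ideal.span {π₀} ∧ ∀ y ∈ m, a * y ∈ Ideal.span {π₀} := by
      let M := AdjoinRoot P ⧸ Ideal.span {π₀}
      have h1 : m ∈ (Module.annihilator (AdjoinRoot P) M).minimalPrimes := by
        rw [Ideal.annihilator_quotient]
        refine ⟨⟨hm.isPrime, (Ideal.span_singleton_le_iff_mem _).2 (hmem m hm)⟩, fun q hq hqm => ?_⟩
        haveI := hq.1
        haveI : (q.map (Ideal.Quotient.mk (Ideal.span {π₀}))).IsPrime :=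
          Ideal.map_isPrime_of_surjective Ideal.Quotient.mk_surjective (by rw [Ideal.mk_ker]; exact hq.2)
        haveI : (q.map (Ideal.Quotient.mk (Ideal.span {π₀}))).IsMaximal := IsArtinianRing.isMaximal_of_isPrime _
        have h2 : q.IsMaximal := by
          have := Ideal.comap_isMaximal_of_surjective (Ideal.Quotient.mk (Ideal.span {π₀}))
            Ideal.Quotient.mk_surjective (K := q.map (Ideal.Quotient.mk (Ideal.span {π₀})))
          rwa [Ideal.comap_map_of_surjective _ Ideal.Quotient.mk_surjective, ← RingHom.ker_eq_comap_bot, Ideal.mk_ker,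
            sup_eq_left.2 hq.2] at this
        exact (h2.eq_of_le hm.ne_top hqm).ge
      obtain ⟨-, x, hx⟩ := isAssociatedPrime_iff.1
        (Module.associatedPrimes.minimalPrimes_annihilator_subset_associatedPrimes (AdjoinRoot P) M h1)
      obtain ⟨a, rfl⟩ := Ideal.Quotient.mk_surjective x
      refine ⟨a, fun h => hm.ne_top ?_, fun y hy => ?_⟩
      · rw [hx, Ideal.eq_top_iff_one, Submodule.mem_colon_singleton, one_smul, Submodule.mem_bot]
        exact Ideal.Quotient.eq_zero_iff_mem.2 h
      · rw [hx, Submodule.mem_colon_singleton, Submodule.mem_bot] at hy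
        rw [mul_comm]
        exact Ideal.Quotient.eq_zero_iff_mem.1 hy
    -- `a` is divisible by `ϖ` on the lattice
    let b := Module.Free.chooseBasis O T
    have hdiv : ∀ t, ∃ t', ϖ • t' = φ a t := fun t => by
      have hc : ∀ i, ∃ d, ϖ * d = b.coord i (φ a t) := fun i => by
        obtain ⟨z, hz⟩ := Ideal.mem_span_singleton'.1 (ha2 _ (hne (b.coord i) t))
        refine ⟨eps hP z, ?_⟩
        rw [← eps_liftDual hP φ (b.coord i) t a, mul_comm _ a, ← hz, mul_comm z, ← Algebra.smul_def, map_smul,
          smul_eq_mul]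
      choose d hd using hc
      refine ⟨∑ i, d i • b i, b.ext_elem fun j => ?_⟩
      rw [map_smul, Finsupp.smul_apply, b.repr_sum_self, smul_eq_mul, hd]
      rfl
    choose g hg using hdiv
    have htf : ∀ {x y : T}, ϖ • x = ϖ • y → x = y := fun h => smul_right_injective T hϖ h
    let g' : Module.End O T :=
      { toFun := g
        map_add' := fun x y => htf (by rw [hg, smul_add, hg, hg, map_add])
        map_smul' := fun c x => htf (by rw [hg, RingHom.id_apply, smul_comm, hg, map_smul]) }
    obtain ⟨r, hr⟩ := hend g' fun r => LinearMap.ext fun t => htf (by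
      show ϖ • g (φ r t) = ϖ • φ r (g t)
      rw [hg, ← map_smul, hg, ← Module.End.mul_apply, ← Module.End.mul_apply, ← map_mul, ← map_mul, mul_comm])
    refine ha1 (Ideal.mem_span_singleton'.2 ⟨r, hinj (LinearMap.ext fun t => ?_)⟩)
    rw [mul_comm, ← Algebra.smul_def, map_smul, hr]
    exact hg t
  -- finitely many maximal ideals
  haveI : Finite {m : Ideal (AdjoinRoot P) // m.IsMaximal} := by
    haveI : ∀ m : {m : Ideal (AdjoinRoot P) // m.IsMaximal}, (m.1.map (Ideal.Quotient.mk (Ideal.span {π₀}))).IsPrime :=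
      fun m => by
        haveI := m.2
        exact Ideal.map_isPrime_of_surjective Ideal.Quotient.mk_surjective
          (by rw [Ideal.mk_ker, Ideal.span_singleton_le_iff_mem]; exact hmem m.1 m.2)
    refine Finite.of_injective (β := PrimeSpectrum (AdjoinRoot P ⧸ Ideal.span {π₀}))
      (fun m => ⟨m.1.map (Ideal.Quotient.mk (Ideal.span {π₀})), this m⟩) fun m m' h => Subtype.ext ?_
    have h' := congrArg (fun q => q.asIdeal.comap (Ideal.Quotient.mk (Ideal.span {π₀}))) h
    simp only [Ideal.comap_map_of_surjective _ Ideal.Quotient.mk_surjective, ← RingHom.ker_eq_comap_bot, Ideal.mk_ker,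
      sup_eq_left.2 ((Ideal.span_singleton_le_iff_mem _).2 (hmem m.1 m.2)),
      sup_eq_left.2 ((Ideal.span_singleton_le_iff_mem _).2 (hmem m'.1 m'.2))] at h'
    exact h'
  letI := Fintype.ofFinite {m : Ideal (AdjoinRoot P) // m.IsMaximal}
  choose μ t ht using fun m : {m : Ideal (AdjoinRoot P) // m.IsMaximal} => hloc m.1 m.2
  have he : ∀ m : {m : Ideal (AdjoinRoot P) // m.IsMaximal}, ∃ e, e ∉ m.1 ∧ ∀ m', m' ≠ m → e ∈ m'.1 := fun m => by
    have h : ¬ (∏ m' ∈ Finset.univ.erase m, m'.1) ≤ m.1 := fun hle => by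
      obtain ⟨m', hm', hle'⟩ := (m.2.isPrime.prod_le).1 hle
      exact (Finset.mem_erase.1 hm').1 (Subtype.ext (m'.2.eq_of_le m.2.ne_top hle'))
    obtain ⟨e, he1, he2⟩ := SetLike.not_le_iff_exists.1 h
    refine ⟨e, he2, fun m' hm' => ?_⟩
    exact Ideal.prod_le_inf.trans (Finset.inf_le (Finset.mem_erase.2 ⟨hm', Finset.mem_univ m'⟩)) he1
  choose e he1 he2 using he
  let L : T →ₗ[O] AdjoinRoot P := ∑ m, LinearMap.mulLeft O (e m) ∘ₗ liftDual hP φ (μ m)
  let t₀ : T := ∑ m, φ (e m) (t m)
  have hL : ∀ r x, L (φ r x) = r * L x := fun r x => by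
    simp only [L, LinearMap.sum_apply, LinearMap.comp_apply, LinearMap.mulLeft_apply, liftDual_smul, Finset.mul_sum]
    exact Finset.sum_congr rfl fun m _ => mul_left_comm _ _ _
  have hu : IsUnit (L t₀) := by
    by_contra hnu
    obtain ⟨m, hm, hmem'⟩ := exists_max_ideal_of_mem_nonunits hnu
    let m0 : {m : Ideal (AdjoinRoot P) // m.IsMaximal} := ⟨m, hm⟩
    have hother : ∀ m', m' ≠ m0 → e m' ∈ m := fun m' h => he2 m' m0 (Ne.symm h)
    have h1 : ∀ y, L y - e m0 * liftDual hP φ (μ m0) y ∈ m := fun y => by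
      rw [show L y = ∑ m', e m' * liftDual hP φ (μ m') y from by simp [L], ← Finset.add_sum_erase _ _ (Finset.mem_univ m0),
        add_sub_cancel_left]
      exact m.sum_mem fun m' h => m.mul_mem_right _ (hother m' (Finset.mem_erase.1 h).1)
    have h2 : L t₀ - e m0 * L (t m0) ∈ m := by
      rw [show L t₀ = ∑ m', e m' * L (t m') from by simp [t₀, hL], ← Finset.add_sum_erase _ _ (Finset.mem_univ m0),
        add_sub_cancel_left]
      exact m.sum_mem fun m' h => m.mul_mem_right _ (hother m' (Finset.mem_erase.1 h).1)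
    have h3 : e m0 * L (t m0) ∈ m := by
      have := m.sub_mem hmem' h2; rwa [sub_sub_cancel] at this
    have h4 : L (t m0) ∈ m := (hm.isPrime.mem_or_mem h3).resolve_left (he1 m0)
    have h5 : e m0 * liftDual hP φ (μ m0) (t m0) ∈ m := by
      have := m.sub_mem h4 (h1 (t m0)); rwa [sub_sub_cancel] at this
    exact ((hm.isPrime.mem_or_mem h5).resolve_left (he1 m0) |> ht m0)
  obtain ⟨u, hu'⟩ := hu
  let w : T := φ (↑u⁻¹ : AdjoinRoot P) t₀
  have hw : L w = 1 := by rw [hL, ← hu']; exact u.inv_mul
  refine ⟨w, ?_, fun x => ?_⟩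
  · intro r s h
    have := congrArg L h
    simpa [hL, hw] using this
  · let g : Module.End O T :=
      { toFun := fun y => y - φ (L y) w
        map_add' := fun a b => by simp only [map_add, LinearMap.add_apply]; abel
        map_smul' := fun c a => by simp [smul_sub] }
    obtain ⟨s, hs⟩ := hend g fun r => LinearMap.ext fun y => by
      show φ r y - φ (L (φ r y)) w = φ r (y - φ (L y) w)
      rw [hL, map_sub, map_mul, Module.End.mul_apply]
    have hs0 : s = 0 := by
      have h1 : φ s w = 0 := by rw [hs]; show w - φ (L w) w = 0; rw [hw, map_one]; simp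
      have := congrArg L h1
      simpa [hL, hw] using this
    refine ⟨L x, ?_⟩
    have h1 : x - φ (L x) w = 0 := by
      show g x = 0
      rw [← hs, hs0, map_zero]; rfl
    exact (sub_eq_zero.1 h1).symm

end Groth.Agent.MinOrd22
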