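import Groth.Agent.Lib.MinOrd22.Bound
import Mathlib.LinearAlgebra.FreeModule.Finite.CardQuotient

/-!
# The lattice functor turns the degree of an isogeny into an index
-/

universe u

open CategoryTheory Limits MonoidalCategory CartesianMonoidalCategory AlgebraicGeometry
open scoped MonObj GrpObj

set_option linter.style.haveILetI false
set_option linter.unusedSectionVars false
set_option maxHeartbeats 2000000
set_option synthInstance.maxHeartbeats 400000
set_option backward.isDefEq.respectTransparency false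

noncomputable section

namespace Groth.Agent.MinOrd22

open AVQuotH1 (AV unitPt)

/-- Multiples of `n` have index `n ^ rank` in a lattice. -/
theorem index_range_nsmul {M : Type*} [AddCommGroup M] [Module.Free ℤ M] [Module.Finite ℤ M] {n : ℕ} (hn : 0 < n) :
    (nsmulAddMonoidHom n : M →+ M).range.index = n ^ Module.finrank ℤ M := by
  set L : M →ₗ[ℤ] M := (n : ℤ) • LinearMap.id
  have hL : Function.Injective L := fun a b h =>
    smul_right_injective M (r := (n : ℤ)) (by exact_mod_cast hn.ne') h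
  have h1 := Submodule.natAbs_det_equiv (LinearMap.range L) (LinearEquiv.ofInjective L hL)
  have h2 : (LinearMap.range L).subtype ∘ₗ AddMonoidHom.toIntLinearMap
      ((LinearEquiv.ofInjective L hL : M ≃ₗ[ℤ] LinearMap.range L) : M →+ LinearMap.range L) = L :=
    LinearMap.ext fun x => rfl
  rw [h2, LinearMap.det_smul, LinearMap.det_id, _root_.mul_one, Int.natAbs_pow, Int.natAbs_natCast] at h1
  rw [h1]
  have h3 : (nsmulAddMonoidHom n : M →+ M).range = (LinearMap.range L).toAddSubgroup := by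
    ext x
    exact ⟨fun ⟨y, hy⟩ => ⟨y, by rw [← hy]; exact natCast_zsmul y n⟩,
      fun ⟨y, hy⟩ => ⟨y, by rw [← hy]; exact (natCast_zsmul y n).symm⟩⟩
  rw [h3]
  rfl

variable {J : Type} [Fintype J] {K : J → Type} [∀ j, Field (K j)] [∀ j, CharZero (K j)] {ϖ : ∀ j, K j}
variable {k : Type u} [Field k] [Finite k] {p : ℕ} [Fact p.Prime] (hk : Nat.card k = p)
  (hint : ∀ j, IsIntegral ℤ (ϖ j))
  {Aw : Over (Spec (CommRingCat.of k))} [GrpObj Aw] [IsCommMonObj Aw] [IsProper Aw.hom]
  [GeometricallyIntegral Aw.hom] {πw : Aw ⟶ Aw} [IsMonHom πw] (hπw : IsPFrob p πw)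
  (hweil : ∀ j, ∀ z ∈ (minpoly ℤ (ϖ j)).aroots ℂ, ‖z‖ = Real.sqrt p)
  (hinj : ∀ i j, minpoly ℤ (ϖ i) = minpoly ℤ (ϖ j) → i = j)
  (ρw : (MvPolynomial.aeval ![fun j => ϖ j, fun j => (p : K j) / ϖ j] : MvPolynomial (Fin 2) ℤ →ₐ[ℤ] ((j : J) → K j)).range ≃+* EndAV.End Aw)
  (hρw : ρw ⟨(MvPolynomial.aeval ![fun j => ϖ j, fun j => (p : K j) / ϖ j] : MvPolynomial (Fin 2) ℤ →ₐ[ℤ] ((j : J) → K j)) (MvPolynomial.X 0), AlgHom.mem_range_self _ _⟩ = EndAV.End.of πw)
  (o : OrderData p ϖ)

variable (Aw) in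
/-- Precomposition on the lattices. -/
abbrev pre {B A : Over (Spec (CommRingCat.of k))} [GrpObj B] [IsCommMonObj B] [GrpObj A] [IsCommMonObj A]
    (f : EndAV.Hom B A) : EndAV.Hom A Aw →+ EndAV.Hom B Aw :=
  Preadditive.leftComp (CommGrp.mk Aw) f

theorem pre_injective {B A : AV k} (f : EndAV.Hom B.X A.X) [IsFinite f.toHom.left] [Surjective f.toHom.left] :
    Function.Injective (pre Aw f) := fun a b hab => by
  haveI := AVQuotH1.epi_of_surjective f.toHom
  exact EndAV.Hom.ext ((cancel_epi f.toHom).1 (congrArg EndAV.Hom.toHom hab))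

omit [Finite k] in
/-- An injection of the cokernel into equivariant maps bounds the index. -/
theorem index_le_of_res {G V W : Type*} [AddCommGroup G] [AddCommGroup V] [Finite V] [AddCommGroup W]
    (H : AddSubgroup G) (a : V →+ V) (b : Module.End ℤ W) (res : G →+ (V →+ W))
    (heq : ∀ g, res g ∈ EqHom a b) (hker : res.ker ≤ H) (hfun : ∀ q : ℕ, q.Prime → HasFunctional b q) :
    H.index ≠ 0 ∧ H.index ≤ Nat.card V := by
  obtain ⟨hfin, hle⟩ := card_eqHom_le b _ a le_rfl fun q hq _ => hfun q hq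
  haveI := hfin.to_subtype
  have hinj : Function.Injective fun r : res.range => (⟨r.1, by obtain ⟨g, hg⟩ := r.2; rw [← hg]; exact heq g⟩ : EqHom a b) :=
    fun x y e => by have e' := congrArg Subtype.val e; exact Subtype.ext e'
  haveI : Finite res.range := Finite.of_injective _ hinj
  have h1 : res.ker.index = Nat.card res.range := AddSubgroup.index_ker res
  have h2 : H.index ∣ res.ker.index := AddSubgroup.index_dvd_of_le hker
  have h3 : res.ker.index ≠ 0 := by rw [h1]; exact Nat.card_pos.ne'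
  refine ⟨fun h => h3 (Nat.eq_zero_of_zero_dvd (h ▸ h2)), ?_⟩
  exact (Nat.le_of_dvd (Nat.pos_of_ne_zero h3) h2).trans (h1 ▸ (Nat.card_le_card_of_injective _ hinj).trans hle)

include hk hint hπw hweil hinj ρw hρw o in
/-- The index is at most the degree. -/
theorem index_le (n : ℕ) : ∀ (B A : AV k) (f : EndAV.Hom B.X A.X) [IsFinite f.toHom.left] [Surjective f.toHom.left],
    degI f.toHom ≤ n → (pre Aw f).range.index ≠ 0 ∧ (pre Aw f).range.index ≤ degI f.toHom := by
  induction n using Nat.strong_induction_on with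
  | _ n ih =>
  intro B A f _ _ hn
  obtain ⟨πB, _, hπB⟩ := exists_pFrob hk B
  obtain ⟨πA, _, hπA⟩ := exists_pFrob hk A
  by_cases htan : ∀ t ∈ KerTan f.toHom, t = 1
  · -- separable: geometric points
    let Ω := AlgebraicClosure k
    let V := (EndAV.Hom.ptsMap (VecGrp.pt k Ω) f).ker
    let eV : V ≃ KerPts (VecGrp.pt k Ω) f.toHom :=
      { toFun := fun x => ⟨x.1.toMul, congrArg Additive.toMul (AddMonoidHom.mem_ker.1 x.2)⟩
        invFun := fun a => ⟨Additive.ofMul a.1, congrArg Additive.ofMul a.2⟩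
        left_inv := fun _ => rfl
        right_inv := fun _ => rfl }
    haveI := ((finite_kerPts_and_card_le Ω B A f.toHom).1).to_subtype
    haveI : Finite V := Finite.of_equiv _ eV.symm
    let a : V →+ V := ((EndAV.Hom.ptsMap (VecGrp.pt k Ω) (EndAV.Hom.of πB)).comp V.subtype).codRestrict V fun x => by
      refine AddMonoidHom.mem_ker.2 (congrArg Additive.ofMul ?_)
      show (x.1.toMul ≫ πB) ≫ f.toHom = 1
      rw [Category.assoc, ← IsPFrob.comm hk hπB hπA f.toHom, ← Category.assoc,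
        show x.1.toMul ≫ f.toHom = 1 from congrArg Additive.toMul (AddMonoidHom.mem_ker.1 x.2), MonObj.one_comp]
    let res : EndAV.Hom B.X Aw →+ (V →+ Additive (VecGrp.pt k Ω ⟶ Aw)) :=
      AddMonoidHom.mk' (fun ψ => (EndAV.Hom.ptsMap (VecGrp.pt k Ω) ψ).comp V.subtype) fun x y => by
        rw [map_add]; rfl
    obtain ⟨h0, h1⟩ := index_le_of_res (pre Aw f).range a
      (EndAV.End.ptsRep (VecGrp.pt k Ω) (EndAV.End.of πw)) res (fun ψ v => congrArg Additive.ofMul (by
        show (v.1.toMul ≫ πB) ≫ ψ.toHom = (v.1.toMul ≫ ψ.toHom) ≫ πw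
        rw [Category.assoc, Category.assoc, IsPFrob.comm hk hπB hπw ψ.toHom]))
      (fun ψ hψ => by
        obtain ⟨r, _, hr⟩ := exists_factor_of_pts Ω B A ⟨Aw⟩ f.toHom ψ.toHom htan fun x hx =>
          congrArg Additive.toMul (DFunLike.congr_fun (AddMonoidHom.mem_ker.1 hψ) ⟨Additive.ofMul x, congrArg Additive.ofMul hx⟩)
        exact ⟨EndAV.Hom.of r, EndAV.Hom.ext hr⟩)
      (fun q hq => by
        haveI := Fact.mk hq
        by_cases hqp : q = p
        · subst hqp; exact hasFunctional_pts_p hk hint Ω hπw hweil hinj ρw hρw o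
        · exact hasFunctional_pts_ne hk hint Ω hπw hweil hinj ρw hρw o hqp)
    refine ⟨h0, h1.trans (le_of_eq ?_)⟩
    rw [Nat.card_congr eV]
    exact card_kerPts_eq Ω B A f.toHom htan
  push Not at htan
  obtain ⟨t, ht, ht1⟩ := htan
  obtain ⟨Z, h, g, r, _, _, _, _, _, _, _, hg, hr, hker⟩ := exists_split B A B f.toHom πB
  have hh : ∀ (T : Over (Spec (CommRingCat.of k))) (x : T ⟶ B.X), x ≫ h = 1 → x ≫ πB = 1 := fun T x hx =>
    ((hker T x).1 hx).2
  -- the height one factor
  have hcard : Nat.card (KerTan h) = degI h := card_kerTan_eq hk B Z h hπB hh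
  haveI : Finite (KerTan h) := Nat.finite_of_card_ne_zero (hcard ▸ (degI_pos B Z h).ne')
  have hstep : (pre Aw (EndAV.Hom.of h)).range.index ≠ 0 ∧ (pre Aw (EndAV.Hom.of h)).range.index ≤ degI h := by
    obtain ⟨-, -, v, _, hv1, -⟩ := exists_versch hk B hπB
    obtain ⟨πZ, _, hπZ⟩ := exists_pFrob hk Z
    obtain ⟨-, -, vZ, _, hvZ1, -⟩ := exists_versch hk Z hπZ
    haveI : Epi πB := by
      obtain ⟨hπf, hπs, -⟩ := exists_versch hk B hπB
      haveI := hπs
      exact AVQuotH1.epi_of_surjective πB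
    have hvh : v ≫ h = h ≫ vZ := by
      rw [← cancel_epi πB, reassoc_of% hv1, Isogeny14.hom_pow_comp, Category.id_comp, ← Category.assoc,
        ← IsPFrob.comm hk hπB hπZ h, Category.assoc, hvZ1, MonObj.comp_pow, Category.comp_id]
    have hvψ : ∀ ψ : EndAV.Hom B.X Aw, v ≫ ψ.toHom = ψ.toHom ≫ (ρw (Vw p ϖ)).toHom := fun ψ => by
      rw [← cancel_epi πB, reassoc_of% hv1, Isogeny14.hom_pow_comp, Category.id_comp, ← Category.assoc,
        ← IsPFrob.comm hk hπB hπw ψ.toHom, Category.assoc, piw_comp_vw hint hweil ρw hρw, MonObj.comp_pow,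
        Category.comp_id]
    let V := (tanMap (EndAV.Hom.of h)).ker
    let eV : V ≃ KerTan h :=
      { toFun := fun x => ⟨x.1.1.toMul, x.1.2,
          congrArg (fun y : Tn Z.X => y.1.toMul) (AddMonoidHom.mem_ker.1 x.2)⟩
        invFun := fun a => ⟨⟨Additive.ofMul a.1, a.2.1⟩, AddMonoidHom.mem_ker.2 (Subtype.ext (congrArg Additive.ofMul a.2.2))⟩
        left_inv := fun _ => rfl
        right_inv := fun _ => rfl }
    haveI : Finite V := Finite.of_equiv _ eV.symm
    let a : V →+ V := ((tanMap (EndAV.Hom.of v)).comp V.subtype).codRestrict V fun x => by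
      refine AddMonoidHom.mem_ker.2 (Subtype.ext (congrArg Additive.ofMul ?_))
      show (x.1.1.toMul ≫ v) ≫ h = 1
      rw [Category.assoc, hvh, ← Category.assoc,
        show x.1.1.toMul ≫ h = 1 from congrArg (fun y : Tn Z.X => y.1.toMul) (AddMonoidHom.mem_ker.1 x.2),
        MonObj.one_comp]
    let res : EndAV.Hom B.X Aw →+ (V →+ Tn Aw) :=
      AddMonoidHom.mk' (fun ψ => (tanMap ψ).comp V.subtype) fun x y => by
        rw [map_add]; rfl
    obtain ⟨h0, h1⟩ := index_le_of_res (pre Aw (EndAV.Hom.of h)).range a (tanRep (ρw (Vw p ϖ))) res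
      (fun ψ x => Subtype.ext (congrArg Additive.ofMul (by
        show (x.1.1.toMul ≫ v) ≫ ψ.toHom = (x.1.1.toMul ≫ ψ.toHom) ≫ (ρw (Vw p ϖ)).toHom
        rw [Category.assoc, Category.assoc, hvψ])))
      (fun ψ hψ => by
        obtain ⟨r, _, hr⟩ := exists_factor_of_tan hk B Z ⟨Aw⟩ h ψ.toHom hπB hh fun t ht =>
          congrArg (fun y : Tn Aw => y.1.toMul) (DFunLike.congr_fun (AddMonoidHom.mem_ker.1 hψ) (eV.symm ⟨t, ht⟩))
        exact ⟨EndAV.Hom.of r, EndAV.Hom.ext hr⟩)
      (fun q hq => by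
        haveI := Fact.mk hq
        exact hasFunctional_tan hk hint hπw hweil hinj ρw hρw o q)
    exact ⟨h0, h1.trans (le_of_eq ((Nat.card_congr eV).trans hcard))⟩
  have hd1 : 1 < degI h := by
    rw [← hcard]
    exact Finite.one_lt_card_iff_nontrivial.2 ⟨⟨⟨t, ht.1, (hker _ t).2 ⟨ht.2, comp_piFrob_tan hk hπB t ht.1⟩⟩,
      ⟨1, MonObj.comp_one _, MonObj.one_comp _⟩, fun e => ht1 (congrArg Subtype.val e)⟩⟩
  have hdeg : degI f.toHom = degI h * degI g := by rw [← hg]; exact degI_comp B Z A h g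
  haveI : IsFinite (EndAV.Hom.of g).toHom.left := by rw [EndAV.Hom.toHom_of]; infer_instance
  haveI : Surjective (EndAV.Hom.of g).toHom.left := by rw [EndAV.Hom.toHom_of]; infer_instance
  obtain ⟨hg0, hg1⟩ := ih (degI g) (lt_of_lt_of_le (hdeg ▸ lt_mul_of_one_lt_left (degI_pos Z A g) hd1) hn)
    Z A (EndAV.Hom.of g) le_rfl
  have hrange : (pre Aw f).range = (pre Aw (EndAV.Hom.of g)).range.map (pre Aw (EndAV.Hom.of h)) := by
    have e : pre Aw f = (pre Aw (EndAV.Hom.of h)).comp (pre Aw (EndAV.Hom.of g)) :=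
      AddMonoidHom.ext fun φ => EndAV.Hom.ext (by
        show f.toHom ≫ φ.toHom = h ≫ g ≫ φ.toHom
        rw [← hg, Category.assoc])
    rw [e, AddMonoidHom.range_comp]
  haveI : IsFinite (EndAV.Hom.of h).toHom.left := by rw [EndAV.Hom.toHom_of]; infer_instance
  haveI : Surjective (EndAV.Hom.of h).toHom.left := by rw [EndAV.Hom.toHom_of]; infer_instance
  rw [hrange, AddSubgroup.index_map_of_injective _ (pre_injective (Aw := Aw) (EndAV.Hom.of h)), hdeg,
    mul_comm (degI h)]
  exact ⟨mul_ne_zero hg0 hstep.1, Nat.mul_le_mul hg1 hstep.2⟩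

include hk hint hπw hweil hinj ρw hρw o in
/-- The index of the lattice of an isogeny is its degree. -/
theorem index_eq (B A : AV k) (f : EndAV.Hom B.X A.X) [IsFinite f.toHom.left] [Surjective f.toHom.left]
    {πA : A.X ⟶ A.X} [IsMonHom πA] (hπA : IsPFrob p πA)
    (hA : Polynomial.aeval (EndAV.End.of πA) (PP ϖ) = 0) :
    Function.Injective (pre Aw f) ∧ (pre Aw f).range.index = degI f.toHom := by
  refine ⟨pre_injective f, ?_⟩
  obtain ⟨N, g, hN, _, hfg, hgf⟩ := AVQuotH1.exists_quasiInverse (Z := B) (Q := A) f.toHom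
  obtain ⟨a, ha⟩ := Index22.exists_dim (A := A.X)
  obtain ⟨hNf, hNs, hNd⟩ := mulN_props A ha hN
  haveI : AlgebraicGeometry.IsIntegral A.X.left := GeometricallyIntegral.isIntegral_of_subsingleton A.X.hom
  haveI : AlgebraicGeometry.IsIntegral B.X.left := GeometricallyIntegral.isIntegral_of_subsingleton B.X.hom
  have hgfin : IsFinite g.left := by
    haveI := AVQuotH1.quasiCompact_left f.toHom
    haveI : IsFinite (g.left ≫ f.toHom.left) := by rw [← Over.comp_left, hgf]; exact hNf
    exact IsFinite.of_comp g.left f.toHom.left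
  haveI := hgfin
  obtain ⟨b, hb⟩ := Index22.exists_dim (A := B.X)
  have hgs : Surjective g.left := AbRigid.surjective_of_isFinite A.X B.X g
    (le_antisymm (Index22.dim_le_of_isFinite g.left) (Index22.dim_le_of_isFinite f.toHom.left))
  haveI := hgs
  haveI : IsFinite (EndAV.Hom.of g).toHom.left := hgfin
  haveI : Surjective (EndAV.Hom.of g).toHom.left := hgs
  obtain ⟨hf0, hf1⟩ := index_le hk hint hπw hweil hinj ρw hρw o _ B A f le_rfl
  obtain ⟨hg0, hg1⟩ := index_le hk hint hπw hweil hinj ρw hρw o _ A B (EndAV.Hom.of g) le_rfl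
  obtain ⟨l, hlp, hl⟩ := TateTors22.exists_prime_ne_zero k
  haveI := Fact.mk hlp
  obtain ⟨hw, t, ht, -⟩ := exists_generator hk hint (AlgebraicClosure k) l hπw hweil hinj ρw hρw hl
  obtain ⟨hfree, hfin, hrank⟩ := finrank_hom hk (AlgebraicClosure k) l hl hπw hw t ht hπA hA ha hint
  haveI := hfree
  haveI := hfin
  have hprod : (pre Aw f).range.index * (pre Aw (EndAV.Hom.of g)).range.index = degI f.toHom * degI g := by
    have e : (pre Aw (EndAV.Hom.of g)).comp (pre Aw f) = nsmulAddMonoidHom N :=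
      AddMonoidHom.ext fun φ => EndAV.Hom.ext (by
        show g ≫ f.toHom ≫ φ.toHom = (N • φ).toHom
        rw [EndAV.Hom.toHom_nsmul, reassoc_of% hgf, Isogeny14.hom_pow_comp, Category.id_comp])
    rw [← AddSubgroup.index_map_of_injective _ (pre_injective (Aw := Aw) (EndAV.Hom.of g)), ← AddMonoidHom.range_comp, e,
      index_range_nsmul hN, hrank, ← hNd, ← hgf, degI_comp A B A g f.toHom, mul_comm]
  refine le_antisymm hf1 (Nat.le_of_mul_le_mul_right (c := degI g) ?_ (degI_pos A B g))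
  rw [← hprod]
  exact Nat.mul_le_mul_left _ hg1

end Groth.Agent.MinOrd22

end
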