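import Mathlib

/-!
# Lattices with scalar endomorphisms over an order with a perfect functional
-/

open Submodule

set_option linter.style.haveILetI false
set_option linter.unusedSectionVars false
set_option maxHeartbeats 1000000

noncomputable section

namespace Groth.Agent.MinOrd22.LocFree

variable {R : Type*} [CommRing R] {M : Type*} [AddCommGroup M] [Module R M]

section Gorenstein

variable (δ : R →ₗ[ℤ] ℤ) (hδ : Function.Bijective fun x : R => δ ∘ₗ LinearMap.mulLeft ℤ x)

include hδ in
/-- An additive functional lifts uniquely to a linear map into the order. -/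
theorem exists_lift_functional (μ : M →ₗ[ℤ] ℤ) : ∃ f : M →ₗ[R] R, ∀ m, δ (f m) = μ m := by
  choose F hF using fun m : M => hδ.2 (μ ∘ₗ ((LinearMap.toSpanSingleton R M m).restrictScalars ℤ))
  have hF' : ∀ m r, δ (F m * r) = μ (r • m) := fun m r => LinearMap.congr_fun (hF m) r
  refine ⟨{ toFun := F, map_add' := fun a b => hδ.1 (LinearMap.ext fun r => ?_),
            map_smul' := fun c a => hδ.1 (LinearMap.ext fun r => ?_) }, fun m => ?_⟩
  · show δ (F (a + b) * r) = δ ((F a + F b) * r)
    rw [add_mul, map_add, hF', hF', hF', smul_add, map_add]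
  · show δ (F (c • a) * r) = δ ((c * F a) * r)
    rw [hF', mul_comm c (F a), mul_assoc, hF', smul_smul, mul_comm]
  · show δ (F m) = μ m
    rw [← mul_one (F m), hF', one_smul]

include hδ in
theorem lift_unique {f f' : M →ₗ[R] R} (h : ∀ m, δ (f m) = δ (f' m)) : f = f' := by
  refine LinearMap.ext fun m => hδ.1 (LinearMap.ext fun r => ?_)
  show δ (f m * r) = δ (f' m * r)
  rw [mul_comm, mul_comm _ r, ← smul_eq_mul, ← smul_eq_mul, ← f.map_smul, ← f'.map_smul, h]

variable [Module.Free ℤ R] [Module.Finite ℤ R] [Module.Free ℤ M] [Module.Finite ℤ M]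
  (hend : ∀ g : M →ₗ[R] M, ∃ r : R, ∀ m, g m = r • m) (hfaith : ∀ a : R, (∀ m : M, a • m = 0) → a = 0)

include hδ hend hfaith in
/-- The values of the linear forms generate the unit ideal. -/
theorem span_values_eq_top : Ideal.span {x : R | ∃ (f : M →ₗ[R] R) (m : M), f m = x} = ⊤ := by
  by_contra hne
  obtain ⟨P, hP, hle⟩ := Ideal.exists_le_maximal _ hne
  have hT : ∀ (f : M →ₗ[R] R) (m : M), f m ∈ P := fun f m => hle (Ideal.subset_span ⟨f, m, rfl⟩)
  haveI := hP
  letI := Ideal.Quotient.field P
  -- the residue characteristic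
  obtain ⟨q, hq⟩ := CharP.exists (R ⧸ P)
  have hq0 : q ≠ 0 := by
    rintro rfl
    haveI := CharP.charP_to_charZero (R ⧸ P)
    haveI : Module.Finite ℤ (R ⧸ P) :=
      Module.Finite.of_surjective ((Ideal.Quotient.mk P).toAddMonoidHom.toIntLinearMap) Ideal.Quotient.mk_surjective
    haveI : Algebra.IsIntegral ℤ (R ⧸ P) := Algebra.IsIntegral.of_finite ℤ _
    exact Int.not_isField (isField_of_isIntegral_of_isField (S := R ⧸ P)
      (RingHom.injective_int (algebraMap ℤ (R ⧸ P))) (Field.toIsField _))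
  haveI : Fact q.Prime := ⟨(CharP.char_is_prime_or_zero (R ⧸ P) q).resolve_right hq0⟩
  letI : Algebra (ZMod q) (R ⧸ P) := ZMod.algebra _ _
  obtain ⟨lam, hlam⟩ : ∃ lam : (R ⧸ P) →ₗ[ZMod q] ZMod q, lam 1 ≠ 0 := by
    obtain ⟨φ, hφ⟩ := not_forall.1 (mt (Module.forall_dual_apply_eq_zero_iff (ZMod q) (1 : R ⧸ P)).1 one_ne_zero)
    exact ⟨φ, hφ⟩
  obtain ⟨μ, hμ⟩ := Module.projective_lifting_property (Int.castRingHom (ZMod q)).toAddMonoidHom.toIntLinearMap
    ((lam.toAddMonoidHom.comp (Ideal.Quotient.mk P).toAddMonoidHom).toIntLinearMap) ZMod.intCast_surjective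
  have hμ' : ∀ a, ((μ a : ℤ) : ZMod q) = lam (Ideal.Quotient.mk P a) := fun a => LinearMap.congr_fun hμ a
  obtain ⟨x, hx⟩ := hδ.2 μ
  have hx' : ∀ a, δ (x * a) = μ a := fun a => LinearMap.congr_fun hx a
  -- `x` carries the maximal ideal into the multiples of `q`
  have hxP : ∀ a ∈ P, ∃ z, x * a = (q : R) * z := fun a ha => by
    have hdvd : ∀ s, (q : ℤ) ∣ δ (x * a * s) := fun s => by
      rw [mul_assoc, hx', ← ZMod.intCast_zmod_eq_zero_iff_dvd, hμ', map_mul,
        Ideal.Quotient.eq_zero_iff_mem.2 ha, zero_mul, map_zero]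
    choose ν hν using hdvd
    let ν' : R →ₗ[ℤ] ℤ := (AddMonoidHom.mk' ν fun s t => by
      have h := hν (s + t)
      rw [mul_add, map_add, hν, hν, ← mul_add] at h
      exact (mul_left_cancel₀ (by exact_mod_cast hq0) h).symm).toIntLinearMap
    obtain ⟨z, hz⟩ := hδ.2 ν'
    refine ⟨z, hδ.1 (LinearMap.ext fun s => ?_)⟩
    show δ (x * a * s) = δ ((q : R) * z * s)
    rw [show (q : R) * z * s = q • (z * s) by rw [nsmul_eq_mul, mul_assoc], map_nsmul,
      show δ (z * s) = ν s from LinearMap.congr_fun hz s, nsmul_eq_mul]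
    exact hν s
  have hxq : ∀ z, x ≠ (q : R) * z := fun z hz => hlam (by
    rw [← (Ideal.Quotient.mk P).map_one, ← hμ', ← hx', hz, mul_one, ← nsmul_eq_mul, map_nsmul, nsmul_eq_mul]
    simp)
  have hreg : ∀ a b : R, (q : R) * a = (q : R) * b → a = b := fun a b h => by
    rw [← nsmul_eq_mul, ← nsmul_eq_mul, ← natCast_zsmul, ← natCast_zsmul] at h
    exact smul_right_injective R (r := (q : ℤ)) (by exact_mod_cast hq0) h
  -- the endomorphism of the dual lattice
  have hex : ∀ f : M →ₗ[R] R, ∃ f' : M →ₗ[R] R, ∀ m, (q : R) * f' m = x * f m := fun f => by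
    choose z hz using fun m => hxP _ (hT f m)
    refine ⟨{ toFun := z, map_add' := fun a b => hreg _ _ ?_, map_smul' := fun c a => hreg _ _ ?_ }, fun m => (hz m).symm⟩
    · rw [mul_add, ← hz, ← hz, ← hz, map_add, mul_add]
    · show (q : R) * z (c • a) = (q : R) * (c * z a)
      rw [← hz, f.map_smul, smul_eq_mul, mul_left_comm, hz, mul_left_comm]
  choose tw htw using hex
  choose lift hlift using exists_lift_functional (M := M) δ hδ
  let Φ : (M →ₗ[ℤ] ℤ) →ₗ[ℤ] (M →ₗ[ℤ] ℤ) :=
    (AddMonoidHom.mk' (fun μ => δ ∘ₗ (tw (lift μ)).restrictScalars ℤ) fun a b => by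
      refine LinearMap.ext fun m => ?_
      show δ (tw (lift (a + b)) m) = δ (tw (lift a) m) + δ (tw (lift b) m)
      rw [← map_add]
      refine congrArg δ (hreg _ _ ?_)
      have hl : lift (a + b) = lift a + lift b := lift_unique δ hδ fun m => by simp [hlift]
      rw [htw, mul_add, htw, htw, hl, LinearMap.add_apply, mul_add]).toIntLinearMap
  let ev := Module.evalEquiv ℤ M
  let g₀ : M →ₗ[ℤ] M := ev.symm.toLinearMap ∘ₗ Φ.dualMap ∘ₗ ev.toLinearMap
  have hg₀ : ∀ (μ : M →ₗ[ℤ] ℤ) m, μ (g₀ m) = δ (tw (lift μ) m) := fun μ m => by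
    show μ (ev.symm _) = _
    rw [Module.apply_evalEquiv_symm_apply]
    rfl
  let g : M →ₗ[R] M :=
    { toFun := g₀
      map_add' := map_add g₀
      map_smul' := fun r m => Module.eval_apply_injective ℤ (LinearMap.ext fun μ => by
        show μ (g₀ (r • m)) = μ (r • g₀ m)
        let μr : M →ₗ[ℤ] ℤ := μ ∘ₗ ((LinearMap.lsmul R M r).restrictScalars ℤ)
        have hl : lift μr = r • lift μ := lift_unique δ hδ fun m => by
          rw [hlift, LinearMap.smul_apply, ← (lift μ).map_smul, hlift]; rfl
        refine (hg₀ μ (r • m)).trans (Eq.trans ?_ (hg₀ μr m).symm)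
        refine congrArg δ (hreg _ _ ?_)
        rw [htw, htw, hl, LinearMap.smul_apply, (lift μ).map_smul]) }
  obtain ⟨r, hr⟩ := hend g
  -- contradiction
  refine hxq r (sub_eq_zero.1 (hfaith _ fun m => Module.eval_apply_injective ℤ (LinearMap.ext fun μ => ?_)))
  show μ ((x - (q : R) * r) • m) = μ 0
  have hkey : tw (lift μ) = r • lift μ := lift_unique δ hδ fun m => by
    rw [← hg₀ μ m, show g₀ m = r • m from hr m, ← hlift μ, (lift μ).map_smul, LinearMap.smul_apply]
  rw [← hlift μ, (lift μ).map_smul, map_zero, smul_eq_mul, sub_mul, mul_assoc, ← smul_eq_mul r,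
    ← LinearMap.smul_apply, ← hkey, htw, sub_self, map_zero]

include hδ hend hfaith in
/-- A lattice with scalar endomorphisms is locally free of rank one. -/
theorem nonempty_localized_equiv (P : Ideal R) [P.IsPrime] :
    Nonempty (LocalizedModule P.primeCompl M ≃ₗ[Localization.AtPrime P] Localization.AtPrime P) := by
  obtain ⟨f, m₀, hu⟩ : ∃ (f : M →ₗ[R] R) (m₀ : M), f m₀ ∉ P := by
    by_contra h
    push Not at h
    exact ‹P.IsPrime›.ne_top (top_le_iff.1 ((span_values_eq_top δ hδ hend hfaith).ge.trans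
      (Ideal.span_le.2 fun x ⟨f, m, hx⟩ => hx ▸ h f m)))
  obtain ⟨r, hr⟩ := hend ((LinearMap.toSpanSingleton R M m₀).comp f)
  have hr' : ∀ m, f m • m₀ = r • m := hr
  have hrP : r ∉ P := fun hrm => hu (‹P.IsPrime›.mem_or_mem (show f m₀ * f m₀ ∈ P by
    rw [← smul_eq_mul, ← f.map_smul, hr', f.map_smul, smul_eq_mul]
    exact P.mul_mem_right _ hrm) |>.elim id id)
  let φ : LocalizedModule P.primeCompl M →ₗ[R] Localization.AtPrime P :=
    IsLocalizedModule.map P.primeCompl (LocalizedModule.mkLinearMap P.primeCompl M)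
      (Algebra.linearMap R (Localization.AtPrime P)) f
  have hφ : ∀ m, φ (LocalizedModule.mkLinearMap P.primeCompl M m) = algebraMap R _ (f m) := fun m =>
    IsLocalizedModule.map_apply P.primeCompl _ _ f m
  let φ' : LocalizedModule P.primeCompl M →ₗ[Localization.AtPrime P] Localization.AtPrime P :=
    LinearMap.extendScalarsOfIsLocalization P.primeCompl (Localization.AtPrime P) φ
  let ψ : Localization.AtPrime P →ₗ[Localization.AtPrime P] LocalizedModule P.primeCompl M :=
    LinearMap.toSpanSingleton (Localization.AtPrime P) _ (LocalizedModule.mkLinearMap P.primeCompl M m₀)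
  have hur : IsUnit (algebraMap R (Localization.AtPrime P) r) :=
    IsLocalization.map_units (Localization.AtPrime P) (⟨r, hrP⟩ : P.primeCompl)
  have huu : IsUnit (algebraMap R (Localization.AtPrime P) (f m₀)) :=
    IsLocalization.map_units (Localization.AtPrime P) (⟨f m₀, hu⟩ : P.primeCompl)
  refine ⟨LinearEquiv.ofBijective φ' ⟨(injective_iff_map_eq_zero φ').2 fun z hz => ?_, fun t => ?_⟩⟩
  · obtain ⟨⟨m, s⟩, hms⟩ := IsLocalizedModule.surj P.primeCompl (LocalizedModule.mkLinearMap P.primeCompl M) z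
    have hms' : (s : R) • z = LocalizedModule.mkLinearMap P.primeCompl M m := hms
    have h0 : algebraMap R (Localization.AtPrime P) (f m) = 0 := by
      rw [← hφ, ← hms', map_smul, show φ z = 0 from hz, smul_zero]
    have h1 : LocalizedModule.mkLinearMap P.primeCompl M (r • m) = 0 := by
      rw [← hr', map_smul, ← IsScalarTower.algebraMap_smul (Localization.AtPrime P) (f m), h0, zero_smul]
    have h2 : IsUnit (algebraMap R (Localization.AtPrime P) (r * s)) := by
      rw [map_mul]; exact hur.mul (IsLocalization.map_units (Localization.AtPrime P) s)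
    refine (h2.smul_eq_zero).1 ?_
    rw [IsScalarTower.algebraMap_smul, mul_smul, hms', ← map_smul, h1]
  · refine ⟨(t * ↑huu.unit⁻¹) • LocalizedModule.mkLinearMap P.primeCompl M m₀, ?_⟩
    show φ' _ = t
    rw [map_smul, smul_eq_mul, mul_assoc]
    show t * (↑huu.unit⁻¹ * φ (LocalizedModule.mkLinearMap P.primeCompl M m₀)) = t
    rw [hφ, huu.val_inv_mul, mul_one]

end Gorenstein

/-- Over a module locally free of rank one, the endomorphisms are the scalars. -/
theorem scalar_of_localized [Module.Finite R M]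
    (h : ∀ (P : Ideal R) (_ : P.IsPrime),
      Nonempty (LocalizedModule P.primeCompl M ≃ₗ[Localization.AtPrime P] Localization.AtPrime P)) :
    (∀ g : M →ₗ[R] M, ∃ r : R, ∀ m, g m = r • m) ∧ (∀ a : R, (∀ m : M, a • m = 0) → a = 0) := by
  classical
  refine ⟨fun g => ?_, fun a ha => ?_⟩
  · let I : Ideal R :=
      { carrier := {a | ∃ r : R, ∀ m, a • g m = r • m}
        zero_mem' := ⟨0, fun m => by rw [zero_smul, zero_smul]⟩
        add_mem' := fun {a b} ⟨r, hr⟩ ⟨s, hs⟩ => ⟨r + s, fun m => by rw [add_smul, add_smul, hr, hs]⟩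
        smul_mem' := fun c a ⟨r, hr⟩ => ⟨c * r, fun m => by rw [smul_eq_mul, mul_smul, mul_smul, hr]⟩ }
    suffices hI : I = ⊤ by
      obtain ⟨r, hr⟩ := (hI ▸ Submodule.mem_top : (1 : R) ∈ I)
      exact ⟨r, fun m => by rw [← hr, one_smul]⟩
    by_contra hne
    obtain ⟨P, hP, hle⟩ := Ideal.exists_le_maximal _ hne
    obtain ⟨e⟩ := h P hP.isPrime
    let ι := LocalizedModule.mkLinearMap P.primeCompl M
    let gP : LocalizedModule P.primeCompl M →ₗ[Localization.AtPrime P] LocalizedModule P.primeCompl M :=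
      LinearMap.extendScalarsOfIsLocalization P.primeCompl (Localization.AtPrime P)
        (IsLocalizedModule.map P.primeCompl ι ι g)
    let c := e (gP (e.symm 1))
    have hgP : ∀ m, gP (ι m) = ι (g m) := fun m => IsLocalizedModule.map_apply P.primeCompl ι ι g m
    have hc : ∀ z, gP z = c • z := fun z => by
      apply e.injective
      rw [map_smul, smul_eq_mul, mul_comm, ← smul_eq_mul, ← map_smul e, ← map_smul gP]
      congr 1
      congr 1
      apply e.injective
      rw [map_smul, e.apply_symm_apply, smul_eq_mul, mul_one]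
    obtain ⟨⟨w, s⟩, hw⟩ := IsLocalization.surj P.primeCompl c
    have hw' : (s : R) • c = algebraMap R _ w := by rw [Algebra.smul_def, mul_comm]; exact hw
    have hloc : ∀ m, ι ((s : R) • g m) = ι (w • m) := fun m => by
      rw [map_smul, map_smul, ← hgP, hc, ← smul_assoc, hw', IsScalarTower.algebraMap_smul]
    obtain ⟨n, v, hv⟩ := Module.Finite.exists_fin (R := R) (M := M)
    choose t ht using fun i => IsLocalizedModule.exists_of_eq (S := P.primeCompl) (f := ι) (hloc (v i))
    let T : P.primeCompl := ∏ i, t i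
    have hT : ∀ m, (T : R) • ((s : R) • g m) = (T : R) • (w • m) := by
      have hle' : Submodule.span R (Set.range v) ≤ LinearMap.eqLocus ((T : R) • ((s : R) • g)) ((T : R) • (w • LinearMap.id)) := by
        refine Submodule.span_le.2 (Set.range_subset_iff.2 fun i => ?_)
        show (T : R) • ((s : R) • g (v i)) = (T : R) • (w • v i)
        have hTi : (T : R) = (∏ j ∈ Finset.univ.erase i, (t j : R)) * (t i : R) := by
          rw [Finset.prod_erase_mul _ _ (Finset.mem_univ i)]
          simp [T]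
        rw [hTi, mul_smul, mul_smul]
        exact congrArg _ (ht i)
      exact fun m => hle' (hv.ge Submodule.mem_top)
    have hmem : (T : R) * s ∈ I := ⟨(T : R) * w, fun m => by rw [mul_smul, hT, ← mul_smul]⟩
    exact (T * s : P.primeCompl).2 (hle hmem)
  · let I : Ideal R := (Submodule.span R {a}).annihilator
    suffices hI : I = ⊤ by
      have h1 : (1 : R) ∈ I := hI ▸ Submodule.mem_top
      have h2 := Submodule.mem_annihilator_span_singleton a 1 |>.1 h1
      rwa [one_smul] at h2
    by_contra hne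
    obtain ⟨P, hP, hle⟩ := Ideal.exists_le_maximal _ hne
    obtain ⟨e⟩ := h P hP.isPrime
    obtain ⟨⟨m, s⟩, hms⟩ := IsLocalizedModule.surj P.primeCompl (LocalizedModule.mkLinearMap P.primeCompl M) (e.symm 1)
    have hms' : (s : R) • e.symm 1 = LocalizedModule.mkLinearMap P.primeCompl M m := hms
    have h0 : algebraMap R (Localization.AtPrime P) (a * s) = 0 := by
      have h1 : (a * (s : R)) • e.symm 1 = 0 := by rw [mul_smul, hms', ← map_smul, ha, map_zero]
      rw [← IsScalarTower.algebraMap_smul (Localization.AtPrime P)] at h1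
      have := congrArg e h1
      rwa [map_smul, e.apply_symm_apply, smul_eq_mul, mul_one, map_zero] at this
    obtain ⟨t, ht⟩ := (IsLocalization.map_eq_zero_iff P.primeCompl _ _).1 h0
    refine (t * s : P.primeCompl).2 (hle ((Submodule.mem_annihilator_span_singleton a _).2 ?_))
    show ((t : R) * s) • a = 0
    rw [smul_eq_mul, mul_assoc, mul_comm (s : R) a]
    exact ht

end Groth.Agent.MinOrd22.LocFree

end
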