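import Groth.Agent.Lib.MinOrd22.Order
import Mathlib.LinearAlgebra.Matrix.Block
import Mathlib.LinearAlgebra.Matrix.NonsingularInverse

/-!
# A perfect pairing on the minimal central order
-/

universe u

open Polynomial

set_option linter.style.haveILetI false
set_option linter.unusedSectionVars false
set_option maxHeartbeats 1000000

noncomputable section

namespace Groth.Agent.MinOrd22

section Abstract

/-- The partner of a basis vector. -/
def partner {D : ℕ} (hD : 0 < D) : Fin D ⊕ Fin D → Fin D ⊕ Fin D :=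
  Sum.elim
    (fun i => if (i : ℕ) = 0 then Sum.inr ⟨D - 1, by omega⟩ else Sum.inl ⟨(D - i) % D, Nat.mod_lt _ hD⟩)
    (fun j => if (j : ℕ) = D - 1 then Sum.inl ⟨0, hD⟩ else Sum.inr ⟨D - 2 - j, by omega⟩)

variable {R : Type*} [CommRing R] {D : ℕ} (b : Module.Basis (Fin D ⊕ Fin D) ℤ R) (F V : R)
  (hl : ∀ i : Fin D, b (Sum.inl i) = F ^ (i : ℕ)) (hr : ∀ j : Fin D, b (Sum.inr j) = V ^ ((j : ℕ) + 1))
  (q : ℤ) (hFV : F * V = (q : R)) (ε : ℤ) (hε : ε * ε = 1) (c : ℕ → ℤ) (hc : c (D + D) = 1)
  (hrel : ∑ r ∈ Finset.range (D + 1), (c (D + r) : R) * F ^ r +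
    (ε : R) * ∑ r ∈ Finset.range D, (c (D + (r + 1)) : R) * V ^ (r + 1) = 0)

include hl hr hFV hε hc hrel in
/-- The coordinate at the top power of `V` is a perfect functional. -/
theorem exists_perfect : ∃ δ : R →ₗ[ℤ] ℤ, Function.Bijective fun x : R => δ ∘ₗ LinearMap.mulLeft ℤ x := by
  classical
  rcases Nat.eq_zero_or_pos D with hD | hD
  · subst hD
    haveI : Subsingleton R := b.repr.toEquiv.subsingleton
    exact ⟨0, ⟨fun x y _ => Subsingleton.elim x y, fun μ => ⟨0, LinearMap.ext fun z => by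
      rw [Subsingleton.elim z 0]; simp⟩⟩⟩
  let top : Fin D ⊕ Fin D := Sum.inr ⟨D - 1, by omega⟩
  let δ : R →ₗ[ℤ] ℤ := b.coord top
  refine ⟨δ, ?_⟩
  have hb : ∀ a, δ (b a) = if a = top then 1 else 0 := fun a => by
    show b.repr (b a) top = _
    rw [b.repr_self, Finsupp.single_apply]
  have hF0 : ∀ i < D, δ (F ^ i) = 0 := fun i hi => by
    rw [← hl ⟨i, hi⟩, hb, if_neg Sum.inl_ne_inr]
  have hV : ∀ j, 0 < j → j ≤ D → δ (V ^ j) = if j = D then 1 else 0 := fun j h0 hj => by
    have e := hr ⟨j - 1, by omega⟩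
    rw [show ((⟨j - 1, by omega⟩ : Fin D) : ℕ) + 1 = j from by simp; omega] at e
    rw [← e, hb]
    refine if_congr ⟨fun h => ?_, fun h => ?_⟩ rfl rfl
    · have := congrArg Fin.val (Sum.inr_injective h); simp at this; omega
    · exact congrArg Sum.inr (Fin.ext (by simp; omega))
  have hsmul : ∀ (n : ℤ) (x : R), δ ((n : R) * x) = n * δ x := fun n x => by
    rw [← zsmul_eq_mul, map_zsmul, smul_eq_mul]
  have hFD : δ (F ^ D) = -ε := by
    have h := congrArg δ hrel
    rw [Finset.sum_range_succ, hc, Int.cast_one, _root_.one_mul, map_add, map_add, map_sum, map_zero, hsmul,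
      map_sum, Finset.sum_eq_zero (fun r hrr => by rw [hsmul, hF0 r (Finset.mem_range.1 hrr), mul_zero]), zero_add,
      Finset.sum_eq_single (D - 1) (fun r hrr hne => by
        rw [hsmul, hV (r + 1) (by omega) (Finset.mem_range.1 hrr), if_neg (by omega), mul_zero])
        (fun h => absurd (Finset.mem_range.2 (by omega)) h), hsmul,
      show D - 1 + 1 = D by omega, hV D hD le_rfl, if_pos rfl, hc] at h
    linarith
  have hmix : ∀ i j, 0 < i → i < D → 0 < j → j ≤ D → δ (F ^ i * V ^ j) = 0 := fun i j hi hi' hj hj' => by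
    rcases Nat.lt_or_ge j i with hlt | hge
    · rw [show F ^ i * V ^ j = ((q ^ j : ℤ) : R) * F ^ (i - j) by
        rw [Int.cast_pow, ← hFV, mul_pow, mul_right_comm, ← pow_add, Nat.add_sub_cancel' hlt.le],
        hsmul, hF0 _ (by omega), mul_zero]
    · rw [show F ^ i * V ^ j = ((q ^ i : ℤ) : R) * V ^ (j - i) by
        rw [Int.cast_pow, ← hFV, mul_pow, mul_assoc, ← pow_add, Nat.add_sub_cancel' hge], hsmul]
      rcases Nat.eq_zero_or_pos (j - i) with h0 | hp
      · rw [h0, pow_zero, ← pow_zero F, hF0 0 hD, mul_zero]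
      · rw [hV _ hp (by omega), if_neg (by omega), mul_zero]
  -- the matrix
  let e := (finSumFinEquiv : Fin D ⊕ Fin D ≃ Fin (D + D))
  let N : Matrix (Fin (D + D)) (Fin (D + D)) ℤ :=
    Matrix.of fun a m => δ (b (e.symm a) * b (partner hD (e.symm m)))
  have hzero : ∀ a m : Fin D ⊕ Fin D, e a < e m → δ (b a * b (partner hD m)) = 0 := by
    rintro (⟨i, hi⟩ | ⟨i, hi⟩) (⟨m, hm⟩ | ⟨m, hm⟩) hlt <;>
      simp only [e, finSumFinEquiv_apply_left, finSumFinEquiv_apply_right, Fin.lt_def, Fin.val_castAdd,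
        Fin.val_natAdd] at hlt
    · have hm0 : m ≠ 0 := by omega
      simp only [partner, Sum.elim_inl, if_neg hm0, hl, ← pow_add]
      refine hF0 _ ?_
      rw [Nat.mod_eq_of_lt (by omega)]
      omega
    · simp only [partner, Sum.elim_inr]
      rcases Nat.eq_zero_or_pos i with hi0 | hi0
      · subst hi0
        simp only [hl, pow_zero, _root_.one_mul, hb]
        refine if_neg ?_
        split_ifs with h
        · simp [top]
        · intro h'
          have := congrArg Fin.val (Sum.inr_injective h')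
          simp at this
          omega
      · split_ifs with h
        · simp only [hl, pow_zero, mul_one]
          exact hF0 i hi
        · simp only [hl, hr]
          exact hmix i _ hi0 hi (Nat.succ_pos _) (by omega)
    · omega
    · simp only [partner, Sum.elim_inr]
      split_ifs with h
      · simp only [hl, hr, pow_zero, mul_one]
        rw [hV _ (Nat.succ_pos _) (by omega), if_neg (by omega)]
      · simp only [hr, ← pow_add]
        rw [hV _ (by omega) (by omega), if_neg (by omega)]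
  have hdiag : ∀ a : Fin D ⊕ Fin D, IsUnit (δ (b a * b (partner hD a))) := by
    rintro (⟨i, hi⟩ | ⟨i, hi⟩)
    · by_cases h : i = 0
      · subst h
        simp only [partner, Sum.elim_inl, if_true, hl, pow_zero, _root_.one_mul, hb]
        rw [if_pos rfl]
        exact isUnit_one
      · simp only [partner, Sum.elim_inl, if_neg h, hl, ← pow_add]
        rw [Nat.mod_eq_of_lt (by omega : D - i < D), Nat.add_sub_cancel' hi.le, hFD]
        exact IsUnit.neg (IsUnit.of_mul_eq_one ε hε)
    · simp only [partner, Sum.elim_inr]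
      split_ifs with h
      · simp only [hl, hr, pow_zero, mul_one]
        rw [hV _ (Nat.succ_pos _) (by omega), if_pos (by omega)]
        exact isUnit_one
      · simp only [hr, ← pow_add]
        rw [hV _ (by omega) (by omega), if_pos (by omega)]
        exact isUnit_one
  have hN : IsUnit N := by
    rw [Matrix.isUnit_iff_isUnit_det, Matrix.det_of_lowerTriangular N (fun a m hlt => by
      have := hzero (e.symm a) (e.symm m) (by simpa using hlt)
      simpa [N] using this)]
    exact IsUnit.prod_iff.2 fun a _ => by simpa [N] using hdiag (e.symm a)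
  -- the pairing
  let g : R →ₗ[ℤ] (Fin (D + D) → ℤ) := LinearMap.pi fun a => δ ∘ₗ LinearMap.mulLeft ℤ (b (e.symm a))
  have hg : Function.Surjective g := fun μ => by
    obtain ⟨co, hco⟩ := (Matrix.mulVec_surjective_iff_isUnit.2 hN) μ
    refine ⟨∑ m, co m • b (partner hD (e.symm m)), ?_⟩
    rw [← hco]
    funext a
    simp only [g, LinearMap.pi_apply, LinearMap.comp_apply, LinearMap.mulLeft_apply, Finset.mul_sum, map_sum,
      mul_smul_comm, map_zsmul, smul_eq_mul, Matrix.mulVec, dotProduct, N, Matrix.of_apply]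
    exact Finset.sum_congr rfl fun m _ => mul_comm _ _
  have hg' : Function.Injective g := by
    let ι := (b.reindex e).equivFun
    haveI : IsNoetherian ℤ (Fin (D + D) → ℤ) := inferInstance
    have h1 : Function.Injective (g ∘ₗ ι.symm.toLinearMap) :=
      IsNoetherian.injective_of_surjective_endomorphism _ (hg.comp ι.symm.surjective)
    intro x y hxy
    have := @h1 (ι x) (ι y) (by simpa using hxy)
    exact ι.injective this
  refine ⟨fun x y hxy => hg' (funext fun a => ?_), fun μ => ?_⟩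
  · show δ (b (e.symm a) * x) = δ (b (e.symm a) * y)
    rw [mul_comm _ x, mul_comm _ y]
    exact LinearMap.congr_fun hxy (b (e.symm a))
  · obtain ⟨x, hx⟩ := hg fun a => μ (b (e.symm a))
    refine ⟨x, b.ext fun i => ?_⟩
    have h1 := congrFun hx (e i)
    simp only [g, LinearMap.pi_apply, LinearMap.comp_apply, LinearMap.mulLeft_apply, e.symm_apply_apply] at h1
    show δ (x * b i) = μ (b i)
    rw [mul_comm, h1]

end Abstract

open WeilNum29

variable {p : ℕ} [Fact p.Prime] {J : Type} [Fintype J] {K : J → Type u} [∀ j, Field (K j)] [∀ j, CharZero (K j)]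
  {ϖ : ∀ j, K j}

/-- The minimal central order carries a perfect functional. -/
theorem exists_perfect_order (hint : ∀ j, IsIntegral ℤ (ϖ j))
    (hweil : ∀ j, ∀ z ∈ (minpoly ℤ (ϖ j)).aroots ℂ, ‖z‖ = Real.sqrt p)
    (hinj : ∀ i j, minpoly ℤ (ϖ i) = minpoly ℤ (ϖ j) → i = j) (o : OrderData p ϖ) :
    ∃ δ : ↥(MvPolynomial.aeval ![fun j => ϖ j, fun j => (p : K j) / ϖ j] : MvPolynomial (Fin 2) ℤ →ₐ[ℤ] ((j : J) → K j)).range →ₗ[ℤ] ℤ,
      Function.Bijective fun x => δ ∘ₗ LinearMap.mulLeft ℤ x := by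
  have hp : p ≠ 0 := (Fact.out : p.Prime).ne_zero
  have hw' : ∀ j, ∀ z ∈ (minpoly ℤ (ϖ j)).aroots ℂ, ‖z‖ = Real.sqrt ((p : ℝ) ^ 1) := fun j z hz => by
    rw [pow_one]; exact hweil j z hz
  have hr := WeilNum29.roots_family hint (pow_ne_zero 1 (Nat.cast_ne_zero.mpr hp)) hw' hinj
  rw [pow_one] at hr
  have d : Datum (p : ℤ) o.D (∏ j, minpoly ℤ (ϖ j)) (hcan o.D o.ε (∏ j, minpoly ℤ (ϖ j))) :=
    ⟨Nat.cast_ne_zero.mpr hp, monic_prod_of_monic _ _ fun j _ => minpoly.monic (hint j), o.hdeg, ⟨o.ε, o.hε, o.sym⟩,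
      WeilNum29.pow_mul_hcan_sub (Nat.cast_ne_zero.mpr hp) o.hdeg o.sym⟩
  rw [← toProd_eq_aeval]
  let T := toProd (p : ℤ) ϖ
  let L : (Fin o.D ⊕ Fin o.D → ℤ) →ₗ[ℤ] T.range :=
    T.rangeRestrict.toLinearMap ∘ₗ Fintype.linearCombination ℤ (bvec o.D)
  have hL : ∀ a, L a = T.rangeRestrict (comb o.D a) := fun a => by
    simp [L, comb, Fintype.linearCombination_apply]
  have hbij : Function.Bijective L := by
    refine ⟨(injective_iff_map_eq_zero L).mpr fun a ha => comb_eq_zero d hr ?_, fun y => ?_⟩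
    · rw [hL] at ha
      exact congrArg Subtype.val ha
    · obtain ⟨x, rfl⟩ := T.rangeRestrict_surjective y
      rcases Nat.eq_zero_or_pos o.D with hD | hD
      · refine ⟨0, ?_⟩
        have h1 : (1 : MvPolynomial (Fin 2) ℤ) ∈ RingHom.ker T := by
          rw [o.ker]
          refine (Ideal.eq_top_iff_one _).1 ?_
          have d0 : Datum (p : ℤ) 0 (∏ j, minpoly ℤ (ϖ j)) (hcan o.D o.ε (∏ j, minpoly ℤ (ϖ j))) := hD ▸ d
          exact d0.one_mem_of_zero
        rw [map_zero]
        refine Subtype.ext ?_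
        show (0 : (j : J) → K j) = T x
        rw [← mul_one x, map_mul, RingHom.mem_ker.1 h1, mul_zero]
      obtain ⟨a, ha⟩ := exists_of_mem_window (M := o.D) (x := x)
        (J := Ideal.span {fq (p : ℤ), hcan o.D o.ε (∏ j, minpoly ℤ (ϖ j))}) (by rw [d.window_top hD]; trivial)
      refine ⟨a, ?_⟩
      rw [← o.ker, RingHom.mem_ker, map_sub, sub_eq_zero] at ha
      rw [hL]
      exact Subtype.ext ha.symm
  let b : Module.Basis (Fin o.D ⊕ Fin o.D) ℤ T.range := Module.Basis.ofEquivFun (LinearEquiv.ofBijective L hbij).symm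
  have hb : ∀ i, b i = T.rangeRestrict (bvec o.D i) := fun i => by
    classical
    simp [b, L, Fintype.linearCombination_apply, Pi.single_apply, ite_smul]
  refine exists_perfect b (T.rangeRestrict (MvPolynomial.X 0)) (T.rangeRestrict (MvPolynomial.X 1))
    (fun i => by rw [hb, ← map_pow]; rfl) (fun j => by rw [hb, ← map_pow]; rfl) (p : ℤ) ?_ o.ε o.hε
    (fun r => (∏ j, minpoly ℤ (ϖ j)).coeff r) d.coeff_top ?_
  · have h : fq (p : ℤ) ∈ RingHom.ker T := by rw [o.ker]; exact Ideal.subset_span (Set.mem_insert _ _)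
    have h' : T.rangeRestrict (fq (p : ℤ)) = 0 := Subtype.ext (RingHom.mem_ker.1 h)
    rw [fq, map_sub, map_mul, sub_eq_zero] at h'
    rw [h', MvPolynomial.C_eq_coe_nat]
    simp
  · rw [← aeval_hcan]
    have h : hcan o.D o.ε (∏ j, minpoly ℤ (ϖ j)) ∈ RingHom.ker T := by
      rw [o.ker]; exact Ideal.subset_span (Set.mem_insert_of_mem _ rfl)
    refine Eq.trans ?_ (show T.rangeRestrict (hcan o.D o.ε (∏ j, minpoly ℤ (ϖ j))) = 0 from
      Subtype.ext (RingHom.mem_ker.1 h))
    refine DFunLike.congr_fun (MvPolynomial.algHom_ext (Fin.forall_fin_two.mpr ⟨?_, ?_⟩)) _ <;>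
      rw [MvPolynomial.aeval_X] <;> rfl

end Groth.Agent.MinOrd22

end
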