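import Groth.Agent.Lib.MinOrd22.Sub
import Groth.Agent.Lib.MinOrd22.Pairing
import Groth.Agent.Lib.MinOrd22.LocFree

/-!
# Endomorphisms by the minimal order and local freeness of the lattice
-/

universe u

open CategoryTheory Limits MonoidalCategory CartesianMonoidalCategory AlgebraicGeometry
open scoped MonObj GrpObj

set_option linter.style.haveILetI false
set_option linter.unusedSectionVars false
set_option maxHeartbeats 2000000
set_option synthInstance.maxHeartbeats 400000
set_option backward.isDefEq.respectTransparency false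

noncomputable section

namespace Groth.Agent.MinOrd22

open AVQuotH1 (AV unitPt)

variable {J : Type} [Fintype J] {K : J → Type} [∀ j, Field (K j)] [∀ j, CharZero (K j)] {ϖ : ∀ j, K j}
variable {k : Type u} [Field k] [Finite k] {p : ℕ} [Fact p.Prime] (hk : Nat.card k = p)
  (hint : ∀ j, IsIntegral ℤ (ϖ j))
  {Aw : Over (Spec (CommRingCat.of k))} [GrpObj Aw] [IsCommMonObj Aw] [IsProper Aw.hom]
  [GeometricallyIntegral Aw.hom] {πw : Aw ⟶ Aw} [IsMonHom πw] (hπw : IsPFrob p πw)
  (hweil : ∀ j, ∀ z ∈ (minpoly ℤ (ϖ j)).aroots ℂ, ‖z‖ = Real.sqrt p)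
  (hinj : ∀ i j, minpoly ℤ (ϖ i) = minpoly ℤ (ϖ j) → i = j)
  (ρw : (MvPolynomial.aeval ![fun j => ϖ j, fun j => (p : K j) / ϖ j] : MvPolynomial (Fin 2) ℤ →ₐ[ℤ] ((j : J) → K j)).range ≃+* EndAV.End Aw)
  (hρw : ρw ⟨(MvPolynomial.aeval ![fun j => ϖ j, fun j => (p : K j) / ϖ j] : MvPolynomial (Fin 2) ℤ →ₐ[ℤ] ((j : J) → K j)) (MvPolynomial.X 0), AlgHom.mem_range_self _ _⟩ = EndAV.End.of πw)
  (o : OrderData p ϖ)

include hk hint hπw hweil hinj ρw hρw o in
/-- The endomorphism ring is the minimal order iff the lattice is locally free of rank one. -/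
theorem end_iso_iff (A : AV k) {πA : A.X ⟶ A.X} [IsMonHom πA] (hπA : IsPFrob p πA)
    (hPA : Polynomial.aeval (EndAV.End.of πA) (PP ϖ) = 0)
    [Module (MvPolynomial.aeval ![fun j => ϖ j, fun j => (p : K j) / ϖ j] : MvPolynomial (Fin 2) ℤ →ₐ[ℤ] ((j : J) → K j)).range (EndAV.Hom A.X Aw)]
    (hmod : ∀ r (φ : EndAV.Hom A.X Aw), r • φ = φ ≫ (ρw r : EndAV.Hom Aw Aw)) :
    (∃ ρ : (MvPolynomial.aeval ![fun j => ϖ j, fun j => (p : K j) / ϖ j] : MvPolynomial (Fin 2) ℤ →ₐ[ℤ] ((j : J) → K j)).range ≃+* EndAV.End A.X, ρ ⟨(MvPolynomial.aeval ![fun j => ϖ j, fun j => (p : K j) / ϖ j] : MvPolynomial (Fin 2) ℤ →ₐ[ℤ] ((j : J) → K j)) (MvPolynomial.X 0), AlgHom.mem_range_self _ _⟩ = EndAV.End.of πA) ↔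
      ∀ (P : Ideal ↥(MvPolynomial.aeval ![fun j => ϖ j, fun j => (p : K j) / ϖ j] : MvPolynomial (Fin 2) ℤ →ₐ[ℤ] ((j : J) → K j)).range) (_ : P.IsPrime),
        Nonempty (LocalizedModule P.primeCompl (EndAV.Hom A.X Aw) ≃ₗ[Localization.AtPrime P] Localization.AtPrime P) := by
  let aw : MvPolynomial (Fin 2) ℤ →ₐ[ℤ] ((j : J) → K j) := MvPolynomial.aeval ![fun j => ϖ j, fun j => (p : K j) / ϖ j]
  let R := aw.range
  let M := EndAV.Hom A.X Aw
  have hA : InAV p ϖ A := ⟨πA, inferInstance, hπA, hPA⟩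
  have hext : ∀ a b : EndAV.Hom A.X A.X, (∀ φ : M, a ≫ φ = b ≫ φ) → a = b :=
    hom_ext_of_pre hk hint hπw hweil hinj ρw hρw o A A hA
  -- endomorphisms acting as scalars
  have hex : ∀ r : R, ∃ f : EndAV.Hom A.X A.X, ∀ φ : M, φ ≫ (ρw r : EndAV.Hom Aw Aw) = f ≫ φ := fun r =>
    exists_hom_of_linear hk hint hπw hweil hinj ρw hρw o A A hA
      (AddMonoidHom.mk' (fun φ => φ ≫ (ρw r : EndAV.Hom Aw Aw)) fun a b => Preadditive.add_comp _ _ _ _ _ _) fun φ s => by
        show (φ ≫ s) ≫ _ = (φ ≫ _) ≫ s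
        rw [Category.assoc, Category.assoc]
        refine congrArg (φ ≫ ·) ?_
        show toE (ρw r : EndAV.Hom Aw Aw) * toE s = toE s * toE (ρw r : EndAV.Hom Aw Aw)
        obtain ⟨s', hs'⟩ := ρw.surjective (toE s)
        rw [← hs']
        show ρw r * ρw s' = ρw s' * ρw r
        rw [← map_mul, ← map_mul, mul_comm]
  choose f hf using hex
  let gm : R →+* EndAV.End A.X :=
    { toFun := fun r => f r
      map_one' := hext _ _ fun φ => by
        rw [← hf, map_one]; exact (Category.comp_id φ).trans (Category.id_comp φ).symm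
      map_mul' := fun a b => hext _ _ fun φ => by
        show f (a * b) ≫ φ = (f b ≫ f a) ≫ φ
        rw [Category.assoc, ← hf, ← hf, ← hf, mul_comm a b, map_mul, Category.assoc]
        rfl
      map_zero' := hext _ _ fun φ => by
        rw [← hf, map_zero]; exact Limits.comp_zero.trans Limits.zero_comp.symm
      map_add' := fun a b => hext _ _ fun φ => by
        rw [← hf, map_add]
        exact (Preadditive.comp_add _ _ _ _ _ _).trans ((congrArg₂ (· + ·) (hf a φ) (hf b φ)).trans
          (Preadditive.add_comp _ _ _ _ _ _).symm) }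
  have hgm : ∀ r (φ : M), r • φ = (gm r : EndAV.Hom A.X A.X) ≫ φ := fun r φ => (hmod r φ).trans (hf r φ)
  let F : R := ⟨aw (MvPolynomial.X 0), AlgHom.mem_range_self _ _⟩
  let V : R := ⟨aw (MvPolynomial.X 1), AlgHom.mem_range_self _ _⟩
  have hgmF : gm F = EndAV.End.of πA := hext _ _ fun φ => by
    show f F ≫ φ = _
    rw [← hf, hρw, frob_comm_hom hk (X := A) (Q := ⟨Aw⟩) hπA hπw φ]
  -- the homomorphism is determined by the image of `F`
  have huniq : ∀ ρ : R ≃+* EndAV.End A.X, ρ F = EndAV.End.of πA → ∀ r, ρ r = gm r := by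
    intro ρ hρ
    have hFV : F * V = (p : R) := by
      refine Subtype.ext ?_
      show aw (MvPolynomial.X 0) * aw (MvPolynomial.X 1) = _
      rw [MvPolynomial.aeval_X, MvPolynomial.aeval_X]
      exact (varpi_mul_div hint hweil).trans (by simp)
    have hV : ρ V = gm V := by
      have h1 : ρ F * ρ V = ρ F * gm V := by
        rw [← map_mul, hFV, map_natCast, hρ, ← hgmF, ← map_mul, hFV, map_natCast]
      obtain ⟨w, hw⟩ := ρ.surjective (gm V)
      rw [← hw] at h1 ⊢
      rw [← map_mul, ← map_mul] at h1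
      have h2 := congrArg Subtype.val (ρ.injective h1)
      refine congrArg ρ (Subtype.ext (funext fun j => ?_))
      have h3 := congrFun h2 j
      simp only [MulMemClass.coe_mul, Pi.mul_apply] at h3
      refine mul_left_cancel₀ ?_ h3
      show aw (MvPolynomial.X 0) j ≠ 0
      rw [MvPolynomial.aeval_X]
      exact varpi_ne_zero hint hweil j
    rintro ⟨_, Q, rfl⟩
    induction Q using MvPolynomial.induction_on with
    | C c =>
      rw [show (⟨aw.toRingHom (MvPolynomial.C c), AlgHom.mem_range_self _ _⟩ : R) = (c : R) from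
        Subtype.ext (by simp), map_intCast, map_intCast]
    | add P S hP hS =>
      rw [show (⟨aw.toRingHom (P + S), AlgHom.mem_range_self _ _⟩ : R) =
        ⟨aw.toRingHom P, AlgHom.mem_range_self _ _⟩ + ⟨aw.toRingHom S, AlgHom.mem_range_self _ _⟩ from
          Subtype.ext (map_add _ _ _), map_add, map_add, hP, hS]
    | mul_X P i hP =>
      rw [show (⟨aw.toRingHom (P * MvPolynomial.X i), AlgHom.mem_range_self _ _⟩ : R) =
        ⟨aw.toRingHom P, AlgHom.mem_range_self _ _⟩ * ⟨aw.toRingHom (MvPolynomial.X i), AlgHom.mem_range_self _ _⟩ from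
          Subtype.ext (map_mul _ _ _), map_mul, map_mul, hP]
      congr 1
      fin_cases i
      · exact hρ.trans hgmF.symm
      · exact hV
  haveI : IsScalarTower ℤ R M := AddCommGroup.intIsScalarTower
  haveI : Module.Finite ℤ M := TateTors22.finite_hom (A := A.X) (B := Aw)
  haveI : Module.Free ℤ M := TateTors22.free_hom (A := A.X) (B := Aw)
  haveI : Module.Finite R M := Module.Finite.of_restrictScalars_finite ℤ R M
  haveI : Module.Finite ℤ (EndAV.End Aw) := TateTors22.finite_hom (A := Aw) (B := Aw)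
  haveI : Module.Finite ℤ R := Module.Finite.equiv ρw.symm.toAddEquiv.toIntLinearEquiv
  haveI : IsAddTorsionFree R := Function.Injective.isAddTorsionFree R.val.toAddMonoidHom Subtype.val_injective
  haveI : Module.Free ℤ R := Module.free_of_finite_type_torsion_free'
  constructor
  · rintro ⟨ρ, hρ⟩ P hP
    obtain ⟨δ, hδ⟩ := exists_perfect_order hint hweil hinj o
    haveI := hP
    refine LocFree.nonempty_localized_equiv δ hδ (fun g => ?_) (fun a ha => ρ.injective ?_) P
    · obtain ⟨f', hf'⟩ := exists_hom_of_linear hk hint hπw hweil hinj ρw hρw o A A hA g.toAddMonoidHom fun φ s => by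
        obtain ⟨r, hr⟩ := ρw.surjective (toE s)
        have h1 : ∀ ψ : M, ψ ≫ s = r • ψ := fun ψ => by rw [hmod, hr]; rfl
        show g (φ ≫ s) = g φ ≫ s
        rw [h1, h1, g.map_smul]
      obtain ⟨r, hr⟩ := ρ.surjective (toE f')
      refine ⟨r, fun φ => ?_⟩
      rw [show g φ = f' ≫ φ from hf' φ, hgm, ← huniq ρ hρ, hr]
      rfl
    · rw [huniq ρ hρ, huniq ρ hρ, map_zero]
      exact hext _ _ fun φ => (hgm a φ).symm.trans ((ha φ).trans Limits.zero_comp.symm)
  · intro h
    obtain ⟨hend, hfaith⟩ := LocFree.scalar_of_localized h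
    have hbij : Function.Bijective gm := by
      refine ⟨(injective_iff_map_eq_zero gm).2 fun a ha => hfaith a fun φ => ?_, fun g => ?_⟩
      · rw [hgm, ha]; exact Limits.zero_comp
      · let g' : EndAV.Hom A.X A.X := g
        let L : M →ₗ[R] M :=
          { toFun := fun φ => g' ≫ φ
            map_add' := fun a b => Preadditive.comp_add _ _ _ _ _ _
            map_smul' := fun r φ => by rw [hmod, RingHom.id_apply, hmod, ← Category.assoc] }
        obtain ⟨r, hr⟩ := hend L
        exact ⟨r, hext _ _ fun φ => ((hgm r φ).symm.trans (hr φ).symm : (gm r : EndAV.Hom A.X A.X) ≫ φ = g' ≫ φ)⟩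
    exact ⟨RingEquiv.ofBijective gm hbij, hgmF⟩

end Groth.Agent.MinOrd22

end
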