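import Groth.Agent.Lib.MinOrd22.Functor
import Groth.Agent.Lib.AVQuotH1.Kernel

/-!
# Realizing lattices, and the endomorphism rings of the objects realized
-/

universe u

open CategoryTheory Limits MonoidalCategory CartesianMonoidalCategory AlgebraicGeometry
open scoped MonObj GrpObj

set_option linter.style.haveILetI false
set_option linter.unusedSectionVars false
set_option maxHeartbeats 2000000
set_option synthInstance.maxHeartbeats 400000
set_option backward.isDefEq.respectTransparency false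

noncomputable section

namespace Groth.Agent.MinOrd22

open AVQuotH1 (AV unitPt)

/-- A homomorphism from an object to itself as an element of the endomorphism ring. -/
def toE {k : Type u} [Field k] {A : Over (Spec (CommRingCat.of k))} [GrpObj A] [IsCommMonObj A]
    (a : EndAV.Hom A A) : EndAV.End A := a

variable {J : Type} [Fintype J] {K : J → Type} [∀ j, Field (K j)] [∀ j, CharZero (K j)] {ϖ : ∀ j, K j}
variable {k : Type u} [Field k] [Finite k] {p : ℕ} [Fact p.Prime] (hk : Nat.card k = p)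
  (hint : ∀ j, IsIntegral ℤ (ϖ j))
  {Aw : Over (Spec (CommRingCat.of k))} [GrpObj Aw] [IsCommMonObj Aw] [IsProper Aw.hom]
  [GeometricallyIntegral Aw.hom] {πw : Aw ⟶ Aw} [IsMonHom πw] (hπw : IsPFrob p πw)
  (hweil : ∀ j, ∀ z ∈ (minpoly ℤ (ϖ j)).aroots ℂ, ‖z‖ = Real.sqrt p)
  (hinj : ∀ i j, minpoly ℤ (ϖ i) = minpoly ℤ (ϖ j) → i = j)
  (ρw : (MvPolynomial.aeval ![fun j => ϖ j, fun j => (p : K j) / ϖ j] : MvPolynomial (Fin 2) ℤ →ₐ[ℤ] ((j : J) → K j)).range ≃+* EndAV.End Aw)
  (hρw : ρw ⟨(MvPolynomial.aeval ![fun j => ϖ j, fun j => (p : K j) / ϖ j] : MvPolynomial (Fin 2) ℤ →ₐ[ℤ] ((j : J) → K j)) (MvPolynomial.X 0), AlgHom.mem_range_self _ _⟩ = EndAV.End.of πw)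
  (o : OrderData p ϖ)

include hk hint hπw hweil hinj ρw hρw o in
/-- Every lattice module over the endomorphisms is a module of homomorphisms. -/
theorem exists_of_module (M : Type u) [AddCommGroup M] [Module (EndAV.End Aw) M] [Module.Finite ℤ M]
    [Module.Free ℤ M] :
    ∃ X : AV k, InAV p ϖ X ∧ ∃ e : M ≃+ EndAV.Hom X.X Aw,
      ∀ (s : EndAV.End Aw) (z : M), e (s • z) = e z ≫ (s : EndAV.Hom Aw Aw) := by
  classical
  obtain ⟨n, v, hv⟩ := Module.Finite.exists_fin (R := ℤ) (M := M)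
  obtain ⟨P, -, pr, inj, hP, -, hd, hsum, -⟩ :=
    exists_power hk hπw ρw hρw (X := (⟨Aw⟩ : AV k)) n fun _ => 0
  -- presentation
  let θ : EndAV.Hom P.X Aw →+ M := AddMonoidHom.mk' (fun χ => ∑ i, toE (inj i ≫ χ) • v i)
    fun a b => by
      rw [← Finset.sum_add_distrib]
      refine Finset.sum_congr rfl fun i _ => ?_
      rw [Preadditive.comp_add]
      exact add_smul (toE (inj i ≫ a)) (toE (inj i ≫ b)) (v i)
  have hθs : ∀ (χ : EndAV.Hom P.X Aw) (s : EndAV.Hom Aw Aw), θ (χ ≫ s) = toE s • θ χ := fun χ s => by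
    show ∑ i, toE (inj i ≫ χ ≫ s) • v i = toE s • ∑ i, toE (inj i ≫ χ) • v i
    rw [Finset.smul_sum]
    refine Finset.sum_congr rfl fun i _ => ?_
    rw [← Category.assoc]
    exact mul_smul (toE s) (toE (inj i ≫ χ)) (v i)
  have hθsurj : Function.Surjective θ := by
    have hle : Submodule.span ℤ (Set.range v) ≤ AddSubgroup.toIntSubmodule θ.range := by
      refine Submodule.span_le.2 (Set.range_subset_iff.2 fun j => ⟨pr j, ?_⟩)
      show ∑ i, toE (inj i ≫ pr j) • v i = v j
      rw [Finset.sum_eq_single j]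
      · rw [hd, if_pos rfl]; exact one_smul (EndAV.End Aw) (v j)
      · intro i _ hij
        rw [hd, if_neg hij]; exact zero_smul (EndAV.End Aw) (v i)
      · exact fun h => absurd (Finset.mem_univ j) h
    exact fun x => hle (hv.ge Submodule.mem_top)
  -- the relations
  haveI := TateTors22.finite_hom (A := P.X) (B := Aw)
  haveI : IsNoetherian ℤ (EndAV.Hom P.X Aw) := isNoetherian_of_isNoetherianRing_of_finite ℤ _
  obtain ⟨m, rr, hrr⟩ := Submodule.fg_iff_exists_fin_generating_family.1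
    (IsNoetherian.noetherian (LinearMap.ker θ.toIntLinearMap))
  obtain ⟨P', W, pr', inj', hP', hW, -, hsum', -⟩ := exists_power hk hπw ρw hρw (X := P) m rr
  obtain ⟨X, x, U, hxm, hxc, hxW, hU, hrange⟩ := AVQuotH1.exists_unit_component W.toHom
  haveI := hxm; haveI := hxc
  haveI : Mono x := Over.mono_of_mono_left _
  haveI : IsClosedImmersion (EndAV.Hom.of x).toHom.left := hxc
  haveI : Mono (EndAV.Hom.of x).toHom := ‹Mono x›
  have hX : InAV p ϖ X := inAV_of_mono hk (X := X) (Y := P) hP (EndAV.Hom.of x)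
  have hsurj : Function.Surjective (pre Aw (EndAV.Hom.of x)) :=
    surjective_of_isClosedImmersion hk hint hπw hweil hinj ρw hρw o X P (EndAV.Hom.of x) hP
  have hxW' : EndAV.Hom.of x ≫ W = 0 := EndAV.Hom.ext hxW
  have hle : θ.ker ≤ (pre Aw (EndAV.Hom.of x)).ker := by
    intro φ hφ
    have h2 : Submodule.span ℤ (Set.range rr) ≤ LinearMap.ker (pre Aw (EndAV.Hom.of x)).toIntLinearMap := by
      refine Submodule.span_le.2 (Set.range_subset_iff.2 fun i => ?_)
      show EndAV.Hom.of x ≫ rr i = 0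
      rw [← hW i, ← Category.assoc, hxW', Limits.zero_comp]
    exact h2 (hrr.ge (show φ ∈ LinearMap.ker θ.toIntLinearMap from hφ))
  have hge : (pre Aw (EndAV.Hom.of x)).ker ≤ θ.ker := by
    intro φ hφ
    obtain ⟨Q, j, q, N, h, hjm, hjc, hqm, hqs, hhm, hqj, hN, hqh⟩ :=
      AVQuotH1.exists_nsmul_factor (P := P) (R := P') (A := ⟨Aw⟩) W.toHom φ.toHom x hxW
        (congrArg EndAV.Hom.toHom (AddMonoidHom.mem_ker.1 hφ)) U hU hrange
    haveI := hjm; haveI := hjc; haveI := hqm; haveI := hhm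
    haveI : IsClosedImmersion (EndAV.Hom.of j).toHom.left := hjc
    haveI : Mono (EndAV.Hom.of j).toHom := Over.mono_of_mono_left _
    obtain ⟨χ, hχ⟩ := surjective_of_isClosedImmersion hk hint hπw hweil hinj ρw hρw o Q P' (EndAV.Hom.of j) hP'
      (EndAV.Hom.of h)
    have e1 : W ≫ χ = N • φ := EndAV.Hom.ext (by
      rw [EndAV.Hom.toHom_nsmul, EndAV.Hom.toHom_comp, ← hqj, Category.assoc, ← hqh]
      exact congrArg (q ≫ ·) (congrArg EndAV.Hom.toHom hχ))
    have e2 : θ (W ≫ χ) = 0 := by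
      rw [← hsum' χ, Preadditive.comp_sum, map_sum]
      refine Finset.sum_eq_zero fun i _ => ?_
      rw [← Category.assoc W, hW, hθs,
        show θ (rr i) = 0 from LinearMap.mem_ker.1 (hrr.le (Submodule.subset_span (Set.mem_range_self i))), smul_zero]
    rw [e1, map_nsmul, ← natCast_zsmul] at e2
    exact AddMonoidHom.mem_ker.2 ((smul_eq_zero.1 e2).resolve_left (by exact_mod_cast hN.ne'))
  refine ⟨X, hX, ?_⟩
  let f : M →+ EndAV.Hom X.X Aw := θ.liftOfSurjective hθsurj ⟨pre Aw (EndAV.Hom.of x), hle⟩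
  have hf : ∀ χ, f (θ χ) = EndAV.Hom.of x ≫ χ := fun χ =>
    AddMonoidHom.liftOfRightInverse_comp_apply θ (Function.surjInv hθsurj) (Function.rightInverse_surjInv hθsurj) ⟨_, hle⟩ χ
  have hbij : Function.Bijective f := by
    refine ⟨(injective_iff_map_eq_zero f).2 fun z hz => ?_, fun ψ => ?_⟩
    · obtain ⟨χ, rfl⟩ := hθsurj z
      rw [hf] at hz
      exact hge hz
    · obtain ⟨χ, rfl⟩ := hsurj ψ
      exact ⟨θ χ, hf χ⟩
  refine ⟨AddEquiv.ofBijective f hbij, fun s z => ?_⟩
  obtain ⟨χ, rfl⟩ := hθsurj z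
  show f (s • θ χ) = f (θ χ) ≫ (s : EndAV.Hom Aw Aw)
  rw [hf, show s • θ χ = θ (χ ≫ (s : EndAV.Hom Aw Aw)) from (hθs χ s).symm, hf, Category.assoc]

include hk hint hπw hweil hinj ρw hρw o in
/-- If the lattice is a ring containing the order with torsion cokernel, it is the endomorphism ring. -/
theorem end_equiv (X : AV k) (hX : InAV p ϖ X) {T : Type*} [CommRing T] [IsAddTorsionFree T]
    (θ : EndAV.End Aw →+* T) (hsat : ∀ z : T, ∃ n : ℤ, n ≠ 0 ∧ n • z ∈ θ.range) (e : EndAV.Hom X.X Aw ≃+ T)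
    (he : ∀ (φ : EndAV.Hom X.X Aw) (s : EndAV.Hom Aw Aw), e (φ ≫ s) = θ (s : EndAV.End Aw) * e φ) :
    ∃ σ : T ≃+* EndAV.End X.X, ∀ (π : X.X ⟶ X.X) [IsMonHom π], IsPFrob p π →
      σ (θ (EndAV.End.of πw)) = EndAV.End.of π := by
  have hex : ∀ t : T, ∃ f : EndAV.Hom X.X X.X, ∀ φ : EndAV.Hom X.X Aw, e.symm (t * e φ) = f ≫ φ := fun t =>
    exists_hom_of_linear hk hint hπw hweil hinj ρw hρw o X X hX
      (AddMonoidHom.mk' (fun φ => e.symm (t * e φ)) fun a b => by rw [map_add, mul_add, map_add]) fun φ s => by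
        show e.symm (t * e (φ ≫ s)) = e.symm (t * e φ) ≫ s
        apply e.injective
        rw [e.apply_symm_apply, he, he, e.apply_symm_apply, mul_left_comm]
  choose f hf using hex
  have hext : ∀ a b : EndAV.Hom X.X X.X, (∀ φ : EndAV.Hom X.X Aw, a ≫ φ = b ≫ φ) → a = b :=
    hom_ext_of_pre hk hint hπw hweil hinj ρw hρw o X X hX
  let σ : T →+* EndAV.End X.X :=
    { toFun := fun t => f t
      map_one' := hext _ _ fun φ => by
        rw [← hf, _root_.one_mul, e.symm_apply_apply]; exact (Category.id_comp φ).symm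
      map_mul' := fun a b => hext _ _ fun φ => by
        show f (a * b) ≫ φ = (f b ≫ f a) ≫ φ
        rw [Category.assoc, ← hf, ← hf, ← hf, e.apply_symm_apply]
        exact congrArg e.symm ((_root_.mul_assoc a b _).trans (mul_left_comm a b _))
      map_zero' := hext _ _ fun φ => by
        rw [← hf, zero_mul, map_zero]; exact Limits.zero_comp.symm
      map_add' := fun a b => hext _ _ fun φ => by
        rw [← hf, add_mul, map_add, hf, hf]; exact (Preadditive.add_comp _ _ _ _ _ _).symm }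
  have hbij : Function.Bijective σ := by
    refine ⟨fun a b hab => ?_, fun g => ⟨e ((g : EndAV.Hom X.X X.X) ≫ e.symm 1), hext _ _ fun φ => ?_⟩⟩
    · have h1 : e.symm (a * e (e.symm 1)) = e.symm (b * e (e.symm 1)) := by
        rw [hf, hf]; exact congrArg (fun c : EndAV.Hom X.X X.X => c ≫ e.symm 1) hab
      simpa using h1
    · set g' : EndAV.Hom X.X X.X := g
      show f _ ≫ φ = g' ≫ φ
      rw [← hf]
      obtain ⟨n, hn, s, hs⟩ := hsat (e φ)
      have h1 : n • φ = e.symm 1 ≫ (s : EndAV.Hom Aw Aw) :=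
        e.injective (by rw [map_zsmul, he, e.apply_symm_apply, _root_.mul_one, hs])
      have h2 : n • e (g' ≫ φ) = n • (e (g' ≫ e.symm 1) * e φ) := by
        rw [← map_zsmul, ← Preadditive.comp_zsmul, h1, ← Category.assoc, he, hs, smul_mul_assoc,
          mul_comm (e φ)]
      rw [← zsmul_right_injective hn h2, e.symm_apply_apply]
  refine ⟨RingEquiv.ofBijective σ hbij, fun π _ hπ => hext _ _ fun φ => ?_⟩
  show f (θ (EndAV.End.of πw)) ≫ φ = _
  rw [← hf, frob_comm_hom hk (X := X) (Q := ⟨Aw⟩) hπ hπw φ]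
  apply e.injective
  rw [e.apply_symm_apply, he]

end Groth.Agent.MinOrd22

end
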