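import Groth.Agent.Lib.MinOrd22.Count
import Groth.Agent.Lib.BTProj23.Basic
import Groth.Agent.Lib.AVQuotH1.Basic

/-!
# Factoring homomorphisms through isogenies by counting kernels
-/

universe u

open CategoryTheory Limits MonoidalCategory CartesianMonoidalCategory AlgebraicGeometry MonObj
open scoped GrpObj

set_option linter.style.haveILetI false
set_option linter.unusedSectionVars false
set_option maxHeartbeats 1000000
set_option synthInstance.maxHeartbeats 400000
set_option backward.isDefEq.respectTransparency false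

noncomputable section

namespace Groth.Agent.MinOrd22

open AVQuotH1 (AV unitPt)

variable {k : Type u} [Field k]

theorem degI_comp (B Z X : AV k) (h : B.X ⟶ Z.X) [IsMonHom h] [IsFinite h.left] [Surjective h.left]
    (g : Z.X ⟶ X.X) [IsMonHom g] [IsFinite g.left] [Surjective g.left] : degI (h ≫ g) = degI h * degI g := by
  haveI : AlgebraicGeometry.IsIntegral X.X.left := GeometricallyIntegral.isIntegral_of_subsingleton X.X.hom
  haveI : AlgebraicGeometry.IsIntegral Z.X.left := GeometricallyIntegral.isIntegral_of_subsingleton Z.X.hom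
  haveI : Flat g.left := AbRigid.flat_of_surjective Z.X X.X g
  haveI : Flat h.left := AbRigid.flat_of_surjective B.X Z.X h
  exact BTProj23.finrank_comp h.left g.left (degI h) (fun y => degI_eq B Z h y) _

theorem isIso_of_degI_eq_one (Z X : AV k) (g : Z.X ⟶ X.X) [IsMonHom g] [IsFinite g.left] [Surjective g.left]
    (h : degI g = 1) : IsIso g := by
  haveI : AlgebraicGeometry.IsIntegral X.X.left := GeometricallyIntegral.isIntegral_of_subsingleton X.X.hom
  haveI : IsLocallyNoetherian X.X.left := LocallyOfFiniteType.isLocallyNoetherian X.X.hom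
  haveI : Flat g.left := AbRigid.flat_of_surjective Z.X X.X g
  haveI : IsIso ((Over.forget _).map g) :=
    show IsIso g.left from g.left.isIso_iff_finrank_eq.2 (funext fun y => (degI_eq Z X g y).trans h)
  exact isIso_of_reflects_iso g (Over.forget _)

/-- An isogeny splits through the common part of its kernel with that of a second homomorphism. -/
theorem exists_split (B X C : AV k) (f : B.X ⟶ X.X) [IsMonHom f] [IsFinite f.left] [Surjective f.left]
    (ψ : B.X ⟶ C.X) [IsMonHom ψ] :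
    ∃ (Z : AV k) (h : B.X ⟶ Z.X) (g : Z.X ⟶ X.X) (r : Z.X ⟶ C.X),
      IsMonHom h ∧ IsMonHom g ∧ IsMonHom r ∧ IsFinite h.left ∧ Surjective h.left ∧ IsFinite g.left ∧
      Surjective g.left ∧ h ≫ g = f ∧ h ≫ r = ψ ∧
      ∀ (T : Over (Spec (CommRingCat.of k))) (x : T ⟶ B.X), x ≫ h = 1 ↔ (x ≫ f = 1 ∧ x ≫ ψ = 1) := by
  haveI : IsProper (X.X ⊗ C.X).hom := by
    show IsProper (pullback.fst X.X.hom C.X.hom ≫ X.X.hom)
    infer_instance
  obtain ⟨Z, q, j, hq, hj, hqs, hjm, hqj⟩ := AVQuotH1.exists_image B (lift f ψ)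
  let g : Z.X ⟶ X.X := j ≫ fst X.X C.X
  let r : Z.X ⟶ C.X := j ≫ snd X.X C.X
  haveI : IsMonHom g := inferInstanceAs (IsMonHom (j ≫ fst X.X C.X))
  haveI : IsMonHom r := inferInstanceAs (IsMonHom (j ≫ snd X.X C.X))
  have hg : q ≫ g = f := by rw [← Category.assoc, hqj, lift_fst]
  have hr : q ≫ r = ψ := by rw [← Category.assoc, hqj, lift_snd]
  haveI := AVQuotH1.quasiCompact_left g
  haveI : IsFinite (q.left ≫ g.left) := by rw [← Over.comp_left, hg]; infer_instance
  haveI : IsFinite q.left := IsFinite.of_comp q.left g.left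
  haveI : Surjective (q.left ≫ g.left) := by rw [← Over.comp_left, hg]; infer_instance
  haveI : Surjective g.left := Surjective.of_comp q.left g.left
  haveI : LocallyQuasiFinite g.left := by
    refine locallyQuasiFinite_iff_finite_preimage_singleton.2 fun y => ?_
    refine (((q.left ≫ g.left).finite_preimage_singleton y).image q.left).subset fun z hz => ?_
    obtain ⟨b, rfl⟩ := q.left.surjective z
    exact ⟨b, hz, rfl⟩
  haveI : IsFinite g.left := IsFinite.of_isProper_of_locallyQuasiFinite g.left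
  refine ⟨Z, q, g, r, inferInstance, inferInstance, inferInstance, inferInstance, hqs, inferInstance, inferInstance,
    hg, hr, fun T x => ⟨fun hx => ⟨?_, ?_⟩, fun ⟨h1, h2⟩ => ?_⟩⟩
  · rw [← hg, ← Category.assoc, hx, MonObj.one_comp]
  · rw [← hr, ← Category.assoc, hx, MonObj.one_comp]
  · rw [← cancel_mono j, MonObj.one_comp, Category.assoc, hqj, comp_lift, h1, h2]
    ext <;> simp [MonObj.one_comp]

/-- Factorization when the common kernel is the whole kernel. -/
theorem exists_factor (B X C : AV k) (f : B.X ⟶ X.X) [IsMonHom f] [IsFinite f.left] [Surjective f.left]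
    (ψ : B.X ⟶ C.X) [IsMonHom ψ]
    (hdeg : ∀ (Z : AV k) (h : B.X ⟶ Z.X) [IsMonHom h] [IsFinite h.left] [Surjective h.left],
      (∀ (T : Over (Spec (CommRingCat.of k))) (x : T ⟶ B.X), x ≫ h = 1 ↔ (x ≫ f = 1 ∧ x ≫ ψ = 1)) →
        degI h = degI f) :
    ∃ r : X.X ⟶ C.X, IsMonHom r ∧ f ≫ r = ψ := by
  obtain ⟨Z, h, g, r, _, _, _, _, _, _, _, hg, hr, hker⟩ := exists_split B X C f ψ
  have h1 : degI g = 1 := by
    have h2 := degI_comp B Z X h g
    rw [hg, hdeg Z h hker] at h2
    exact ((Nat.mul_eq_left (degI_pos B X f).ne').1 h2.symm)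
  haveI := isIso_of_degI_eq_one Z X g h1
  haveI : IsMonHom (inv g) := AbRigid.isMonHom_of_one X.X Z.X (inv g) (by
    rw [← IsMonHom.one_hom (f := g), Category.assoc, IsIso.hom_inv_id, Category.comp_id])
  exact ⟨inv g ≫ r, inferInstance, by rw [← hg, Category.assoc, IsIso.hom_inv_id_assoc, hr]⟩

/-- Separable isogenies: a homomorphism killing the geometric kernel factors. -/
theorem exists_factor_of_pts [Finite k] (Ω : Type u) [Field Ω] [Algebra k Ω] [IsAlgClosed Ω] (B X C : AV k)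
    (f : B.X ⟶ X.X) [IsMonHom f] [IsFinite f.left] [Surjective f.left] (ψ : B.X ⟶ C.X) [IsMonHom ψ]
    (htan : ∀ t ∈ KerTan f, t = 1) (hψ : ∀ a ∈ KerPts (VecGrp.pt k Ω) f, a ≫ ψ = 1) :
    ∃ r : X.X ⟶ C.X, IsMonHom r ∧ f ≫ r = ψ := by
  refine exists_factor B X C f ψ fun Z h _ _ _ hker => ?_
  rw [← card_kerPts_eq Ω B X f htan,
    ← card_kerPts_eq Ω B Z h fun t ht => htan t ⟨ht.1, ((hker _ t).1 ht.2).1⟩]
  have e : KerPts (VecGrp.pt k Ω) h = KerPts (VecGrp.pt k Ω) f :=
    Set.ext fun a => ⟨fun ha => ((hker _ a).1 ha).1, fun ha => (hker _ a).2 ⟨ha, hψ a ha⟩⟩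
  rw [e]

variable [Finite k] {p : ℕ} [Fact p.Prime] (hk : Nat.card k = p)

include hk in
/-- Isogenies of height one: a homomorphism killing the tangent kernel factors. -/
theorem exists_factor_of_tan (B X C : AV k) (f : B.X ⟶ X.X) [IsMonHom f] [IsFinite f.left] [Surjective f.left]
    (ψ : B.X ⟶ C.X) [IsMonHom ψ] {πB : B.X ⟶ B.X} [IsMonHom πB] (hπB : IsPFrob p πB)
    (hh : ∀ (T : Over (Spec (CommRingCat.of k))) (x : T ⟶ B.X), x ≫ f = 1 → x ≫ πB = 1)
    (hψ : ∀ t ∈ KerTan f, t ≫ ψ = 1) :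
    ∃ r : X.X ⟶ C.X, IsMonHom r ∧ f ≫ r = ψ := by
  refine exists_factor B X C f ψ fun Z h _ _ _ hker => ?_
  rw [← card_kerTan_eq hk B X f hπB hh,
    ← card_kerTan_eq hk B Z h hπB fun T x hx => hh T x ((hker T x).1 hx).1]
  have e : KerTan h = KerTan f :=
    Set.ext fun a => ⟨fun ha => ⟨ha.1, ((hker _ a).1 ha.2).1⟩, fun ha => ⟨ha.1, (hker _ a).2 ⟨ha.2, hψ a ha⟩⟩⟩
  rw [e]

include hk in
/-- Frobenius kills tangent vectors. -/
theorem comp_piFrob_tan {Y : Over (Spec (CommRingCat.of k))} [GrpObj Y] {π : Y ⟶ Y} (hπ : IsPFrob p π)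
    (t : dp k ⟶ Y) (ht : zs k ≫ t = 1) : t ≫ π = 1 := by
  haveI : CharP k p := charP_field hk k
  haveI : Nontrivial (DualNumber k) := inferInstance
  obtain ⟨φ, hφ⟩ := exists_frobAlgHom hk (DualNumber k)
  have hp : 2 ≤ p := (Fact.out : p.Prime).two_le
  have e : φ = (Algebra.ofId k (DualNumber k)).comp (TrivSqZeroExt.fstHom k k k) := AlgHom.ext fun a => by
    rw [hφ, AlgHom.comp_apply, TrivSqZeroExt.fstHom_apply]
    refine TrivSqZeroExt.ext ?_ ?_
    · rw [TrivSqZeroExt.fst_pow]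
      simp [Algebra.ofId_apply, TrivSqZeroExt.algebraMap_eq_inl]
      letI := Fintype.ofFinite k
      rw [← hk, Nat.card_eq_fintype_card, FiniteField.pow_card]
    · rw [TrivSqZeroExt.snd_pow]
      simp [Algebra.ofId_apply, TrivSqZeroExt.algebraMap_eq_inl, CharP.cast_eq_zero]
  rw [comp_piFrob hk hπ t φ hφ, e]
  have h1 : VecGrp.ptMap ((Algebra.ofId k (DualNumber k)).comp (TrivSqZeroExt.fstHom k k k)) =
      VecGrp.ptMap (Algebra.ofId k (DualNumber k)) ≫ zs k := by
    apply Over.OverMorphism.ext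
    rw [Over.comp_left, zs, VecGrp.ptMap_left, VecGrp.ptMap_left, VecGrp.ptMap_left, ← Spec.map_comp]
    rfl
  rw [h1, Category.assoc, ht, MonObj.comp_one]

include hk in
/-- The Frobenius is injective on points in a perfect field. -/
theorem piFrob_injective (Ω : Type u) [Field Ω] [Algebra k Ω] [IsAlgClosed Ω] {Y : Over (Spec (CommRingCat.of k))}
    {π : Y ⟶ Y} (hπ : IsPFrob p π) {a b : VecGrp.pt k Ω ⟶ Y} (h : a ≫ π = b ≫ π) : a = b := by
  haveI : CharP Ω p := charP_field hk Ω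
  obtain ⟨φ, hφ⟩ := exists_frobAlgHom hk Ω
  rw [comp_piFrob hk hπ a φ hφ, comp_piFrob hk hπ b φ hφ] at h
  let e : Ω ≃ₐ[k] Ω := AlgEquiv.ofBijective φ (by
    have := PerfectRing.bijective_frobenius (R := Ω) (p := p)
    rwa [show (⇑φ : Ω → Ω) = frobenius Ω p from funext fun x => hφ x])
  have h' := congrArg (fun x => VecGrp.ptMap (e.symm : Ω →ₐ[k] Ω) ≫ x) h
  have he : VecGrp.ptMap (e.symm : Ω →ₐ[k] Ω) ≫ VecGrp.ptMap φ = 𝟙 _ := by
    apply Over.OverMorphism.ext
    rw [Over.comp_left, VecGrp.ptMap_left, VecGrp.ptMap_left, ← Spec.map_comp]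
    show Spec.map _ = 𝟙 _
    rw [← Spec.map_id]
    congr 1
    ext x
    exact e.symm_apply_apply x
  simpa [reassoc_of% he] using h'

include hk in
/-- The Frobenius of an abelian variety is an isogeny dividing multiplication by `p`. -/
theorem exists_versch (B : AV k) {πB : B.X ⟶ B.X} [IsMonHom πB] (hπB : IsPFrob p πB) :
    IsFinite πB.left ∧ Surjective πB.left ∧
      ∃ (v : B.X ⟶ B.X), IsMonHom v ∧ πB ≫ v = 𝟙 B.X ^ p ∧ v ≫ πB = 𝟙 B.X ^ p := by
  obtain ⟨hb, hle, happ⟩ := hπB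
  obtain ⟨v, hv, h1, h2⟩ := FrobPull22.exists_verschiebung (A := B.X) πB hle hb (fun U s => by rw [happ, hk])
  rw [hk] at h1 h2
  haveI : AlgebraicGeometry.IsIntegral B.X.left := GeometricallyIntegral.isIntegral_of_subsingleton B.X.hom
  haveI := AVQuotH1.quasiCompact_left v
  obtain ⟨hf, -, -⟩ := AVDegree22.isFinite_flat_surjective_pow B.X (Fact.out : p.Prime).pos
  haveI : IsFinite (πB.left ≫ v.left) := by rw [← Over.comp_left, h1]; exact hf
  exact ⟨IsFinite.of_comp πB.left v.left, ⟨fun x => ⟨x, by rw [hb]; rfl⟩⟩, v, hv, h1, h2⟩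

end Groth.Agent.MinOrd22

end
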