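import Groth.Agent.Lib.FrobPull22.Exists
import Groth.Agent.Lib.FrobPull22.Versch
import Groth.Agent.Lib.TateFin22.Main
import Groth.Agent.Lib.TateFinD14.Main

/-!
# Tate's theorem over a prime field in terms of the Frobenius endomorphism
-/

universe u

open CategoryTheory Limits MonoidalCategory CartesianMonoidalCategory AlgebraicGeometry
open scoped MonObj GrpObj

set_option linter.style.haveILetI false
set_option linter.unusedSectionVars false
set_option maxHeartbeats 1000000
set_option synthInstance.maxHeartbeats 400000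
set_option backward.isDefEq.respectTransparency false

noncomputable section

namespace Groth.Agent.MinOrd22

open Groth.Agent.TateSub22

variable {k : Type u} [Field k] [Finite k] {p : ℕ} [Fact p.Prime] (hk : Nat.card k = p)
  (Ω : Type u) [Field Ω] [Algebra k Ω] [IsAlgClosure k Ω]

/-- `π` is the `p`-Frobenius of `X`. -/
def IsPFrob (p : ℕ) {X : Over (Spec (CommRingCat.of k))} (π : X ⟶ X) : Prop :=
  π.left.base = 𝟙 _ ∧ ∃ hle : ∀ U : X.left.Opens, U ≤ π.left ⁻¹ᵁ U,
    ∀ (U : X.left.Opens) (s : Γ(X.left, U)), (π.left.appLE U U (hle U)).hom s = s ^ p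

include hk in
theorem charP_field (F : Type u) [Field F] [Algebra k F] : CharP F p := by
  haveI := Fintype.ofFinite k
  obtain ⟨q, hq⟩ := CharP.exists k
  obtain ⟨m, hqp, hcard⟩ := @FiniteField.card k _ _ q hq
  have hdvd : q ∣ p := by
    rw [← hk, Nat.card_eq_fintype_card, hcard]; exact dvd_pow_self q m.ne_zero
  obtain rfl := (Nat.prime_dvd_prime_iff_eq hqp Fact.out).1 hdvd
  exact charP_of_injective_algebraMap (algebraMap k F).injective q

include hk in
/-- The Frobenius endomorphisms commute with all morphisms. -/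
theorem IsPFrob.comm {X Y : Over (Spec (CommRingCat.of k))} {πX : X ⟶ X} {πY : Y ⟶ Y} (hX : IsPFrob p πX)
    (hY : IsPFrob p πY) (f : X ⟶ Y) : f ≫ πY = πX ≫ f := by
  haveI : CharP k p := charP_field hk k
  haveI : FrobSch.IsCharP X.left p := FrobSch.IsCharP.of_hom X.hom p
  haveI : FrobSch.IsCharP Y.left p := FrobSch.IsCharP.of_hom Y.hom p
  have hF : ∀ (Z : Over (Spec (CommRingCat.of k))) [FrobSch.IsCharP Z.left p] (πZ : Z ⟶ Z), IsPFrob p πZ →
      πZ.left = FrobSch.frob Z.left p := fun Z _ πZ hZ => by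
    obtain ⟨-, hle, happ⟩ := hZ
    exact FrobPull22.eq_of_appLE_eq _ _ hle (fun U => le_rfl) fun U s => by
      rw [happ]
      exact (ConcreteCategory.congr_hom ((FrobSch.frob Z.left p).appLE_eq_app (U := U)) s).symm
  apply Over.OverMorphism.ext
  show f.left ≫ πY.left = πX.left ≫ f.left
  rw [hF X πX hX, hF Y πY hY, FrobSch.frob_comp]

/-- The Frobenius automorphism of the algebraic closure. -/
def frobAut : Ω ≃ₐ[k] Ω :=
  letI := Fintype.ofFinite k
  haveI : Algebra.IsAlgebraic k Ω := IsAlgClosure.isAlgebraic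
  FiniteField.frobeniusAlgEquivOfAlgebraic k Ω

include hk in
theorem frobAut_apply (x : Ω) : frobAut (k := k) Ω x = x ^ p := by
  letI := Fintype.ofFinite k
  rw [← hk, Nat.card_eq_fintype_card]
  rfl

include hk in
/-- On geometric points the Frobenius endomorphism is the Frobenius automorphism. -/
theorem galAct_frobAut {X : Over (Spec (CommRingCat.of k))} {π : X ⟶ X} (hπ : IsPFrob p π)
    (a : SGA7.pt (K := k) Ω ⟶ X) : SGA7.galAct (frobAut (k := k) Ω) a = a ≫ π := by
  haveI : CharP k p := charP_field hk k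
  haveI : CharP Ω p := charP_field hk Ω
  haveI : FrobSch.IsCharP X.left p := FrobSch.IsCharP.of_hom X.hom p
  obtain ⟨hb, hle, happ⟩ := hπ
  have hF : π.left = FrobSch.frob X.left p := FrobPull22.eq_of_appLE_eq _ _ hle (fun U => le_rfl) fun U s => by
    rw [happ]
    exact (ConcreteCategory.congr_hom ((FrobSch.frob X.left p).appLE_eq_app (U := U)) s).symm
  apply Over.OverMorphism.ext
  show Spec.map (CommRingCat.ofHom ((frobAut (k := k) Ω : Ω ≃ₐ[k] Ω) : Ω →+* Ω)) ≫ a.left = a.left ≫ π.left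
  rw [hF]
  haveI : FrobSch.IsCharP (SGA7.pt (K := k) Ω).left p := inferInstanceAs (FrobSch.IsCharP (Spec (CommRingCat.of Ω)) p)
  rw [← FrobSch.frob_comp]
  congr 1
  refine ext_of_isAffine ?_
  ext s
  refine (Scheme.ΓSpecIso (CommRingCat.of Ω)).commRingCatIsoToRingEquiv.injective ?_
  show (Scheme.ΓSpecIso (CommRingCat.of Ω)).hom ((Spec.map _).appTop s) =
    (Scheme.ΓSpecIso (CommRingCat.of Ω)).hom (s ^ p : Γ(Spec (CommRingCat.of Ω), ⊤))
  rw [map_pow, ← ConcreteCategory.comp_apply, Scheme.ΓSpecIso_naturality, ConcreteCategory.comp_apply]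
  exact frobAut_apply hk Ω _

include hk in
theorem galAct_frobAut_pow {X : Over (Spec (CommRingCat.of k))} [GrpObj X] [IsCommMonObj X] {π : X ⟶ X} [IsMonHom π]
    (hπ : IsPFrob p π) (i : ℕ) (a : SGA7.pt (K := k) Ω ⟶ X) :
    SGA7.galAct (frobAut (k := k) Ω ^ i) a = a ≫ (EndAV.End.of π ^ i).toHom := by
  induction i generalizing a with
  | zero =>
    rw [pow_zero, pow_zero]
    show SGA7.specAut (1 : Ω ≃ₐ[k] Ω) ≫ a = a ≫ 𝟙 X
    rw [Category.comp_id]
    convert Category.id_comp a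
    ext1
    exact Spec.map_id _
  | succ i ih =>
    rw [pow_succ, pow_succ]
    show _ = a ≫ π ≫ (EndAV.End.of π ^ i).toHom
    rw [← Category.assoc, ← galAct_frobAut hk Ω hπ, ← ih]
    show SGA7.specAut _ ≫ a = SGA7.specAut _ ≫ SGA7.specAut _ ≫ a
    rw [← Category.assoc]
    congr 1
    ext1
    show Spec.map _ = Spec.map _ ≫ Spec.map _
    rw [← Spec.map_comp]
    rfl

theorem exists_finset_determines {X : Over (Spec (CommRingCat.of k))} [LocallyOfFiniteType X.hom]
    (a : SGA7.pt (K := k) Ω ⟶ X) :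
    ∃ s : Finset Ω, ∀ σ τ : Ω ≃ₐ[k] Ω, (∀ x ∈ s, σ x = τ x) → SGA7.galAct σ a = SGA7.galAct τ a := by
  classical
  obtain ⟨U, hU, hzU, -⟩ := exists_isAffineOpen_mem_and_subset (X := X.left) (U := ⊤)
    (x := a.left (IsLocalRing.closedPoint Ω)) trivial
  have hr : Set.range a.left ⊆ Set.range U.ι := by
    rw [Scheme.Opens.range_ι]
    rintro _ ⟨y, rfl⟩
    haveI : Subsingleton (SGA7.pt (K := k) Ω).left := inferInstanceAs (Subsingleton (PrimeSpectrum Ω))
    rwa [Subsingleton.elim y (IsLocalRing.closedPoint Ω)]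
  obtain ⟨φ, hφ⟩ := Spec.map_surjective (R := Γ(X.left, U)) (S := CommRingCat.of Ω)
    (IsOpenImmersion.lift U.ι a.left hr ≫ hU.isoSpec.hom)
  have hfac : Spec.map φ ≫ hU.fromSpec = a.left := by
    rw [hφ, Category.assoc, hU.isoSpec_hom, IsAffineOpen.toSpecΓ_fromSpec]
    exact IsOpenImmersion.lift_fac _ _ _
  let ψ : CommRingCat.of k ⟶ Γ(X.left, U) := Spec.preimage (hU.fromSpec ≫ X.hom)
  have hψ : Spec.map ψ = hU.fromSpec ≫ X.hom := Spec.map_preimage _
  have hlft : LocallyOfFiniteType (Spec.map ψ) := by rw [hψ]; infer_instance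
  letI : Algebra k Γ(X.left, U) := ψ.hom.toAlgebra
  haveI : Algebra.FiniteType k Γ(X.left, U) := (HasRingHomProperty.Spec_iff.mp hlft : ψ.hom.FiniteType)
  obtain ⟨g, hg⟩ := Algebra.FiniteType.out (R := k) (A := Γ(X.left, U))
  refine ⟨g.image φ.hom, fun σ τ h => Over.OverMorphism.ext ?_⟩
  show Spec.map (CommRingCat.ofHom (σ : Ω →+* Ω)) ≫ a.left = Spec.map (CommRingCat.ofHom (τ : Ω →+* Ω)) ≫ a.left
  rw [← hfac, ← Category.assoc, ← Category.assoc, ← Spec.map_comp, ← Spec.map_comp]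
  congr 2
  have hk0 : ψ ≫ φ = CommRingCat.ofHom (algebraMap k Ω) := by
    apply Spec.map_injective
    rw [Spec.map_comp, hψ, ← Category.assoc, hfac]
    exact Over.w a
  let φa : Γ(X.left, U) →ₐ[k] Ω := { φ.hom with
    commutes' := fun c => congrArg (fun r : CommRingCat.of k ⟶ CommRingCat.of Ω => r.hom c) hk0 }
  have he : (σ : Ω →ₐ[k] Ω).comp φa = (τ : Ω →ₐ[k] Ω).comp φa :=
    AlgHom.ext_of_adjoin_eq_top hg fun x hx => h _ (Finset.mem_image_of_mem φ.hom hx)
  ext x
  exact DFunLike.congr_fun he x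

include hk in
/-- A Galois automorphism acts on given points as a power of Frobenius. -/
theorem exists_pow_eq {X Y : Over (Spec (CommRingCat.of k))} [LocallyOfFiniteType X.hom] [LocallyOfFiniteType Y.hom]
    (τ : Ω ≃ₐ[k] Ω) (a : SGA7.pt (K := k) Ω ⟶ X) (b : SGA7.pt (K := k) Ω ⟶ Y) :
    ∃ i : ℕ, SGA7.galAct τ a = SGA7.galAct (frobAut (k := k) Ω ^ i) a ∧
      SGA7.galAct τ b = SGA7.galAct (frobAut (k := k) Ω ^ i) b := by
  classical
  letI := Fintype.ofFinite k
  haveI : Algebra.IsAlgebraic k Ω := IsAlgClosure.isAlgebraic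
  obtain ⟨s, hs⟩ := exists_finset_determines Ω a
  obtain ⟨t, ht⟩ := exists_finset_determines Ω b
  let F := IntermediateField.adjoin k ((↑(s ∪ t) : Set Ω))
  haveI : FiniteDimensional k F :=
    IntermediateField.finiteDimensional_adjoin fun x _ => Algebra.IsIntegral.isIntegral x
  haveI : Finite F := Module.finite_of_finite k
  haveI : Normal k F := IsGalois.to_normal
  obtain ⟨i, hi⟩ := (FiniteField.bijective_frobeniusAlgEquivOfAlgebraic_pow k F).2 (τ.restrictNormal F)
  refine ⟨i.1, ?_⟩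
  have hx : ∀ x ∈ s ∪ t, τ x = (frobAut (k := k) Ω ^ i.1) x := fun x hx => by
    have hxF : x ∈ F := IntermediateField.subset_adjoin k _ (by exact_mod_cast hx)
    have h1 : τ x = ((τ.restrictNormal F) ⟨x, hxF⟩ : Ω) := (τ.restrictNormal_commutes F ⟨x, hxF⟩).symm
    rw [h1, ← hi]
    simp only [AlgEquiv.coe_pow, frobAut, FiniteField.coe_frobeniusAlgEquivOfAlgebraic_iterate]
    rfl
  exact ⟨hs _ _ fun x h => hx x (Finset.mem_union_left _ h), ht _ _ fun x h => hx x (Finset.mem_union_right _ h)⟩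

variable (l : ℕ) [Fact l.Prime]

/-- The Galois action on the Tate module. -/
def galT (X : Over (Spec (CommRingCat.of k))) [GrpObj X] [IsCommMonObj X] (τ : Ω ≃ₐ[k] Ω) :
    Module.End ℤ_[l] (AbDual.TateMod X l (SGA7.pt (K := k) Ω)) where
  toFun z := ⟨fun n => Additive.ofMul (SGA7.galAct τ (co Ω l n z)),
    ⟨fun n => by
      show Additive.ofMul ((SGA7.galAct τ (co Ω l n z)) ^ l ^ n) = _
      rw [SGA7.galAct, ← MonObj.comp_pow, co, ← toMul_nsmul, z.2.1 n]
      exact congrArg Additive.ofMul (MonObj.comp_one _),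
    fun n => by
      show Additive.ofMul ((SGA7.galAct τ (co Ω l (n + 1) z)) ^ l) = _
      rw [SGA7.galAct, ← MonObj.comp_pow, co, ← toMul_nsmul, z.2.2 n]
      rfl⟩⟩
  map_add' x y := AbDual.TateMod.ext fun n => congrArg Additive.ofMul (MonObj.comp_mul _ _ _)
  map_smul' a x := AbDual.TateMod.ext fun n => congrArg Additive.ofMul (MonObj.comp_pow _ _ _)

include hk in
/-- Tate's theorem: maps of Tate modules commuting with Frobenius come from homomorphisms. -/
theorem mem_span_frob (hl : (l : k) ≠ 0) {A B : Over (Spec (CommRingCat.of k))}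
    [GrpObj A] [IsCommMonObj A] [IsProper A.hom] [GeometricallyIntegral A.hom]
    [GrpObj B] [IsCommMonObj B] [IsProper B.hom] [GeometricallyIntegral B.hom]
    {πA : A ⟶ A} [IsMonHom πA] (hπA : IsPFrob p πA) {πB : B ⟶ B} [IsMonHom πB] (hπB : IsPFrob p πB)
    (u : AbDual.TateMod A l (SGA7.pt (K := k) Ω) →ₗ[ℤ_[l]] AbDual.TateMod B l (SGA7.pt (K := k) Ω))
    (hu : u ∘ₗ EndAV.End.tateRep l (SGA7.pt (K := k) Ω) (EndAV.End.of πA) =
      EndAV.End.tateRep l (SGA7.pt (K := k) Ω) (EndAV.End.of πB) ∘ₗ u) :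
    u ∈ Submodule.span ℤ_[l] (Set.range (EndAV.Hom.tateMap (A := A) (B := B) l (SGA7.pt (K := k) Ω))) := by
  refine TateFin22.mem_span Ω l TateFinD14.exists_finite_isoClasses hl A B (galT Ω l A) (fun _ _ _ => rfl)
    (galT Ω l B) (fun _ _ _ => rfl) u fun τ z => AbDual.TateMod.ext fun n => ?_
  have hc : ∀ (j : ℕ) (w : AbDual.TateMod A l (SGA7.pt (K := k) Ω)),
      u (EndAV.End.tateRep l (SGA7.pt (K := k) Ω) (EndAV.End.of πA ^ j) w) =
        EndAV.End.tateRep l (SGA7.pt (K := k) Ω) (EndAV.End.of πB ^ j) (u w) := by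
    intro j
    induction j with
    | zero => intro w; rw [pow_zero, pow_zero, map_one, map_one]; rfl
    | succ j ih =>
      intro w
      rw [pow_succ, pow_succ, map_mul, map_mul, Module.End.mul_apply, Module.End.mul_apply]
      rw [ih]
      exact congrArg _ (LinearMap.congr_fun hu w)
  obtain ⟨i, hia, hib⟩ := exists_pow_eq hk Ω τ (co Ω l n z) (co Ω l n (u z))
  refine congrArg Additive.ofMul ?_
  show co Ω l n (u (galT Ω l A τ z)) = SGA7.galAct τ (co Ω l n (u z))
  rw [hib, galAct_frobAut_pow hk Ω hπB]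
  show _ = co Ω l n (EndAV.End.tateRep l (SGA7.pt (K := k) Ω) (EndAV.End.of πB ^ i) (u z))
  rw [← hc]
  have h0 : co Ω l n (galT Ω l A τ z) = co Ω l n (EndAV.End.tateRep l (SGA7.pt (K := k) Ω) (EndAV.End.of πA ^ i) z) := by
    show SGA7.galAct τ (co Ω l n z) = _
    rw [hia, galAct_frobAut_pow hk Ω hπA]
    rfl
  set w := EndAV.End.tateRep l (SGA7.pt (K := k) Ω) (EndAV.End.of πA ^ i) z
  have hd : co Ω l n (galT Ω l A τ z - w) = 1 := by
    show co Ω l n (galT Ω l A τ z) / co Ω l n w = 1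
    rw [h0, div_self']
  obtain ⟨t, ht⟩ := exists_smul_of_co_eq_one Ω l hd
  have h2 : co Ω l n (u (galT Ω l A τ z - w)) = 1 := by
    rw [ht, map_smul]
    rw [← Nat.cast_pow, Nat.cast_smul_eq_nsmul]
    show (AbDual.TateMod.component B l (SGA7.pt (K := k) Ω) n ((l ^ n) • u t)).toMul = 1
    rw [map_nsmul, toMul_nsmul]
    exact (toMul_nsmul _ _).symm.trans (congrArg Additive.toMul ((u t).2.1 n))
  rw [map_sub] at h2
  exact div_eq_one.1 h2

end Groth.Agent.MinOrd22

end
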