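import Groth.Agent.Lib.MinOrd22.Lattice

/-!
# The lattice functor is fully faithful and essentially surjective
-/

universe u

open CategoryTheory Limits MonoidalCategory CartesianMonoidalCategory AlgebraicGeometry
open scoped MonObj GrpObj

set_option linter.style.haveILetI false
set_option linter.unusedSectionVars false
set_option maxHeartbeats 2000000
set_option synthInstance.maxHeartbeats 400000
set_option backward.isDefEq.respectTransparency false

noncomputable section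

namespace Groth.Agent.MinOrd22

open AVQuotH1 (AV unitPt)

variable {J : Type} [Fintype J] {K : J → Type} [∀ j, Field (K j)] [∀ j, CharZero (K j)] {ϖ : ∀ j, K j}
variable {k : Type u} [Field k] [Finite k] {p : ℕ} [Fact p.Prime] (hk : Nat.card k = p)
  (hint : ∀ j, IsIntegral ℤ (ϖ j))
  {Aw : Over (Spec (CommRingCat.of k))} [GrpObj Aw] [IsCommMonObj Aw] [IsProper Aw.hom]
  [GeometricallyIntegral Aw.hom] {πw : Aw ⟶ Aw} [IsMonHom πw] (hπw : IsPFrob p πw)
  (hweil : ∀ j, ∀ z ∈ (minpoly ℤ (ϖ j)).aroots ℂ, ‖z‖ = Real.sqrt p)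
  (hinj : ∀ i j, minpoly ℤ (ϖ i) = minpoly ℤ (ϖ j) → i = j)
  (ρw : (MvPolynomial.aeval ![fun j => ϖ j, fun j => (p : K j) / ϖ j] : MvPolynomial (Fin 2) ℤ →ₐ[ℤ] ((j : J) → K j)).range ≃+* EndAV.End Aw)
  (hρw : ρw ⟨(MvPolynomial.aeval ![fun j => ϖ j, fun j => (p : K j) / ϖ j] : MvPolynomial (Fin 2) ℤ →ₐ[ℤ] ((j : J) → K j)) (MvPolynomial.X 0), AlgHom.mem_range_self _ _⟩ = EndAV.End.of πw)
  (o : OrderData p ϖ)

include hk hπw ρw hρw in
/-- Finitely many maps to the distinguished variety as one map to a power of it. -/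
theorem exists_power {X : AV k} (n : ℕ) (ψ : Fin n → EndAV.Hom X.X Aw) :
    ∃ (P : AV k) (Φ : EndAV.Hom X.X P.X) (pr : Fin n → EndAV.Hom P.X Aw) (inj : Fin n → EndAV.Hom Aw P.X),
      InAV p ϖ P ∧ (∀ i, Φ ≫ pr i = ψ i) ∧ (∀ i j, inj i ≫ pr j = if i = j then 𝟙 _ else 0) ∧
      (∀ χ : EndAV.Hom P.X Aw, ∑ i, pr i ≫ (inj i ≫ χ) = χ) ∧
      ∀ (T : AV k) (x y : EndAV.Hom T.X P.X), (∀ i, x ≫ pr i = y ≫ pr i) → x = y := by
  classical
  obtain ⟨P, Φ, pr, inj, hΦ, hpr, hinj, hfac, hdelta, hext⟩ :=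
    AVQuotH1.exists_prod (⟨Aw⟩ : AV k) n (fun i => (ψ i).toHom) (fun i => inferInstance)
  haveI := hΦ
  haveI := hpr
  haveI := hinj
  have hd : ∀ i j, EndAV.Hom.of (inj i) ≫ EndAV.Hom.of (pr j) =
      if i = j then 𝟙 (CommGrp.mk Aw) else 0 := fun i j => EndAV.Hom.ext (by
    refine (hdelta i j).trans ?_
    split_ifs <;> rfl)
  have hjm : ∀ (T : AV k) (x y : EndAV.Hom T.X P.X),
      (∀ i, x ≫ EndAV.Hom.of (pr i) = y ≫ EndAV.Hom.of (pr i)) → x = y := fun T x y h =>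
    EndAV.Hom.ext (hext _ _ _ fun i => congrArg EndAV.Hom.toHom (h i))
  refine ⟨P, EndAV.Hom.of Φ, fun i => EndAV.Hom.of (pr i), fun i => EndAV.Hom.of (inj i), ?_,
    fun i => EndAV.Hom.ext (hfac i), hd, fun χ => ?_, hjm⟩
  · obtain ⟨πP, _, hπP⟩ := exists_pFrob hk P
    refine ⟨πP, inferInstance, hπP, hjm P _ 0 fun i => ?_⟩
    rw [aeval_comm (X := P) (Q := ⟨Aw⟩) (EndAV.Hom.of (pr i)) (EndAV.End.of πP) (EndAV.End.of πw)
      (frob_comm_hom hk (X := P) (Q := ⟨Aw⟩) hπP hπw _) (PP ϖ), aeval_piw ρw hρw]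
    exact Limits.comp_zero.trans Limits.zero_comp.symm
  · have hid : ∑ i, EndAV.Hom.of (pr i) ≫ EndAV.Hom.of (inj i) = 𝟙 (CommGrp.mk P.X) := by
      refine hjm P _ _ fun j => ?_
      rw [Preadditive.sum_comp, Category.id_comp, Finset.sum_eq_single j]
      · rw [Category.assoc, hd, if_pos rfl, Category.comp_id]
      · intro i _ hij
        rw [Category.assoc, hd, if_neg hij, Limits.comp_zero]
      · exact fun h => absurd (Finset.mem_univ j) h
    calc ∑ i, EndAV.Hom.of (pr i) ≫ (EndAV.Hom.of (inj i) ≫ χ)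
        = (∑ i, EndAV.Hom.of (pr i) ≫ EndAV.Hom.of (inj i)) ≫ χ := by
          rw [Preadditive.sum_comp]; exact Finset.sum_congr rfl fun i _ => (Category.assoc _ _ _).symm
      _ = χ := by rw [hid, Category.id_comp]

include hk hint hπw hweil hinj ρw hρw o in
/-- An object of `AV_w` embeds in a power of the distinguished variety. -/
theorem exists_embedding (Y : AV k) (hY : InAV p ϖ Y) :
    ∃ (n : ℕ) (φ : Fin n → EndAV.Hom Y.X Aw) (P : AV k) (Φ : EndAV.Hom Y.X P.X) (pr : Fin n → EndAV.Hom P.X Aw)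
      (inj : Fin n → EndAV.Hom Aw P.X),
      InAV p ϖ P ∧ IsClosedImmersion Φ.toHom.left ∧ (∀ i, Φ ≫ pr i = φ i) ∧
      (∀ i j, inj i ≫ pr j = if i = j then 𝟙 _ else 0) ∧
      (∀ χ : EndAV.Hom P.X Aw, ∑ i, pr i ≫ (inj i ≫ χ) = χ) ∧
      (∀ (T : AV k) (x y : EndAV.Hom T.X P.X), (∀ i, x ≫ pr i = y ≫ pr i) → x = y) ∧
      Submodule.span ℤ (Set.range φ) = ⊤ := by
  haveI := TateTors22.finite_hom (A := Y.X) (B := Aw)
  obtain ⟨n, φ, hφ⟩ := Module.Finite.exists_fin (R := ℤ) (M := EndAV.Hom Y.X Aw)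
  obtain ⟨P, Φ, pr, inj, hP, hfac, hd, hsum, hext⟩ := exists_power hk hπw ρw hρw n φ
  refine ⟨n, φ, P, Φ, pr, inj, hP, ?_, hfac, hd, hsum, hext, hφ⟩
  refine isClosedImmersion_of_surjective hk hint hπw hweil hinj ρw hρw o Y P hY Φ hP ?_
  rw [← AddMonoidHom.range_eq_top, eq_top_iff]
  have h : Submodule.span ℤ (Set.range φ) ≤ AddSubgroup.toIntSubmodule (pre Aw Φ).range :=
    Submodule.span_le.2 (Set.range_subset_iff.2 fun i => ⟨pr i, hfac i⟩)
  intro x _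
  exact h (hφ.ge Submodule.mem_top)

include hk hint hπw hweil hinj ρw hρw o in
/-- The lattice functor is faithful. -/
theorem hom_ext_of_pre (X Y : AV k) (hY : InAV p ϖ Y) (f g : EndAV.Hom X.X Y.X)
    (h : ∀ φ : EndAV.Hom Y.X Aw, f ≫ φ = g ≫ φ) : f = g := by
  obtain ⟨n, φ, P, Φ, pr, inj, -, hΦ, hfac, -, -, hext, -⟩ := exists_embedding hk hint hπw hweil hinj ρw hρw o Y hY
  haveI := hΦ
  haveI : Mono Φ.toHom := Over.mono_of_mono_left _
  have h1 : f ≫ Φ = g ≫ Φ := hext X _ _ fun i => by rw [Category.assoc, Category.assoc, hfac, h]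
  exact EndAV.Hom.ext ((cancel_mono Φ.toHom).1 (congrArg EndAV.Hom.toHom h1))

include hk hint hπw hweil hinj ρw hρw o in
/-- The lattice functor is full. -/
theorem exists_hom_of_linear (X Y : AV k) (hY : InAV p ϖ Y) (g : EndAV.Hom Y.X Aw →+ EndAV.Hom X.X Aw)
    (hg : ∀ (φ : EndAV.Hom Y.X Aw) (s : EndAV.Hom Aw Aw), g (φ ≫ s) = g φ ≫ s) :
    ∃ f : EndAV.Hom X.X Y.X, ∀ φ : EndAV.Hom Y.X Aw, g φ = f ≫ φ := by
  classical
  obtain ⟨n, φ, P, Φ, pr, inj, hP, hΦ, hfac, hd, hsum, hext, hspan⟩ :=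
    exists_embedding hk hint hπw hweil hinj ρw hρw o Y hY
  haveI := hΦ
  haveI : Mono Φ.toHom := Over.mono_of_mono_left _
  let Ψ : EndAV.Hom X.X P.X := ∑ i, g (φ i) ≫ inj i
  have hΨ : ∀ j, Ψ ≫ pr j = g (φ j) := fun j => by
    rw [Preadditive.sum_comp, Finset.sum_eq_single j]
    · rw [Category.assoc, hd, if_pos rfl, Category.comp_id]
    · intro i _ hij
      rw [Category.assoc, hd, if_neg hij, Limits.comp_zero]
    · exact fun h => absurd (Finset.mem_univ j) h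
  obtain ⟨Q, q, hq, hqs, hker⟩ := AVQuotH1.exists_quotient P Φ.toHom
  haveI := hq; haveI := hqs
  haveI : Surjective (EndAV.Hom.of q).toHom.left := hqs
  have hQ : InAV p ϖ Q := inAV_of_surjective hk (X := P) (Y := Q) hP (EndAV.Hom.of q)
  have hΦq : Φ ≫ EndAV.Hom.of q = 0 := EndAV.Hom.ext (by
    show Φ.toHom ≫ q = 1
    rw [Hom.one_def]; exact hker.w)
  have hΨq : Ψ ≫ EndAV.Hom.of q = 0 := by
    refine hom_ext_of_pre hk hint hπw hweil hinj ρw hρw o X Q hQ _ _ fun χ => ?_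
    rw [Limits.zero_comp, Category.assoc]
    conv_lhs => rw [← hsum (EndAV.Hom.of q ≫ χ)]
    have h0 : ∑ i, φ i ≫ (inj i ≫ EndAV.Hom.of q ≫ χ) = 0 := by
      have := congrArg (fun x => Φ ≫ x) (hsum (EndAV.Hom.of q ≫ χ))
      simp only [Preadditive.comp_sum, ← Category.assoc Φ, hfac] at this
      rw [this, hΦq, Limits.zero_comp]
    have h1 := congrArg g h0
    rw [map_sum, map_zero] at h1
    rw [Preadditive.comp_sum, ← h1]
    refine Finset.sum_congr rfl fun i _ => ?_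
    rw [← Category.assoc, hΨ, hg]
  let f : X.X ⟶ Y.X := hker.lift Ψ.toHom (toUnit X.X) (by
    rw [show Ψ.toHom ≫ q = 1 from congrArg EndAV.Hom.toHom hΨq, Hom.one_def])
  have hf : f ≫ Φ.toHom = Ψ.toHom := hker.lift_fst _ _ _
  haveI : IsMonHom (f ≫ Φ.toHom) := by rw [hf]; infer_instance
  haveI : IsMonHom f := isMonHom_of_comp_mono X Y Φ.toHom f
  refine ⟨EndAV.Hom.of f, fun χ => ?_⟩
  have hle : Submodule.span ℤ (Set.range φ) ≤
      LinearMap.eqLocus g.toIntLinearMap (pre Aw (EndAV.Hom.of f)).toIntLinearMap := by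
    refine Submodule.span_le.2 (Set.range_subset_iff.2 fun i => ?_)
    show g (φ i) = EndAV.Hom.of f ≫ φ i
    rw [← hΨ, ← hfac, ← Category.assoc]
    exact congrArg (fun x => x ≫ pr i) (EndAV.Hom.ext hf.symm)
  exact hle (hspan.ge Submodule.mem_top)

end Groth.Agent.MinOrd22

end
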