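import Mathlib.RingTheory.HopfAlgebra.TensorProduct
import Mathlib.RingTheory.Ideal.Cotangent
import Mathlib.Algebra.MvPolynomial.PDeriv
import Mathlib.LinearAlgebra.Matrix.NonsingularInverse
import Mathlib.RingTheory.Finiteness.Nakayama
import Mathlib.LinearAlgebra.FiniteDimensional.Basic
import Mathlib.RingTheory.Derivation.Basic
import Mathlib.RingTheory.Nilpotent.Lemmas
import Mathlib.RingTheory.Nilpotent.Basic
import Mathlib.RingTheory.Noetherian.Nilpotent

/-!
# The order of a bialgebra of height one is `p` to the dimension of its cotangent space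
-/

noncomputable section

open TensorProduct Coalgebra MvPolynomial

namespace Groth.Agent.MinOrd22.HeightOne

universe u

section Mono

variable {R : Type*} [CommRing R] {B : Type*} [CommRing B] [Algebra R B] {n p : ℕ}

/-- the monomial of bounded exponent -/
def mono (y : Fin n → B) (e : Fin n → Fin p) : B := ∏ i, y i ^ (e i : ℕ)

theorem adjoin_le_span_mono (y : Fin n → B) (hy : ∀ i, y i ^ p = 0) :
    Subalgebra.toSubmodule (Algebra.adjoin R (Set.range y)) ≤
      Submodule.span R (Set.range (mono (p := p) y)) := by
  rw [Algebra.adjoin_range_eq_range_aeval]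
  rintro _ ⟨P, rfl⟩
  induction P using MvPolynomial.induction_on' with
  | monomial s c =>
    show aeval y (monomial s c) ∈ _
    rw [aeval_monomial, ← Algebra.smul_def]
    refine Submodule.smul_mem _ _ ?_
    rw [Finsupp.prod_fintype _ _ (fun i => pow_zero _)]
    by_cases h : ∀ i, s i < p
    · exact Submodule.subset_span ⟨fun i => ⟨s i, h i⟩, rfl⟩
    · push Not at h
      obtain ⟨i, hi⟩ := h
      rw [Finset.prod_eq_zero (f := fun j => y j ^ s j) (Finset.mem_univ i) (pow_eq_zero_of_le hi (hy i))]
      exact zero_mem _
  | add P Q hP hQ =>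
    show aeval y (P + Q) ∈ _
    rw [map_add]
    exact add_mem hP hQ

end Mono

variable {k : Type*} [Field k] {A : Type*} [CommRing A] [Bialgebra k A]

local notation "ε" => Bialgebra.counitAlgHom k A

/-- the invariant derivation of an `ε`-derivation -/
def invD (d : A →ₗ[k] k) : A →ₗ[k] A :=
  (TensorProduct.rid k A).toLinearMap ∘ₗ d.lTensor A ∘ₗ comul

lemma invD_mul {d : A →ₗ[k] k} (hd : ∀ a b, d (a * b) = ε a * d b + ε b * d a) (a b : A) :
    invD d (a * b) = a * invD d b + b * invD d a := by
  let rr : (A →ₗ[k] k) → A ⊗[k] A →ₗ[k] A := fun f =>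
    (TensorProduct.rid k A).toLinearMap ∘ₗ f.lTensor A
  have key : ∀ s t : A ⊗[k] A,
      rr d (s * t) = rr counit s * rr d t + rr counit t * rr d s := by
    intro s t
    induction s using TensorProduct.induction_on with
    | zero => simp
    | add x y hx hy => simp only [add_mul, map_add, hx, hy, mul_add]; abel
    | tmul x y =>
      induction t using TensorProduct.induction_on with
      | zero => simp
      | add z w hz hw => simp only [mul_add, map_add, hz, hw, add_mul]; abel
      | tmul z w =>
        simp only [rr, Algebra.TensorProduct.tmul_mul_tmul, LinearMap.comp_apply,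
          LinearEquiv.coe_coe, LinearMap.lTensor_tmul, TensorProduct.rid_tmul, hd, add_smul,
          smul_mul_smul_comm, Bialgebra.counitAlgHom_apply]
        rw [mul_comm z x]
  have hc : ∀ x : A, rr counit (comul x) = x := fun x => by
    simp [rr, LinearMap.comp_apply, Coalgebra.lTensor_counit_comul]
  show rr d (comul (a * b)) = a * rr d (comul b) + b * rr d (comul a)
  rw [Bialgebra.comul_mul, key, hc, hc]

lemma counit_invD (d : A →ₗ[k] k) (a : A) : ε (invD d a) = d a := by
  have e : ∀ t : A ⊗[k] A, ε ((TensorProduct.rid k A) (d.lTensor A t))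
      = d ((TensorProduct.lid k A) ((counit (R := k)).rTensor A t)) := by
    intro t
    induction t using TensorProduct.induction_on with
    | zero => simp
    | tmul x y => simp [mul_comm]
    | add x y hx hy => simp only [map_add, hx, hy]
  show ε ((TensorProduct.rid k A) (d.lTensor A (comul a))) = _
  rw [e, Coalgebra.rTensor_counit_comul, TensorProduct.lid_tmul, one_smul]

variable [Module.Finite k A] {p : ℕ} [Fact p.Prime] [CharP k p]

set_option maxHeartbeats 1000000 in
theorem exists_generators (h1 : ∀ a : A, ε a = 0 → a ^ p = 0) :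
    Module.finrank k A = p ^ Module.finrank k
      (A ⧸ ((RingHom.ker ε) ^ 2).restrictScalars k ⊔ Submodule.span k ({1} : Set A)) := by
  classical
  have hp : p.Prime := Fact.out
  set I : Ideal A := RingHom.ker ε with hI
  have hmem : ∀ a : A, a - algebraMap k A (ε a) ∈ I := fun a => by simp [hI]
  let W : Submodule k A := (I ^ 2).restrictScalars k ⊔ Submodule.span k {1}
  let b := Module.finBasis k (A ⧸ W)
  set n := Module.finrank k (A ⧸ W) with hn
  choose a ha using fun i => Submodule.Quotient.mk_surjective W (b i)
  let x : Fin n → A := fun i => a i - algebraMap k A (ε (a i))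
  have hone : ∀ c : k, algebraMap k A c ∈ W := fun c => by
    rw [Algebra.algebraMap_eq_smul_one]
    exact Submodule.mem_sup_right (Submodule.smul_mem _ _ (Submodule.mem_span_singleton_self 1))
  have hxb : ∀ i, W.mkQ (x i) = b i := fun i => by
    simp only [x, map_sub, Submodule.mkQ_apply, (Submodule.Quotient.mk_eq_zero W).2 (hone _),
      sub_zero, ha]
  have hxI : ∀ i, ε (x i) = 0 := fun i => by simp [x]
  let d : Fin n → A →ₗ[k] k := fun i => b.coord i ∘ₗ W.mkQ
  have hdW : ∀ i, ∀ w ∈ W, d i w = 0 := fun i w hw => by
    simp [d, (Submodule.Quotient.mk_eq_zero W).2 hw]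
  have hder : ∀ i a c, d i (a * c) = ε a * d i c + ε c * d i a := by
    intro i a c
    have h2 : (a - algebraMap k A (ε a)) * (c - algebraMap k A (ε c)) ∈ I ^ 2 := by
      rw [pow_two]; exact Ideal.mul_mem_mul (hmem a) (hmem c)
    have h0 := hdW i _ (Submodule.mem_sup_left h2 :
      (a - algebraMap k A (ε a)) * (c - algebraMap k A (ε c)) ∈ W)
    have e : a * c = (a - algebraMap k A (ε a)) * (c - algebraMap k A (ε c)) + ε a • c + ε c • a
        - algebraMap k A (ε a * ε c) := by
      simp only [Algebra.smul_def, map_mul]; ring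
    rw [e, map_sub, map_add, map_add, h0, map_smul, map_smul, hdW i _ (hone _)]
    simp
  have hdx : ∀ i j, d i (x j) = if j = i then 1 else 0 := by
    intro i j
    show b.coord i (W.mkQ (x j)) = _
    rw [hxb, Module.Basis.coord_apply, Module.Basis.repr_self, Finsupp.single_apply]
  -- derivations dual to x
  let M : Matrix (Fin n) (Fin n) A := Matrix.of fun j i => invD (d i) (x j)
  have hu : ∀ u : A, ε u = 1 → IsUnit u := fun u hu => by
    have hnil : IsNilpotent (u - 1) := ⟨p, h1 _ (by rw [map_sub, map_one, hu, sub_self])⟩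
    simpa using IsNilpotent.isUnit_one_add hnil
  have hdet : IsUnit M.det := by
    apply hu
    rw [AlgHom.map_det]
    have : (ε).mapMatrix M = 1 := by
      ext j i
      rw [AlgHom.mapMatrix_apply, Matrix.map_apply, Matrix.one_apply]
      show ε (invD (d i) (x j)) = _
      rw [counit_invD, hdx]
    rw [this, Matrix.det_one]
  let N := M⁻¹
  have hMN : M * N = 1 := Matrix.mul_nonsing_inv M hdet
  let Del : Fin n → A →ₗ[k] A := fun l =>
    ∑ i, (LinearMap.mulLeft k (N i l)) ∘ₗ invD (d i)
  have hDel : ∀ l a c, Del l (a * c) = a * Del l c + c * Del l a := by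
    intro l a c
    simp only [Del, LinearMap.coe_sum, Finset.sum_apply, LinearMap.comp_apply,
      LinearMap.mulLeft_apply, invD_mul (hder _), Finset.mul_sum, ← Finset.sum_add_distrib]
    exact Finset.sum_congr rfl fun i _ => by ring
  have hDelx : ∀ l j, Del l (x j) = if j = l then 1 else 0 := by
    intro l j
    have := congrFun (congrFun hMN j) l
    rw [Matrix.mul_apply, Matrix.one_apply] at this
    simp only [Del, LinearMap.coe_sum, Finset.sum_apply, LinearMap.comp_apply,
      LinearMap.mulLeft_apply]
    rw [← this]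
    exact Finset.sum_congr rfl fun i _ => mul_comm _ _
  have hDel1 : ∀ l, Del l 1 = 0 := fun l => by
    simpa using hDel l 1 1
  have hpd : ∀ (l : Fin n) (P : MvPolynomial (Fin n) k),
      aeval x (pderiv l P) = Del l (aeval x P) := by
    intro l P
    induction P using MvPolynomial.induction_on with
    | C c =>
      rw [pderiv_C, map_zero, aeval_C, Algebra.algebraMap_eq_smul_one, map_smul, hDel1, smul_zero]
    | add P Q hP hQ => simp only [map_add, hP, hQ]
    | mul_X P i hP =>
      rw [pderiv_mul, map_add, map_mul, map_mul, map_mul, aeval_X, hP, hDel, hDelx, pderiv_X]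
      rcases eq_or_ne i l with rfl | hne
      · rw [Pi.single_eq_same, map_one, if_pos rfl]; ring
      · rw [Pi.single_eq_of_ne hne, map_zero, if_neg hne]; ring
  -- independence
  have hind : ∀ (m : ℕ) (P : MvPolynomial (Fin n) k),
      (∀ s, P.coeff s ≠ 0 → (∀ i, s i < p) ∧ ∑ i, s i ≤ m) → aeval x P = 0 → P = 0 := by
    intro m
    induction m with
    | zero =>
      intro P hP h0
      have hPC : P = C (P.coeff 0) := by
        ext s
        rw [coeff_C]
        split_ifs with hs
        · rw [← hs]
        · by_contra hne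
          refine hs (Finsupp.ext fun i => ?_)
          exact ((Finset.sum_eq_zero_iff.1 (Nat.le_zero.1 (hP s hne).2)) i (Finset.mem_univ i)).symm
      rw [hPC, aeval_C] at h0
      have := congrArg (ε) h0
      rw [AlgHom.commutes, map_zero] at this
      rw [hPC, show P.coeff 0 = 0 from this, map_zero]
    | succ m ih =>
      intro P hP h0
      refine ih P (fun s hs => ⟨(hP s hs).1, ?_⟩) h0
      by_contra hlt
      obtain ⟨i, -, hi⟩ : ∃ i ∈ Finset.univ, 0 < s i := by
        by_contra hcon
        push Not at hcon
        exact hlt (le_trans (Finset.sum_nonpos hcon) (Nat.zero_le _))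
      have hQ : pderiv i P = 0 := by
        refine ih _ (fun t ht => ?_) (by rw [hpd, h0, map_zero])
        rw [coeff_pderiv] at ht
        obtain ⟨h2, h3⟩ := hP _ (left_ne_zero_of_mul ht)
        refine ⟨fun j => lt_of_le_of_lt (Nat.le_add_right _ _) (h2 j), ?_⟩
        simp only [Finsupp.coe_add, Pi.add_apply, Finset.sum_add_distrib] at h3
        have : ∑ j, (Finsupp.single i 1 : Fin n →₀ ℕ) j = 1 := by simp [Finsupp.single_apply]
        omega
      have hc := congrArg (MvPolynomial.coeff (s - Finsupp.single i 1)) hQ
      rw [coeff_pderiv, coeff_zero,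
        tsub_add_cancel_of_le (Finsupp.single_le_iff.2 hi)] at hc
      rcases mul_eq_zero.1 hc with hc | hc
      · exact hs hc
      · have : ((s - Finsupp.single i 1 : Fin n →₀ ℕ) i + 1 : ℕ) = s i := by
          simp [Finsupp.coe_tsub]; omega
        have h' : ((s i : ℕ) : k) = 0 := by
          rw [← this]; exact_mod_cast hc
        rw [CharP.cast_eq_zero_iff k p] at h'
        exact absurd (Nat.le_of_dvd hi h') (by have := (hP s hs).1 i; omega)
  -- generation
  have hgen : Algebra.adjoin k (Set.range x) = ⊤ := by
    set S := Algebra.adjoin k (Set.range x) with hS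
    have hone' : ∀ a : A, ∃ s ∈ S, a - s ∈ I ^ 2 := by
      intro a
      have hsum : W.mkQ a = W.mkQ (∑ i, d i a • x i) := by
        simp only [map_sum, map_smul, hxb]
        exact (b.sum_repr _).symm
      obtain ⟨u, hu', v, hv, huv⟩ := Submodule.mem_sup.1 ((Submodule.Quotient.eq W).1 hsum)
      obtain ⟨c, rfl⟩ := Submodule.mem_span_singleton.1 hv
      refine ⟨(∑ i, d i a • x i) + c • 1, S.add_mem (S.sum_mem fun i _ =>
        S.smul_mem (Algebra.subset_adjoin ⟨i, rfl⟩) _) (S.smul_mem S.one_mem _), ?_⟩
      rw [← sub_sub, ← huv, add_sub_cancel_right]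
      exact hu'
    have hstep : ∀ j, ∀ a ∈ I ^ (j + 1), ∃ s ∈ S, a - s ∈ I ^ (j + 2) := by
      intro j
      induction j with
      | zero => intro a _; exact hone' a
      | succ j ih =>
        intro a ha
        rw [pow_succ] at ha
        induction ha using Submodule.mul_induction_on' with
        | mem_mul_mem u hu' v hv =>
          obtain ⟨s, hs, hs'⟩ := ih u hu'
          obtain ⟨t, ht, ht'⟩ := hone' v
          refine ⟨s * t, S.mul_mem hs ht, ?_⟩
          rw [show u * v - s * t = u * (v - t) + (u - s) * v - (u - s) * (v - t) by ring]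
          refine sub_mem (add_mem ?_ ?_) ?_
          · rw [show j + 1 + 2 = (j + 1) + 2 from rfl, pow_add]; exact Ideal.mul_mem_mul hu' ht'
          · rw [pow_succ]; exact Ideal.mul_mem_mul hs' hv
          · rw [pow_succ]; exact Ideal.mul_mem_mul hs' (Ideal.pow_le_self (by omega) ht')
        | add u _ v _ hu' hv =>
          obtain ⟨s, hs, hs'⟩ := hu'
          obtain ⟨t, ht, ht'⟩ := hv
          exact ⟨s + t, S.add_mem hs ht, by rw [add_sub_add_comm]; exact add_mem hs' ht'⟩
    haveI : IsNoetherianRing A := IsNoetherianRing.of_finite k A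
    obtain ⟨N', hN'⟩ : IsNilpotent I := by
      obtain ⟨m, hm⟩ := IsNoetherianRing.isNilpotent_nilradical A
      exact ⟨m, eq_bot_iff.2 ((Ideal.pow_right_mono (show I ≤ nilradical A from fun a ha => mem_nilradical.2 ⟨p, h1 a ha⟩) m).trans hm.le)⟩
    have hdown : ∀ i, ∀ a ∈ I ^ 1, ∃ s ∈ S, a - s ∈ I ^ (i + 1) := by
      intro i
      induction i with
      | zero => intro a ha; exact ⟨0, S.zero_mem, by simpa using ha⟩
      | succ i ih =>
        intro a ha
        obtain ⟨s, hs, hs'⟩ := ih a ha
        obtain ⟨t, ht, ht'⟩ := hstep i _ hs'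
        exact ⟨s + t, S.add_mem hs ht, by rwa [← sub_sub]⟩
    rw [eq_top_iff]
    intro a _
    obtain ⟨s, hs, hs'⟩ := hdown N' (a - algebraMap k A (ε a)) (by rw [pow_one]; exact hmem a)
    rw [pow_succ, hN', zero_mul, Ideal.zero_eq_bot, Submodule.mem_bot, sub_eq_zero] at hs'
    rw [show a = (a - algebraMap k A (ε a)) + algebraMap k A (ε a) by ring, hs']
    exact S.add_mem hs (S.algebraMap_mem _)
  -- basis of monomials
  have hli : LinearIndependent k (mono (p := p) x) := by
    rw [Fintype.linearIndependent_iff]
    intro g hg e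
    let toF : (Fin n → Fin p) → (Fin n →₀ ℕ) := fun e => Finsupp.equivFunOnFinite.symm fun i => (e i : ℕ)
    have htoF : Function.Injective toF := fun e e' h => funext fun i =>
      Fin.ext (by simpa [toF] using DFunLike.congr_fun h i)
    let P : MvPolynomial (Fin n) k := ∑ e, monomial (toF e) (g e)
    have hcoef : ∀ s, P.coeff s = ∑ e, if toF e = s then g e else 0 := fun s => by
      simp [P, coeff_sum, coeff_monomial]
    have hP : P = 0 := by
      refine hind (n * p) P (fun s hs => ?_) ?_
      · rw [hcoef] at hs
        obtain ⟨e', -, he'⟩ := Finset.exists_ne_zero_of_sum_ne_zero hs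
        rw [ite_ne_right_iff] at he'
        rw [← he'.1]
        refine ⟨fun i => by simp [toF], ?_⟩
        calc ∑ i, toF e' i ≤ ∑ _i : Fin n, p := Finset.sum_le_sum fun i _ => by
              simp [toF, (e' i).2.le]
          _ = n * p := by simp
      · rw [map_sum, ← hg]
        refine Finset.sum_congr rfl fun e' _ => ?_
        rw [aeval_monomial, ← Algebra.smul_def, Finsupp.prod_fintype _ _ (fun i => pow_zero _)]
        simp [toF, mono]
    have := congrArg (MvPolynomial.coeff (toF e)) hP
    rw [hcoef, coeff_zero] at this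
    simpa [htoF.eq_iff] using this
  have hsp : ⊤ ≤ Submodule.span k (Set.range (mono (p := p) x)) := by
    refine le_trans ?_ (adjoin_le_span_mono x fun i => h1 _ (hxI i))
    rw [hgen]; simp
  rw [Module.finrank_eq_card_basis (Module.Basis.mk hli hsp)]
  simp

end Groth.Agent.MinOrd22.HeightOne
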