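import Groth.Agent.Lib.HopfEtale20.Basic

/-!
# An idempotent augmentation ideal makes a group scheme unramified
-/

universe u v

open TensorProduct Coalgebra WithConv

namespace Groth.Agent.MinOrd22.HopfEtale

theorem formallyUnramified_of_le_sq {k : Type u} [CommRing k] {A : Type v} [CommRing A] [HopfAlgebra k A]
    (hII : RingHom.ker (Bialgebra.counitAlgHom k A) ≤ RingHom.ker (Bialgebra.counitAlgHom k A) ^ 2) :
    Algebra.FormallyUnramified k A := by
  set I := RingHom.ker (Bialgebra.counitAlgHom k A)
  rw [Algebra.formallyUnramified_iff, KaehlerDifferential, Ideal.cotangent_subsingleton_iff]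
  set J := KaehlerDifferential.ideal k A
  let iL : WithConv (A →ₐ[k] A ⊗[k] A) := toConv Algebra.TensorProduct.includeLeft
  let iR : WithConv (A →ₐ[k] A ⊗[k] A) := toConv Algebra.TensorProduct.includeRight
  let μ := (iL⁻¹ * iR).ofConv
  let mul := Algebra.TensorProduct.lmul' k (S := A)
  have hμ : ∀ c ∈ I, μ c ∈ J := by
    intro c hc
    have e : mul.comp μ = (1 : WithConv (A →ₐ[k] A)).ofConv := by
      let post : WithConv (A →ₐ[k] A ⊗[k] A) →* WithConv (A →ₐ[k] A) :=
        MonoidHom.mk' (fun x => toConv (mul.comp x.ofConv)) fun p q =>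
          ofConv_injective (AlgHom.comp_convMul_distrib mul p q)
      have eL : post iL = toConv (AlgHom.id k A) := ofConv_injective (AlgHom.ext fun x => by simp [post, iL, mul])
      have eR : post iR = toConv (AlgHom.id k A) := ofConv_injective (AlgHom.ext fun x => by simp [post, iR, mul])
      have h := congrArg post (mul_inv_cancel_left iL iR)
      rw [map_mul, eL, eR] at h
      exact congrArg ofConv (mul_eq_left.1 h)
    show mul (μ c) = 0
    rw [← AlgHom.comp_apply, e, AlgHom.convOne_apply, show counit (R := k) c = 0 from hc, map_zero]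
  have hgen : ∀ c : A, (1 : A) ⊗ₜ[k] c - c ⊗ₜ[k] 1 ∈ J ^ 2 := by
    intro c
    have hR : iR.ofConv c = (iL * (iL⁻¹ * iR)).ofConv c :=
      (congrArg (fun x : WithConv (A →ₐ[k] A ⊗[k] A) => x.ofConv c) (mul_inv_cancel_left iL iR)).symm
    rw [AlgHom.convMul_apply] at hR
    have key : ∀ z : A ⊗[k] A, Algebra.TensorProduct.lift iL.ofConv μ (fun _ _ => Commute.all _ _) z -
        (TensorProduct.rid k A ((counit (R := k)).lTensor A z)) ⊗ₜ[k] (1 : A) ∈ J ^ 2 := by
      intro z
      induction z using TensorProduct.induction_on with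
      | zero => simp
      | add x y hx hy => simp only [map_add, TensorProduct.add_tmul, add_sub_add_comm]; exact add_mem hx hy
      | tmul a b =>
        have hb : μ (b - algebraMap k A (counit (R := k) b)) ∈ J ^ 2 := by
          have hm : (I ^ 2).map μ ≤ J ^ 2 := by
            rw [Ideal.map_pow]
            exact Ideal.pow_right_mono (Ideal.map_le_iff_le_comap.2 hμ) 2
          exact hm (Ideal.mem_map_of_mem _ (hII (by simp [I])))
        have := Ideal.mul_mem_left (J ^ 2) (a ⊗ₜ[k] (1 : A)) hb
        rw [map_sub, AlgHom.commutes, mul_sub] at this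
        simp only [Algebra.TensorProduct.lift_tmul, LinearMap.lTensor_tmul, TensorProduct.rid_tmul]
        have e2 : (counit (R := k) b • a) ⊗ₜ[k] (1 : A) =
            a ⊗ₜ[k] (1 : A) * algebraMap k (A ⊗[k] A) (counit (R := k) b) := by
          rw [mul_comm, ← Algebra.smul_def, TensorProduct.smul_tmul']
        rw [e2]
        exact this
    have h2 := key (comul (R := k) c)
    rw [lTensor_counit_comul, ← hR] at h2
    simpa [iR] using h2
  refine le_antisymm (Ideal.mul_le_left) ?_
  intro x hx
  have hspan : J = Ideal.span (Set.range fun s : A => (1 : A) ⊗ₜ[k] s - s ⊗ₜ[k] (1 : A)) :=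
    (KaehlerDifferential.span_range_eq_ideal k A).symm
  rw [hspan] at hx
  have : Ideal.span (Set.range fun s : A => (1 : A) ⊗ₜ[k] s - s ⊗ₜ[k] (1 : A)) ≤ J ^ 2 :=
    Ideal.span_le.2 (by rintro _ ⟨c, rfl⟩; exact hgen c)
  exact (pow_two J) ▸ this hx


end Groth.Agent.MinOrd22.HopfEtale
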