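import Groth.Agent.Lib.MinOrd22.HeightOne
import Groth.Agent.Lib.MinOrd22.FrobTate
import Groth.Agent.Lib.Isogeny14.Kernel
import Groth.Agent.Lib.GModComod21.Basic
import Groth.Agent.Lib.HopfPts19.Scheme
import Groth.Agent.Lib.MinOrd22.Unram
import Groth.Agent.Lib.AVDegree22.Count2
import Groth.Agent.Lib.AVQuotH1.Isog
import Mathlib.Algebra.DualNumber
import Mathlib.LinearAlgebra.FiniteDimensional.Lemmas

/-!
# Counting the kernel of an isogeny by geometric points and by tangent vectors
-/

universe u

open CategoryTheory Limits MonoidalCategory CartesianMonoidalCategory AlgebraicGeometry MonObj Opposite WithConv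
open scoped GrpObj

set_option linter.style.haveILetI false
set_option linter.unusedSectionVars false
set_option maxHeartbeats 1000000
set_option synthInstance.maxHeartbeats 400000
set_option backward.isDefEq.respectTransparency false

noncomputable section

namespace Groth.Agent.MinOrd22

open GModComod21 (GA toPt ofPt)
open AVQuotH1 (AV unitPt)

variable {k : Type u} [Field k]

/-- The test scheme of dual numbers. -/
abbrev dp (k : Type u) [Field k] : Over (Spec (CommRingCat.of k)) := VecGrp.pt k (DualNumber k)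

/-- The origin of the dual numbers. -/
def zs (k : Type u) [Field k] : VecGrp.pt k k ⟶ dp k := VecGrp.ptMap (TrivSqZeroExt.fstHom k k k)

/-- The points killed by a homomorphism. -/
def KerPts (T : Over (Spec (CommRingCat.of k))) {B X : Over (Spec (CommRingCat.of k))} [GrpObj X] (g : B ⟶ X) :
    Set (T ⟶ B) := {x | x ≫ g = 1}

/-- The tangent vectors killed by a homomorphism. -/
def KerTan {B X : Over (Spec (CommRingCat.of k))} [GrpObj B] [GrpObj X] (g : B ⟶ X) : Set (dp k ⟶ B) :=
  {t | zs k ≫ t = 1 ∧ t ≫ g = 1}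

/-- The degree, read over the origin. -/
def degI {B X : Over (Spec (CommRingCat.of k))} [GrpObj X] (g : B ⟶ X) : ℕ :=
  Scheme.Hom.finrank g.left (unitPt X)

theorem degI_eq (B X : AV k) (g : B.X ⟶ X.X) [IsMonHom g] [IsFinite g.left] [Surjective g.left] (y : X.X.left) :
    Scheme.Hom.finrank g.left y = degI g := by
  haveI : AlgebraicGeometry.IsIntegral X.X.left := GeometricallyIntegral.isIntegral_of_subsingleton X.X.hom
  haveI : IsLocallyNoetherian X.X.left := LocallyOfFiniteType.isLocallyNoetherian X.X.hom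
  haveI : Flat g.left := AbRigid.flat_of_surjective B.X X.X g
  exact (AVDegree22.finrank_eq_genericPoint g y).trans (AVDegree22.finrank_eq_genericPoint g _).symm

theorem degI_pos (B X : AV k) (g : B.X ⟶ X.X) [IsMonHom g] [IsFinite g.left] [Surjective g.left] : 0 < degI g := by
  haveI : AlgebraicGeometry.IsIntegral X.X.left := GeometricallyIntegral.isIntegral_of_subsingleton X.X.hom
  haveI : IsLocallyNoetherian X.X.left := LocallyOfFiniteType.isLocallyNoetherian X.X.hom
  haveI : Flat g.left := AbRigid.flat_of_surjective B.X X.X g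
  obtain ⟨z, hz⟩ := g.left.surjective (unitPt X.X)
  have := Scheme.Hom.one_le_finrank_map g.left z
  rw [hz] at this
  exact this

/-- The kernel of an isogeny as the spectrum of a Hopf algebra. -/
theorem exists_hopf (B X : AV k) (g : B.X ⟶ X.X) [IsMonHom g] [IsFinite g.left] [Surjective g.left] :
    ∃ (R : Type u) (_ : CommRing R) (_ : HopfAlgebra k R) (_ : Module.Finite k R) (j : GA k R ⟶ B.X),
      IsMonHom j ∧ Mono j ∧ j ≫ g = 1 ∧
        (∀ (T : Over (Spec (CommRingCat.of k))) (x : T ⟶ B.X), x ≫ g = 1 → ∃ y, y ≫ j = x) ∧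
        Module.finrank k R = degI g := by
  haveI : AlgebraicGeometry.IsIntegral X.X.left := GeometricallyIntegral.isIntegral_of_subsingleton X.X.hom
  haveI : IsLocallyNoetherian X.X.left := LocallyOfFiniteType.isLocallyNoetherian X.X.hom
  haveI : Flat g.left := AbRigid.flat_of_surjective B.X X.X g
  let N := Isogeny14.kerOver g
  letI := Isogeny14.kerGrp g
  haveI := Isogeny14.mono_kerIncl g
  haveI := Isogeny14.isMonHom_kerIncl g
  have hsq := IsPullback.of_hasPullback g.left η[X.X].left
  haveI hNf : IsFinite N.hom := MorphismProperty.of_isPullback (P := @IsFinite) hsq ‹_›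
  haveI : IsAffine N.left := isAffine_of_isAffineHom N.hom
  obtain ⟨R, _, _, ⟨e⟩⟩ := HopfPts19.exists_model N
  let f : GA k R ⟶ N := e.hom.hom.hom
  let f' : N ⟶ GA k R := e.inv.hom.hom
  have hff : f' ≫ f = 𝟙 N := congrArg (fun k => k.hom.hom) e.inv_hom_id
  have hff' : f ≫ f' = 𝟙 _ := congrArg (fun k => k.hom.hom) e.hom_inv_id
  haveI : IsIso f := ⟨f', hff', hff⟩
  haveI : IsMonHom f := e.hom.hom.isMonHom_hom
  haveI : IsIso f.left := inferInstanceAs (IsIso ((Over.forget _).map f))
  have hfin : IsFinite (Spec.map (CommRingCat.ofHom (algebraMap k R))) := by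
    show IsFinite (GA k R).hom
    rw [← Over.w f]; infer_instance
  haveI : Module.Finite k R := by
    rw [IsFinite.SpecMap_iff] at hfin
    exact RingHom.finite_algebraMap.1 hfin
  refine ⟨R, inferInstance, inferInstance, inferInstance, f ≫ Isogeny14.kerIncl g, inferInstance, inferInstance,
    by rw [Category.assoc, Isogeny14.kerIncl_comp, MonObj.comp_one],
    fun T x hx => ⟨Isogeny14.kerLift g x hx ≫ f', ?_⟩, ?_⟩
  · rw [Category.assoc, reassoc_of% hff, Isogeny14.kerLift_incl]
  · have h1 : N.hom.finrank (IsLocalRing.closedPoint k) = degI g :=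
      (Scheme.Hom.finrank_of_isPullback _ _ _ _ hsq _).trans rfl
    rw [← h1, ← Scheme.Hom.finrank_comp_left_of_isIso f.left N.hom, Over.w f]
    exact ((Scheme.Hom.finrank_SpecMap_algebraMap k R _).trans
      (congrFun (Module.rankAtStalk_eq_finrank_of_free (R := k) (M := R)) _)).symm

section Model

variable {R : Type u} [CommRing R] [HopfAlgebra k R] {B X : AV k} {g : B.X ⟶ X.X} {j : GA k R ⟶ B.X}
  [IsMonHom j] [Mono j] (hj : j ≫ g = 1)
  (hlift : ∀ (T : Over (Spec (CommRingCat.of k))) (x : T ⟶ B.X), x ≫ g = 1 → ∃ y, y ≫ j = x)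

include hlift hj in
theorem bijective_toPt (T : Type u) [CommRing T] [Algebra k T] :
    Function.Bijective fun φ : R →ₐ[k] T =>
      (⟨toPt φ ≫ j, show (toPt φ ≫ j) ≫ g = 1 by rw [Category.assoc, hj, MonObj.comp_one]⟩ :
        KerPts (VecGrp.pt k T) g) := by
  refine ⟨fun a b h => ?_, fun ⟨x, hx⟩ => ?_⟩
  · have h1 := (cancel_mono j).1 (congrArg Subtype.val h)
    rw [← GModComod21.ofPt_toPt a, ← GModComod21.ofPt_toPt b, h1]
  · obtain ⟨y, hy⟩ := hlift _ x hx
    exact ⟨ofPt y, Subtype.ext (by show toPt (ofPt y) ≫ j = x; rw [GModComod21.toPt_ofPt, hy])⟩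

theorem toPt_comp_one {T : Type u} [CommRing T] [Algebra k T] :
    toPt ((Algebra.ofId k T).comp (Bialgebra.counitAlgHom k R)) ≫ j = (1 : VecGrp.pt k T ⟶ B.X) := by
  rw [GModComod21.toPt_counit, MonObj.one_comp]

include hlift hj in
/-- The kernel tangent vectors are the derivations at the counit. -/
theorem card_kerTan_eq_derivations :
    Nat.card (KerTan g) =
      Nat.card {ψ : R →ₐ[k] DualNumber k // (TrivSqZeroExt.fstHom k k k).comp ψ = Bialgebra.counitAlgHom k R} := by
  have hfst : ∀ ψ : R →ₐ[k] DualNumber k, (zs k ≫ toPt ψ ≫ j = 1 ↔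
      (TrivSqZeroExt.fstHom k k k).comp ψ = Bialgebra.counitAlgHom k R) := fun ψ => by
    have h0 : (Algebra.ofId k k).comp (Bialgebra.counitAlgHom k R) = Bialgebra.counitAlgHom k R :=
      AlgHom.ext fun _ => rfl
    rw [zs, ← Category.assoc, GModComod21.ptMap_toPt, ← toPt_comp_one (j := j), cancel_mono, h0]
    exact ⟨fun h => by rw [← GModComod21.ofPt_toPt ((TrivSqZeroExt.fstHom k k k).comp ψ), h, GModComod21.ofPt_toPt],
      fun h => by rw [h]⟩
  symm
  refine Nat.card_eq_of_bijective (fun ψ => (⟨toPt ψ.1 ≫ j, (hfst ψ.1).2 ψ.2,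
    by rw [Category.assoc, hj, MonObj.comp_one]⟩ : KerTan g)) ⟨fun a b h => ?_, fun ⟨t, ht1, ht2⟩ => ?_⟩
  · exact Subtype.ext ((bijective_toPt hj hlift (DualNumber k)).1 (Subtype.ext (congrArg Subtype.val h :)))
  · obtain ⟨ψ, hψ⟩ := (bijective_toPt hj hlift (DualNumber k)).2 ⟨t, ht2⟩
    have hψ' : toPt ψ ≫ j = t := congrArg Subtype.val hψ
    exact ⟨⟨ψ, (hfst ψ).1 (by rw [hψ']; exact ht1)⟩, Subtype.ext hψ'⟩

end Model

/-- The derivations at the counit are dual to the cotangent space. -/
theorem card_derivations [Finite k] {R : Type u} [CommRing R] [Bialgebra k R] [Module.Finite k R] :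
    Nat.card {ψ : R →ₐ[k] DualNumber k // (TrivSqZeroExt.fstHom k k k).comp ψ = Bialgebra.counitAlgHom k R} =
      Nat.card k ^ Module.finrank k (R ⧸ ((RingHom.ker (Bialgebra.counitAlgHom k R)) ^ 2).restrictScalars k ⊔
        Submodule.span k ({1} : Set R)) := by
  classical
  set ε := Bialgebra.counitAlgHom k R
  set I := RingHom.ker ε
  set W := (I ^ 2).restrictScalars k ⊔ Submodule.span k ({1} : Set R)
  have hmem : ∀ a : R, a - algebraMap k R (ε a) ∈ I := fun a => by simp [I]
  rw [← Subspace.dual_finrank_eq, ← Module.natCard_eq_pow_finrank]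
  symm
  have hone : (1 : R) ∈ W := Submodule.mem_sup_right (Submodule.mem_span_singleton_self 1)
  let der : Module.Dual k (R ⧸ W) → R →ₗ[k] k := fun d => d ∘ₗ W.mkQ
  have hder : ∀ d a b, der d (a * b) = ε a * der d b + ε b * der d a := fun d a b => by
    have h2 : W.mkQ ((a - algebraMap k R (ε a)) * (b - algebraMap k R (ε b))) = 0 :=
      (Submodule.Quotient.mk_eq_zero W).2 (Submodule.mem_sup_left (show
        (a - algebraMap k R (ε a)) * (b - algebraMap k R (ε b)) ∈ I ^ 2 by
        rw [pow_two]; exact Ideal.mul_mem_mul (hmem a) (hmem b)))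
    have e : a * b = (a - algebraMap k R (ε a)) * (b - algebraMap k R (ε b)) + ε a • b + ε b • a -
        (ε a * ε b) • (1 : R) := by
      simp only [Algebra.smul_def, map_mul]; ring
    have h1 : W.mkQ (1 : R) = 0 := (Submodule.Quotient.mk_eq_zero W).2 hone
    simp only [der, LinearMap.comp_apply]
    rw [e]
    simp only [map_sub, map_add, map_smul, h2, h1, smul_zero, map_zero, smul_eq_mul]
    ring
  refine Nat.card_eq_of_bijective (fun d =>
    (⟨AlgHom.ofLinearMap
      ({ toFun := fun a => TrivSqZeroExt.inl (ε a) + TrivSqZeroExt.inr (der d a)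
         map_add' := fun a b => TrivSqZeroExt.ext (by simp) (by simp)
         map_smul' := fun c a => TrivSqZeroExt.ext (by simp) (by simp) } : R →ₗ[k] DualNumber k)
      (TrivSqZeroExt.ext (by simp) (by
        have : der d 1 = 0 := by simp only [der, LinearMap.comp_apply, Submodule.mkQ_apply, (Submodule.Quotient.mk_eq_zero W).2 hone, map_zero]
        simp [this]))
      (fun a b => TrivSqZeroExt.ext (by simp) (by simp [hder]; ring)), AlgHom.ext fun a => by simp [ε]⟩ :
      {ψ : R →ₐ[k] DualNumber k // (TrivSqZeroExt.fstHom k k k).comp ψ = ε})) ⟨fun d d' h => ?_, fun ⟨ψ, hψ⟩ => ?_⟩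
  · refine LinearMap.ext fun q => ?_
    obtain ⟨a, rfl⟩ := Submodule.mkQ_surjective W q
    have h' := congrArg (fun x => TrivSqZeroExt.snd (x.1 a)) h
    simpa [der] using h'
  · have hfst : ∀ a, TrivSqZeroExt.fst (ψ a) = ε a := fun a => AlgHom.congr_fun hψ a
    let s : R →ₗ[k] k := (TrivSqZeroExt.sndHom k k) ∘ₗ ψ.toLinearMap
    have hW : W ≤ LinearMap.ker s := by
      refine sup_le (fun a ha => ?_) ((Submodule.span_singleton_le_iff_mem _ _).2 ?_)
      · rw [Submodule.restrictScalars_mem, pow_two] at ha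
        refine Submodule.mul_induction_on ha (fun u hu v hv => ?_) fun u v hu hv => by
          rw [LinearMap.mem_ker] at hu hv ⊢; rw [map_add, hu, hv, add_zero]
        show TrivSqZeroExt.snd (ψ (u * v)) = 0
        rw [map_mul, DualNumber.snd_mul, hfst, hfst, show ε u = 0 from hu, show ε v = 0 from hv]
        simp
      · show TrivSqZeroExt.snd (ψ 1) = 0
        simp
    refine ⟨W.liftQ s hW, Subtype.ext (AlgHom.ext fun a => TrivSqZeroExt.ext ?_ ?_)⟩
    · simp [hfst]
    · simp [der, s]

/-- A finite Hopf algebra without tangent vectors at the counit is étale. -/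
theorem etale_of_cotangent_eq_zero {R : Type u} [CommRing R] [HopfAlgebra k R] [Module.Finite k R]
    (h : RingHom.ker (Bialgebra.counitAlgHom k R) ≤ RingHom.ker (Bialgebra.counitAlgHom k R) ^ 2) :
    Algebra.Etale k R := by
  haveI := HopfEtale.formallyUnramified_of_le_sq h
  haveI : Algebra.FormallyEtale k R := Algebra.FormallyEtale.iff_formallyUnramified_of_field.2 inferInstance
  exact { finitePresentation := Algebra.FinitePresentation.of_finiteType.1 inferInstance }

end Groth.Agent.MinOrd22

end
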