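import Groth.Agent.Lib.MinOrd22.Degree
import Groth.Agent.Lib.AVQuotH1.KerImage

/-!
# Exactness of the lattice functor
-/

universe u

open CategoryTheory Limits MonoidalCategory CartesianMonoidalCategory AlgebraicGeometry
open scoped MonObj GrpObj

set_option linter.style.haveILetI false
set_option linter.unusedSectionVars false
set_option maxHeartbeats 2000000
set_option synthInstance.maxHeartbeats 400000
set_option backward.isDefEq.respectTransparency false

noncomputable section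

namespace Groth.Agent.MinOrd22

open AVQuotH1 (AV unitPt)

variable {J : Type} [Fintype J] {K : J → Type} [∀ j, Field (K j)] [∀ j, CharZero (K j)] {ϖ : ∀ j, K j}
variable {k : Type u} [Field k]

section Ker

/-- A lift into an abelian subvariety is a homomorphism. -/
theorem isMonHom_of_comp_mono (X Y : AV k) {Z : Over (Spec (CommRingCat.of k))} [GrpObj Z] (j : Y.X ⟶ Z)
    [IsMonHom j] [Mono j] (r : X.X ⟶ Y.X) [IsMonHom (r ≫ j)] : IsMonHom r := by
  refine AbRigid.isMonHom_of_one X.X Y.X r ?_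
  rw [← cancel_mono j, Category.assoc, IsMonHom.one_hom (f := r ≫ j), IsMonHom.one_hom (f := j)]

/-- The degree as the rank of the kernel. -/
theorem degI_eq_kerOver (B X : AV k) (g : B.X ⟶ X.X) [IsMonHom g] [IsFinite g.left] [Surjective g.left] :
    (Isogeny14.kerOver g).hom.finrank (IsLocalRing.closedPoint k) = degI g := by
  haveI : AlgebraicGeometry.IsIntegral X.X.left := GeometricallyIntegral.isIntegral_of_subsingleton X.X.hom
  haveI : IsLocallyNoetherian X.X.left := LocallyOfFiniteType.isLocallyNoetherian X.X.hom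
  haveI : Flat g.left := AbRigid.flat_of_surjective B.X X.X g
  exact (Scheme.Hom.finrank_of_isPullback _ _ _ _ (IsPullback.of_hasPullback g.left η[X.X].left) _).trans rfl

/-- Isogenies with isomorphic kernels have equal degree. -/
theorem degI_congr (B X B' X' : AV k) (g : B.X ⟶ X.X) [IsMonHom g] [IsFinite g.left] [Surjective g.left]
    (g' : B'.X ⟶ X'.X) [IsMonHom g'] [IsFinite g'.left] [Surjective g'.left] (j : B.X ⟶ B'.X) [Mono j]
    [IsMonHom j]
    (h1 : ∀ (T : Over (Spec (CommRingCat.of k))) (y : T ⟶ B.X), y ≫ g = 1 → (y ≫ j) ≫ g' = 1)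
    (h2 : ∀ (T : Over (Spec (CommRingCat.of k))) (x : T ⟶ B'.X), x ≫ g' = 1 → ∃ y, y ≫ j = x ∧ y ≫ g = 1) :
    degI g = degI g' := by
  let a := Isogeny14.kerLift g' (Isogeny14.kerIncl g ≫ j) (h1 _ _ (Isogeny14.kerIncl_comp g))
  have ha : a ≫ Isogeny14.kerIncl g' = Isogeny14.kerIncl g ≫ j := Isogeny14.kerLift_incl _ _ _
  obtain ⟨y, hy, hyg⟩ := h2 _ (Isogeny14.kerIncl g') (Isogeny14.kerIncl_comp g')
  let b := Isogeny14.kerLift g y hyg
  have hb : b ≫ Isogeny14.kerIncl g = y := Isogeny14.kerLift_incl _ _ _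
  haveI := Isogeny14.mono_kerIncl g
  haveI := Isogeny14.mono_kerIncl g'
  have hba : b ≫ a = 𝟙 _ := by
    rw [← cancel_mono (Isogeny14.kerIncl g'), Category.assoc, ha, reassoc_of% hb, hy, Category.id_comp]
  have hab : a ≫ b = 𝟙 _ := by
    rw [← cancel_mono (Isogeny14.kerIncl g), ← cancel_mono j, Category.assoc a b, hb, Category.assoc, hy, ha,
      Category.id_comp]
  haveI : IsIso a := ⟨b, hab, hba⟩
  haveI : IsIso a.left := inferInstanceAs (IsIso ((Over.forget _).map a))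
  haveI : AlgebraicGeometry.IsIntegral X'.X.left := GeometricallyIntegral.isIntegral_of_subsingleton X'.X.hom
  haveI : IsLocallyNoetherian X'.X.left := LocallyOfFiniteType.isLocallyNoetherian X'.X.hom
  haveI : Flat g'.left := AbRigid.flat_of_surjective B'.X X'.X g'
  have hsq := IsPullback.of_hasPullback g'.left η[X'.X].left
  haveI : IsFinite (Isogeny14.kerOver g').hom := MorphismProperty.of_isPullback (P := @IsFinite) hsq ‹_›
  haveI : Flat (Isogeny14.kerOver g').hom := MorphismProperty.of_isPullback (P := @Flat) hsq ‹_›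
  rw [← degI_eq_kerOver B X g, ← degI_eq_kerOver B' X' g', ← Over.w a, Scheme.Hom.finrank_comp_left_of_isIso]

/-- A homomorphism killing the kernel of an isogeny factors through it. -/
theorem exists_factor_of_ker (B X C : AV k) (f : B.X ⟶ X.X) [IsMonHom f] [IsFinite f.left] [Surjective f.left]
    (ψ : B.X ⟶ C.X) [IsMonHom ψ]
    (hψ : ∀ (T : Over (Spec (CommRingCat.of k))) (x : T ⟶ B.X), x ≫ f = 1 → x ≫ ψ = 1) :
    ∃ r : X.X ⟶ C.X, IsMonHom r ∧ f ≫ r = ψ := by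
  refine exists_factor B X C f ψ fun Z h _ _ _ hker => ?_
  refine degI_congr B Z B X h f (𝟙 B.X) (fun T y hy => ?_) fun T x hx => ⟨x, Category.comp_id x, ?_⟩
  · rw [Category.comp_id]; exact ((hker T y).1 hy).1
  · exact (hker T x).2 ⟨hx, hψ T x hx⟩

end Ker

section Basic

variable [Finite k] {p : ℕ} [Fact p.Prime] (hk : Nat.card k = p)

/-- The category `AV_w`. -/
def InAV (p : ℕ) (ϖ : ∀ j, K j) (X : AV k) : Prop :=
  ∃ (π : X.X ⟶ X.X) (_ : IsMonHom π), IsPFrob p π ∧ Polynomial.aeval (EndAV.End.of π) (PP ϖ) = 0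

/-- Values of polynomials at intertwined endomorphisms are intertwined. -/
theorem aeval_comm {X Q : AV k} (f : EndAV.Hom X.X Q.X) (a : EndAV.End X.X) (b : EndAV.End Q.X)
    (h : a ≫ f = f ≫ b) (P : Polynomial ℤ) :
    ((Polynomial.aeval a P : EndAV.End X.X) : EndAV.Hom X.X X.X) ≫ f =
      f ≫ ((Polynomial.aeval b P : EndAV.End Q.X) : EndAV.Hom Q.X Q.X) := by
  have h' := AVQuotH1.eval₂_comm f a b h P
  rw [Polynomial.aeval_def, Polynomial.aeval_def, RingHom.ext_int (algebraMap ℤ (EndAV.End X.X)) (Int.castRingHom _),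
    RingHom.ext_int (algebraMap ℤ (EndAV.End Q.X)) (Int.castRingHom _)]
  exact h'

include hk in
theorem frob_comm_hom {X Q : AV k} {πX : X.X ⟶ X.X} [IsMonHom πX] (hX : IsPFrob p πX) {πQ : Q.X ⟶ Q.X}
    [IsMonHom πQ] (hQ : IsPFrob p πQ) (f : EndAV.Hom X.X Q.X) :
    (EndAV.End.of πX : EndAV.Hom X.X X.X) ≫ f = f ≫ (EndAV.End.of πQ : EndAV.Hom Q.X Q.X) :=
  EndAV.Hom.ext (IsPFrob.comm hk hX hQ f.toHom).symm

include hk in
theorem inAV_of_mono {X Y : AV k} (hY : InAV p ϖ Y) (f : EndAV.Hom X.X Y.X) [Mono f.toHom] : InAV p ϖ X := by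
  obtain ⟨πY, _, hπY, hY'⟩ := hY
  obtain ⟨πX, _, hπX⟩ := exists_pFrob hk X
  refine ⟨πX, inferInstance, hπX, ?_⟩
  have h := aeval_comm f _ _ (frob_comm_hom hk hπX hπY f) (PP ϖ)
  rw [hY'] at h
  refine EndAV.End.ext ((cancel_mono f.toHom).1 ((congrArg EndAV.Hom.toHom h).trans ?_))
  show f.toHom ≫ (1 : Y.X ⟶ Y.X) = (1 : X.X ⟶ X.X) ≫ f.toHom
  rw [MonObj.comp_one, MonObj.one_comp]

include hk in
theorem inAV_of_surjective {X Y : AV k} (hX : InAV p ϖ X) (f : EndAV.Hom X.X Y.X) [Surjective f.toHom.left] :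
    InAV p ϖ Y := by
  obtain ⟨πX, _, hπX, hX'⟩ := hX
  obtain ⟨πY, _, hπY⟩ := exists_pFrob hk Y
  refine ⟨πY, inferInstance, hπY, ?_⟩
  have h := aeval_comm f _ _ (frob_comm_hom hk hπX hπY f) (PP ϖ)
  rw [hX'] at h
  haveI := AVQuotH1.epi_of_surjective f.toHom
  refine EndAV.End.ext ((cancel_epi f.toHom).1 ((congrArg EndAV.Hom.toHom h).symm.trans ?_))
  show (1 : X.X ⟶ X.X) ≫ f.toHom = f.toHom ≫ (1 : Y.X ⟶ Y.X)
  rw [MonObj.comp_one, MonObj.one_comp]

end Basic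

section Main

variable [Finite k] {p : ℕ} [Fact p.Prime] (hk : Nat.card k = p) (hint : ∀ j, IsIntegral ℤ (ϖ j))
  {Aw : Over (Spec (CommRingCat.of k))} [GrpObj Aw] [IsCommMonObj Aw] [IsProper Aw.hom]
  [GeometricallyIntegral Aw.hom] {πw : Aw ⟶ Aw} [IsMonHom πw] (hπw : IsPFrob p πw)
  (hweil : ∀ j, ∀ z ∈ (minpoly ℤ (ϖ j)).aroots ℂ, ‖z‖ = Real.sqrt p)
  (hinj : ∀ i j, minpoly ℤ (ϖ i) = minpoly ℤ (ϖ j) → i = j)
  (ρw : (MvPolynomial.aeval ![fun j => ϖ j, fun j => (p : K j) / ϖ j] : MvPolynomial (Fin 2) ℤ →ₐ[ℤ] ((j : J) → K j)).range ≃+* EndAV.End Aw)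
  (hρw : ρw ⟨(MvPolynomial.aeval ![fun j => ϖ j, fun j => (p : K j) / ϖ j] : MvPolynomial (Fin 2) ℤ →ₐ[ℤ] ((j : J) → K j)) (MvPolynomial.X 0), AlgHom.mem_range_self _ _⟩ = EndAV.End.of πw)
  (o : OrderData p ϖ)

include hπw ρw hρw in
theorem inAV_Aw : InAV p ϖ (⟨Aw⟩ : AV k) := ⟨πw, inferInstance, hπw, aeval_piw ρw hρw⟩

include hk hint hπw hweil hinj ρw hρw o in
/-- A homomorphism inducing a bijection of lattices is an isomorphism. -/
theorem isIso_of_bijective (B A : AV k) (hB : InAV p ϖ B) (hA : InAV p ϖ A) (f : EndAV.Hom B.X A.X)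
    (hf : Function.Bijective (pre Aw f)) : IsIso f.toHom := by
  obtain ⟨πB, _, hπB, hB'⟩ := hB
  obtain ⟨πA, _, hπA, hA'⟩ := hA
  obtain ⟨l, hlp, hl⟩ := TateTors22.exists_prime_ne_zero k
  haveI := Fact.mk hlp
  obtain ⟨hw, t, ht, -⟩ := exists_generator hk hint (AlgebraicClosure k) l hπw hweil hinj ρw hρw hl
  have htop : (pre Aw f).range = ⊤ := AddMonoidHom.range_eq_top.2 hf.2
  haveI : Finite (EndAV.Hom B.X Aw ⧸ (pre Aw f).range) := by
    haveI : Subsingleton (EndAV.Hom B.X Aw ⧸ (pre Aw f).range) := by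
      rw [htop]; exact QuotientAddGroup.subsingleton_quotient_top
    infer_instance
  obtain ⟨hfin, hsurj⟩ := (isogeny_iff hk hint (AlgebraicClosure k) l hl hπw hw t ht hπA hA' hπB hB' f).2
    ⟨hf.1, inferInstance⟩
  haveI := hfin
  haveI := hsurj
  obtain ⟨-, h⟩ := index_eq hk hint hπw hweil hinj ρw hρw o B A f hπA hA'
  rw [htop, AddSubgroup.index_top] at h
  exact isIso_of_degI_eq_one B A f.toHom h.symm

include hk hint hπw hweil hinj ρw hρw o in
/-- Surjectivity on lattices implies a closed immersion. -/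
theorem isClosedImmersion_of_surjective (B A : AV k) (hB : InAV p ϖ B) (f : EndAV.Hom B.X A.X)
    (hA : InAV p ϖ A) (hf : Function.Surjective (pre Aw f)) : IsClosedImmersion f.toHom.left := by
  obtain ⟨Z, _, j, q, hj, hq, hjc, hZp, hZi, hqs, -, -, hqj⟩ := AbRigid.exists_image B.X A.X f.toHom
  haveI := hjc; haveI := hZp; haveI := hZi; haveI := hqs
  haveI := isCommMonObj_of_isProper_of_geometricallyIntegral Z
  haveI : Surjective (EndAV.Hom.of q).toHom.left := hqs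
  have hQ : InAV p ϖ ⟨Z⟩ := inAV_of_surjective hk (X := B) (Y := ⟨Z⟩) hB (EndAV.Hom.of q)
  have hbij : Function.Bijective (pre Aw (EndAV.Hom.of q)) := by
    refine ⟨fun a b hab => ?_, fun ψ => ?_⟩
    · haveI := AVQuotH1.epi_of_surjective q
      exact EndAV.Hom.ext ((cancel_epi q).1 (congrArg EndAV.Hom.toHom hab))
    · obtain ⟨φ, hφ⟩ := hf ψ
      refine ⟨EndAV.Hom.of j ≫ φ, EndAV.Hom.ext ?_⟩
      show q ≫ j ≫ φ.toHom = ψ.toHom
      rw [reassoc_of% hqj]
      exact congrArg EndAV.Hom.toHom hφ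
  haveI : IsIso q := isIso_of_bijective hk hint hπw hweil hinj ρw hρw o B ⟨Z⟩ hB hQ (EndAV.Hom.of q) hbij
  haveI : IsIso q.left := inferInstanceAs (IsIso ((Over.forget _).map q))
  rw [← hqj, Over.comp_left]
  infer_instance

include hk hint hπw hweil hinj ρw hρw o in
/-- Homomorphisms extend from abelian subvarieties. -/
theorem surjective_of_isClosedImmersion (B A : AV k) (f : EndAV.Hom B.X A.X) (hA : InAV p ϖ A)
    [IsClosedImmersion f.toHom.left] : Function.Surjective (pre Aw f) := by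
  haveI : Mono f.toHom := Over.mono_of_mono_left _
  have hB : InAV p ϖ B := inAV_of_mono hk (X := B) (Y := A) hA f
  set j := f.toHom with hjdef
  obtain ⟨C, q, hq, hqs, hker⟩ := AVQuotH1.exists_quotient A j
  haveI := hq; haveI := hqs
  obtain ⟨m, s, hm, hs, hsq⟩ := AVQuotH1.exists_quasiSection q
  haveI := hs
  -- a quasi-retraction
  let e : EndAV.Hom A.X A.X := m • 𝟙 (CommGrp.mk A.X) - EndAV.Hom.of q ≫ EndAV.Hom.of s
  have heq : e.toHom ≫ q = 1 := by
    have h1 : e ≫ EndAV.Hom.of q = 0 := by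
      rw [Preadditive.sub_comp, Preadditive.nsmul_comp, Category.id_comp, Category.assoc,
        show EndAV.Hom.of s ≫ EndAV.Hom.of q = m • 𝟙 (CommGrp.mk C.X) from EndAV.Hom.ext (by
          rw [EndAV.Hom.toHom_nsmul]; exact hsq), Preadditive.comp_nsmul, Category.comp_id, sub_self]
    exact congrArg EndAV.Hom.toHom h1
  have hjq : j ≫ q = 1 := by rw [Hom.one_def]; exact hker.w
  let r : A.X ⟶ B.X := hker.lift e.toHom (toUnit A.X) (by rw [heq, Hom.one_def])
  have hrj : r ≫ j = e.toHom := hker.lift_fst _ _ _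
  haveI : IsMonHom (r ≫ j) := by rw [hrj]; infer_instance
  haveI : IsMonHom r := isMonHom_of_comp_mono A B j r
  have hjr : f ≫ EndAV.Hom.of r = m • 𝟙 (CommGrp.mk B.X) := by
    have h1 : f ≫ e = m • f := by
      rw [Preadditive.comp_sub, Preadditive.comp_nsmul, Category.comp_id, ← Category.assoc,
        show f ≫ EndAV.Hom.of q = 0 from EndAV.Hom.ext hjq, Limits.zero_comp, sub_zero]
    refine EndAV.Hom.ext ((cancel_mono j).1 ?_)
    show (f.toHom ≫ r) ≫ j = EndAV.Hom.toHom (m • 𝟙 (CommGrp.mk B.X) : EndAV.Hom B.X B.X) ≫ j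
    rw [Category.assoc, hrj]
    refine (congrArg EndAV.Hom.toHom h1).trans ?_
    have h2 : (m • 𝟙 (CommGrp.mk B.X) : EndAV.Hom B.X B.X) ≫ f = m • f := by
      rw [Preadditive.nsmul_comp, Category.id_comp]
    exact (congrArg EndAV.Hom.toHom h2).symm
  -- the isogeny with kernel the torsion of the subvariety
  obtain ⟨a, ha⟩ := Index22.exists_dim (A := A.X)
  obtain ⟨b, hb⟩ := Index22.exists_dim (A := B.X)
  obtain ⟨hAf, hAs, -⟩ := mulN_props A ha hm
  obtain ⟨hBf, hBs, -⟩ := mulN_props B hb hm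
  haveI := hAf; haveI := hAs; haveI := hBf; haveI := hBs
  haveI : IsMonHom (𝟙 A.X ^ m) := TateTors22.isMonHom_pow m
  haveI : IsMonHom (𝟙 B.X ^ m) := TateTors22.isMonHom_pow m
  obtain ⟨Z, h, g, r', _, _, _, _, _, _, _, -, -, hkerh⟩ := exists_split A A C (𝟙 A.X ^ m) q
  have hpow : ∀ (T : Over (Spec (CommRingCat.of k))) (y : T ⟶ B.X), (y ≫ j) ≫ (𝟙 A.X ^ m) = (y ≫ (𝟙 B.X ^ m)) ≫ j :=
    fun T y => by
      rw [MonObj.comp_pow, Category.comp_id, MonObj.comp_pow, Category.comp_id, Isogeny14.hom_pow_comp]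
  have hin : ∀ (T : Over (Spec (CommRingCat.of k))) (y : T ⟶ B.X), y ≫ (𝟙 B.X ^ m) = 1 → (y ≫ j) ≫ h = 1 :=
    fun T y hy => (hkerh T _).2 ⟨by rw [hpow, hy, MonObj.one_comp], by rw [Category.assoc, hjq, MonObj.comp_one]⟩
  have hout : ∀ (T : Over (Spec (CommRingCat.of k))) (x : T ⟶ A.X), x ≫ h = 1 →
      ∃ y, y ≫ j = x ∧ y ≫ (𝟙 B.X ^ m) = 1 := fun T x hx => by
    obtain ⟨hx1, hx2⟩ := (hkerh T x).1 hx
    obtain ⟨y, hy⟩ : ∃ y, y ≫ j = x := ⟨hker.lift x (toUnit T) (by rw [hx2, Hom.one_def]), hker.lift_fst _ _ _⟩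
    exact ⟨y, hy, (cancel_mono j).1 (by rw [← hpow, hy, hx1, MonObj.one_comp])⟩
  have hdeg : degI (𝟙 B.X ^ m) = degI h := degI_congr B B A Z _ h j hin hout
  -- indices
  let nB : EndAV.Hom B.X B.X := EndAV.Hom.of (𝟙 B.X ^ m)
  haveI : IsFinite nB.toHom.left := hBf
  haveI : Surjective nB.toHom.left := hBs
  haveI : IsFinite (EndAV.Hom.of h).toHom.left := by rw [EndAV.Hom.toHom_of]; infer_instance
  haveI : Surjective (EndAV.Hom.of h).toHom.left := by rw [EndAV.Hom.toHom_of]; infer_instance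
  obtain ⟨πB, _, hπB, hB'⟩ := hB
  obtain ⟨πZ, _, hπZ, hZ'⟩ := inAV_of_surjective hk (X := A) (Y := Z) hA (EndAV.Hom.of h)
  obtain ⟨-, hiB⟩ := index_eq hk hint hπw hweil hinj ρw hρw o B B nB hπB hB'
  obtain ⟨-, hiZ⟩ := index_eq hk hint hπw hweil hinj ρw hρw o A Z (EndAV.Hom.of h) hπZ hZ'
  have hnB : ∀ ψ : EndAV.Hom B.X Aw, nB ≫ ψ = m • ψ := fun ψ => EndAV.Hom.ext (by
    show (𝟙 B.X ^ m) ≫ ψ.toHom = (m • ψ).toHom
    rw [EndAV.Hom.toHom_nsmul, Isogeny14.hom_pow_comp, Category.id_comp])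
  have hle : (pre Aw nB).range ≤ (pre Aw f).range := by
    rintro _ ⟨ψ, rfl⟩
    exact ⟨EndAV.Hom.of r ≫ ψ, by
      show f ≫ EndAV.Hom.of r ≫ ψ = nB ≫ ψ
      rw [← Category.assoc, hjr, hnB, Preadditive.nsmul_comp, Category.id_comp]⟩
  have hcomap : (pre Aw (EndAV.Hom.of h)).range = (pre Aw nB).range.comap (pre Aw f) := by
    ext φ
    constructor
    · rintro ⟨χ, rfl⟩
      obtain ⟨ψ, _, hψ⟩ := exists_factor_of_ker B B ⟨Aw⟩ (𝟙 B.X ^ m) (j ≫ h ≫ χ.toHom) fun T y hy => by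
        rw [← Category.assoc, ← Category.assoc, hin T y hy, MonObj.one_comp]
      exact ⟨EndAV.Hom.of ψ, EndAV.Hom.ext hψ⟩
    · rintro ⟨ψ, hψ⟩
      obtain ⟨χ, _, hχ⟩ := exists_factor_of_ker A Z ⟨Aw⟩ h φ.toHom fun T x hx => by
        obtain ⟨y, rfl, hy⟩ := hout T x hx
        rw [Category.assoc, ← show nB.toHom ≫ ψ.toHom = j ≫ φ.toHom from congrArg EndAV.Hom.toHom hψ,
          ← Category.assoc, show y ≫ nB.toHom = 1 from hy, MonObj.one_comp]
      exact ⟨EndAV.Hom.of χ, EndAV.Hom.ext hχ⟩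
  rw [hcomap, AddSubgroup.index_comap, EndAV.Hom.toHom_of, ← hdeg, show degI (𝟙 B.X ^ m) = degI nB.toHom from rfl,
    ← hiB] at hiZ
  have hmul := AddSubgroup.relIndex_mul_index hle
  have hpos : (pre Aw nB).range.index ≠ 0 := by rw [hiB]; exact (degI_pos B B nB.toHom).ne'
  rw [hiZ] at hmul
  exact AddMonoidHom.range_eq_top.1 (AddSubgroup.index_eq_one.1 ((Nat.mul_eq_left hpos).1 hmul))

end Main

end Groth.Agent.MinOrd22

end
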