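import Groth.Agent.Lib.WeilNum29.Order
import Groth.Agent.S17983
import Mathlib

/-!
# Reductions of the minimal central order and a determinant of prime-power valuation
-/

universe u

open Polynomial

namespace Groth.Agent.MinOrd22

open WeilNum29 (P2 toProd hcan fq Datum Roots)

set_option maxHeartbeats 1000000

section family

variable {p : ℕ} [Fact p.Prime] {J : Type} [Fintype J] {K : J → Type u} [∀ j, Field (K j)] [∀ j, CharZero (K j)]
  {ϖ : ∀ j, K j}

/-- The order as a quotient, with its distinguished data. -/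
structure OrderData (p : ℕ) (ϖ : ∀ j, K j) where
  D : ℕ
  ε : ℤ
  hε : ε * ε = 1
  hdeg : (∏ j, minpoly ℤ (ϖ j)).natDegree = 2 * D
  coeff0 : (∏ j, minpoly ℤ (ϖ j)).coeff 0 = ε * (p : ℤ) ^ D
  sym : ∀ r ≤ D, (∏ j, minpoly ℤ (ϖ j)).coeff (D - r) = ε * (p : ℤ) ^ r * (∏ j, minpoly ℤ (ϖ j)).coeff (D + r)
  ker : RingHom.ker (toProd (p : ℤ) ϖ) = Ideal.span {fq (p : ℤ), hcan D ε (∏ j, minpoly ℤ (ϖ j))}
  basis : Nonempty (Module.Basis (Fin D ⊕ Fin D) ℤ (toProd (p : ℤ) ϖ).range)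

theorem exists_orderData (hint : ∀ j, IsIntegral ℤ (ϖ j))
    (hweil : ∀ j, ∀ z ∈ (minpoly ℤ (ϖ j)).aroots ℂ, ‖z‖ = Real.sqrt p)
    (hnr : ∀ j, ∀ z ∈ (minpoly ℤ (ϖ j)).aroots ℂ, z.im ≠ 0)
    (hinj : ∀ i j, minpoly ℤ (ϖ i) = minpoly ℤ (ϖ j) → i = j) : Nonempty (OrderData p ϖ) := by
  have hp : p ≠ 0 := (Fact.out : p.Prime).ne_zero
  have hw' : ∀ j, ∀ z ∈ (minpoly ℤ (ϖ j)).aroots ℂ, ‖z‖ = Real.sqrt ((p : ℝ) ^ 1) := fun j z hz => by
    rw [pow_one]; exact hweil j z hz
  let D := ∑ j, (minpoly ℤ (ϖ j)).natDegree / 2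
  have hD : ∑ j, (minpoly ℤ (ϖ j)).natDegree = 2 * D := by
    rw [Finset.mul_sum]
    exact Finset.sum_congr rfl fun j _ =>
      (Nat.two_mul_div_two_of_even (Groth.Agent.S17983.result p 1 one_pos (K j) (ϖ j) (hint j) (hw' j) (hnr j)).1).symm
  have hdeg : (∏ j, minpoly ℤ (ϖ j)).natDegree = 2 * D := by
    rw [natDegree_prod_of_monic _ _ fun j _ => minpoly.monic (hint j), hD]
  have hw := WeilNum29.isWeilPoly_prod (q := p ^ 1) Finset.univ (fun j => minpoly ℤ (ϖ j))
    fun j _ => WeilNum29.isWeilPoly_minpoly (hint j) (hw' j)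
  obtain ⟨ε, hε, h0, hsym⟩ := hw.exists_sign (pow_ne_zero _ hp) hdeg
  simp only [pow_one] at h0 hsym
  have hr := WeilNum29.roots_family hint (pow_ne_zero 1 (Nat.cast_ne_zero.mpr hp)) hw' hinj
  rw [pow_one] at hr
  have d : Datum (p : ℤ) D (∏ j, minpoly ℤ (ϖ j)) (hcan D ε (∏ j, minpoly ℤ (ϖ j))) :=
    ⟨Nat.cast_ne_zero.mpr hp, monic_prod_of_monic _ _ fun j _ => minpoly.monic (hint j), hdeg, ⟨ε, hε, hsym⟩,
      WeilNum29.pow_mul_hcan_sub (Nat.cast_ne_zero.mpr hp) hdeg hsym⟩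
  exact ⟨⟨D, ε, hε, hdeg, h0, hsym, WeilNum29.ker_toProd d hr, WeilNum29.exists_basis_range d hr⟩⟩

theorem toProd_eq_aeval : toProd (p : ℤ) ϖ =
    (MvPolynomial.aeval ![fun j => ϖ j, fun j => (p : K j) / ϖ j] : MvPolynomial (Fin 2) ℤ →ₐ[ℤ] ((j : J) → K j)) := by
  refine MvPolynomial.algHom_ext (Fin.forall_fin_two.mpr ⟨?_, ?_⟩)
  · rw [toProd, MvPolynomial.aeval_X, MvPolynomial.aeval_X]; rfl
  · rw [toProd, MvPolynomial.aeval_X, MvPolynomial.aeval_X]; funext i; simp

/-- Evaluations killing the relations give homomorphisms on the order. -/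
theorem exists_hom (o : OrderData p ϖ) {S : Type*} [CommRing S] (f v : S) (hfv : f * v = (p : S))
    (hh : MvPolynomial.aeval ![f, v] (hcan o.D o.ε (∏ j, minpoly ℤ (ϖ j))) = 0) :
    ∃ χ : ↥(MvPolynomial.aeval ![fun j => ϖ j, fun j => (p : K j) / ϖ j] : MvPolynomial (Fin 2) ℤ →ₐ[ℤ] ((j : J) → K j)).range →+* S,
      χ ⟨_, AlgHom.mem_range_self _ (MvPolynomial.X 0)⟩ = f ∧ χ ⟨_, AlgHom.mem_range_self _ (MvPolynomial.X 1)⟩ = v := by
  let F := (MvPolynomial.aeval ![fun j => ϖ j, fun j => (p : K j) / ϖ j] : MvPolynomial (Fin 2) ℤ →ₐ[ℤ] ((j : J) → K j))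
  let g : P2 →ₐ[ℤ] S := MvPolynomial.aeval ![f, v]
  have hker : RingHom.ker F.rangeRestrict.toRingHom ≤ RingHom.ker g.toRingHom := by
    intro x hx
    have hx' : x ∈ RingHom.ker (toProd (p : ℤ) ϖ) := by
      rw [toProd_eq_aeval]
      exact congrArg Subtype.val (show F.rangeRestrict x = 0 from hx)
    rw [o.ker] at hx'
    revert x
    show ∀ x, _
    intro x _ hx'
    refine (Ideal.span_le.2 ?_) hx'
    rintro y (rfl | rfl)
    · show g (fq (p : ℤ)) = 0
      simp [g, fq, hfv]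
    · exact hh
  let χ := F.rangeRestrict.toRingHom.liftOfSurjective F.rangeRestrict_surjective ⟨g.toRingHom, hker⟩
  have hχ : ∀ x, χ (F.rangeRestrict x) = g x := fun x =>
    RingHom.liftOfRightInverse_comp_apply _ _ _ ⟨g.toRingHom, hker⟩ x
  exact ⟨χ, (hχ (MvPolynomial.X 0)).trans (by simp [g]), (hχ (MvPolynomial.X 1)).trans (by simp [g])⟩

/-- The reduction of the symmetrized polynomial at `V = 0`. -/
noncomputable def cPoly (p : ℕ) (ϖ : ∀ j, K j) (D : ℕ) : (ZMod p)[X] :=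
  ∑ r ∈ Finset.range (D + 1), C (((∏ j, minpoly ℤ (ϖ j)).coeff (D + r) : ℤ) : ZMod p) * X ^ r

/-- The reduction of the symmetrized polynomial at `F = 0`. -/
noncomputable def cPoly' (p : ℕ) (ϖ : ∀ j, K j) (D : ℕ) (ε : ℤ) : (ZMod p)[X] :=
  C (((∏ j, minpoly ℤ (ϖ j)).coeff D : ℤ) : ZMod p) +
    C (ε : ZMod p) * ∑ r ∈ Finset.range D, C (((∏ j, minpoly ℤ (ϖ j)).coeff (D + (r + 1)) : ℤ) : ZMod p) * X ^ (r + 1)

theorem aeval_hcan {S : Type*} [CommRing S] (D : ℕ) (ε : ℤ) (P : ℤ[X]) (f v : S) :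
    MvPolynomial.aeval ![f, v] (hcan D ε P) = ∑ r ∈ Finset.range (D + 1), (P.coeff (D + r) : S) * f ^ r +
      (ε : S) * ∑ r ∈ Finset.range D, (P.coeff (D + (r + 1)) : S) * v ^ (r + 1) := by
  simp [hcan, zsmul_eq_mul]

/-- The three reductions of the order. -/
theorem exists_red_F (o : OrderData p ϖ) :
    ∃ χ : ↥(MvPolynomial.aeval ![fun j => ϖ j, fun j => (p : K j) / ϖ j] : MvPolynomial (Fin 2) ℤ →ₐ[ℤ] ((j : J) → K j)).range →+* AdjoinRoot (cPoly p ϖ o.D),
      χ ⟨_, AlgHom.mem_range_self _ (MvPolynomial.X 0)⟩ = AdjoinRoot.root _ := by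
  obtain ⟨χ, h, -⟩ := exists_hom o (AdjoinRoot.root (cPoly p ϖ o.D)) 0 (by
    rw [mul_zero, ← map_natCast (AdjoinRoot.of (cPoly p ϖ o.D)), ZMod.natCast_self, map_zero]) (by
    rw [aeval_hcan]
    simp only [zero_pow (Nat.succ_ne_zero _), mul_zero, Finset.sum_const_zero, add_zero]
    have e : ∀ (S : Type) [CommRing S] [Algebra (ZMod p) S] (x : S), aeval x (cPoly p ϖ o.D) =
        ∑ r ∈ Finset.range (o.D + 1), (((∏ j, minpoly ℤ (ϖ j)).coeff (o.D + r) : ℤ) : S) * x ^ r := fun S _ _ x => by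
      simp only [cPoly, map_sum, map_mul, map_pow, aeval_C, aeval_X, map_intCast]
    rw [← e, AdjoinRoot.aeval_eq, AdjoinRoot.mk_self])
  exact ⟨χ, h⟩

theorem exists_red_V (o : OrderData p ϖ) :
    ∃ χ : ↥(MvPolynomial.aeval ![fun j => ϖ j, fun j => (p : K j) / ϖ j] : MvPolynomial (Fin 2) ℤ →ₐ[ℤ] ((j : J) → K j)).range →+* AdjoinRoot (cPoly' p ϖ o.D o.ε),
      χ ⟨_, AlgHom.mem_range_self _ (MvPolynomial.X 0)⟩ = 0 ∧
      χ ⟨_, AlgHom.mem_range_self _ (MvPolynomial.X 1)⟩ = AdjoinRoot.root _ := by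
  refine exists_hom o 0 (AdjoinRoot.root (cPoly' p ϖ o.D o.ε)) (by
    rw [zero_mul, ← map_natCast (AdjoinRoot.of (cPoly' p ϖ o.D o.ε)), ZMod.natCast_self, map_zero]) ?_
  rw [aeval_hcan, Finset.sum_range_succ', pow_zero, mul_one]
  simp only [zero_pow (Nat.succ_ne_zero _), mul_zero, Finset.sum_const_zero, zero_add, add_zero]
  have e : ∀ (S : Type) [CommRing S] [Algebra (ZMod p) S] (x : S), aeval x (cPoly' p ϖ o.D o.ε) =
      (((∏ j, minpoly ℤ (ϖ j)).coeff o.D : ℤ) : S) + (o.ε : S) * ∑ r ∈ Finset.range o.D,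
        (((∏ j, minpoly ℤ (ϖ j)).coeff (o.D + (r + 1)) : ℤ) : S) * x ^ (r + 1) := fun S _ _ x => by
    simp only [cPoly', map_add, map_sum, map_mul, map_pow, aeval_C, aeval_X, map_intCast]
  rw [← e, AdjoinRoot.aeval_eq, AdjoinRoot.mk_self]

theorem exists_red_unit (o : OrderData p ϖ) {q : ℕ} [Fact q.Prime] (hqp : q ≠ p) :
    ∃ χ : ↥(MvPolynomial.aeval ![fun j => ϖ j, fun j => (p : K j) / ϖ j] : MvPolynomial (Fin 2) ℤ →ₐ[ℤ] ((j : J) → K j)).range →+* AdjoinRoot ((∏ j, minpoly ℤ (ϖ j)).map (Int.castRingHom (ZMod q))),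
      χ ⟨_, AlgHom.mem_range_self _ (MvPolynomial.X 0)⟩ = AdjoinRoot.root _ := by
  set P := ∏ j, minpoly ℤ (ϖ j) with hP
  set S := AdjoinRoot (P.map (Int.castRingHom (ZMod q)))
  set x : S := AdjoinRoot.root _
  have hpq : (p : ZMod q) ≠ 0 := fun h => hqp ((Nat.prime_dvd_prime_iff_eq Fact.out Fact.out).1
    ((ZMod.natCast_eq_zero_iff _ _).1 h))
  have h0 : ∀ G : ℤ[X], aeval x G = AdjoinRoot.mk (P.map (Int.castRingHom (ZMod q))) (G.map (Int.castRingHom (ZMod q))) := by
    intro G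
    rw [← AdjoinRoot.aeval_eq]
    exact (aeval_map_algebraMap (ZMod q) x G).symm.trans
      (congrArg (fun r => aeval x (G.map r)) (RingHom.ext_int _ _))
  have hPx : aeval x P = 0 := by rw [h0, AdjoinRoot.mk_self]
  have hunit : IsUnit ((P.coeff 0 : ℤ) : S) := by
    rw [o.coeff0, ← map_intCast (AdjoinRoot.of (P.map (Int.castRingHom (ZMod q)))), Int.cast_mul, Int.cast_pow, Int.cast_natCast]
    exact ((IsUnit.mk0 _ fun h => by
      rcases mul_eq_zero.1 h with h | h
      · have := congrArg (fun t : ℤ => (t : ZMod q)) o.hε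
        simp [h] at this
      · exact hpq (eq_zero_of_pow_eq_zero h)).map _)
  have hx : IsUnit x := by
    obtain ⟨G, hG⟩ := X_dvd_iff.2 (show (P - C (P.coeff 0)).coeff 0 = 0 by simp)
    have h1 : x * aeval x G = -((P.coeff 0 : ℤ) : S) := by
      have := congrArg (aeval x) hG
      rw [map_sub, hPx, zero_sub, aeval_C, map_mul, aeval_X] at this
      simpa using this.symm
    exact isUnit_of_mul_isUnit_left (h1 ▸ hunit.neg)
  obtain ⟨χ, h, -⟩ := exists_hom o x ((p : S) * ↑hx.unit⁻¹) (by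
    rw [mul_left_comm, IsUnit.mul_val_inv, mul_one]) (by
    have hv : (x * ((p : S) * ↑hx.unit⁻¹)) = (p : S) := by rw [mul_left_comm, IsUnit.mul_val_inv, mul_one]
    have hmem := WeilNum29.pow_mul_hcan_sub (Nat.cast_ne_zero.mpr (Fact.out : p.Prime).ne_zero) o.hdeg o.sym
    obtain ⟨c, hc⟩ := Ideal.mem_span_singleton.mp hmem
    have := congrArg (MvPolynomial.aeval ![x, (p : S) * ↑hx.unit⁻¹]) hc
    rw [map_sub, map_mul, map_mul, map_pow, ← aeval_algHom_apply] at this
    have hf : MvPolynomial.aeval ![x, (p : S) * ↑hx.unit⁻¹] (fq (p : ℤ)) = 0 := by simp [fq, hv]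
    rw [hf, zero_mul, MvPolynomial.aeval_X, Matrix.cons_val_zero, ← hP, hPx, sub_zero] at this
    exact (hx.pow _).mul_right_eq_zero.1 this)
  exact ⟨χ, h⟩

/-- A reduction converts a divisibility in the order into one of polynomials. -/
theorem dvd_of_hom {R : Type*} [CommRing R] {q : ℕ} [Fact q.Prime] {c : (ZMod q)[X]} (χ : R →+* AdjoinRoot c)
    (a θ : R) (ha : χ a = AdjoinRoot.root c) (Q : ℤ[X]) (h : aeval a Q = (q : R) * θ) :
    c ∣ Q.map (Int.castRingHom (ZMod q)) := by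
  rw [← AdjoinRoot.mk_eq_zero, ← AdjoinRoot.aeval_eq,
    show Int.castRingHom (ZMod q) = algebraMap ℤ (ZMod q) from RingHom.ext_int _ _, aeval_map_algebraMap, ← ha,
    show aeval (χ a) Q = χ (aeval a Q) from aeval_algHom_apply χ.toIntAlgHom a Q]
  rw [h, map_mul, map_natCast, ← map_natCast (AdjoinRoot.of c), ZMod.natCast_self, map_zero, zero_mul]

theorem coeff_dvd_of_degree_lt {q : ℕ} [Fact q.Prime] {c : (ZMod q)[X]} {Q : ℤ[X]}
    (hd : c ∣ Q.map (Int.castRingHom (ZMod q))) (hlt : Q.degree < c.degree) (i : ℕ) : (q : ℤ) ∣ Q.coeff i := by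
  have h0 : Q.map (Int.castRingHom (ZMod q)) = 0 := eq_zero_of_dvd_of_degree_lt hd (degree_map_le.trans_lt hlt)
  have := congrArg (fun f : (ZMod q)[X] => f.coeff i) h0
  rw [coeff_map, coeff_zero, eq_intCast] at this
  exact (ZMod.intCast_zmod_eq_zero_iff_dvd _ _).1 this

theorem cPoly_props (o : OrderData p ϖ) (hint : ∀ j, IsIntegral ℤ (ϖ j)) :
    (cPoly p ϖ o.D).Monic ∧ (cPoly p ϖ o.D).natDegree = o.D ∧
      (∏ j, minpoly ℤ (ϖ j)).map (Int.castRingHom (ZMod p)) = X ^ o.D * cPoly p ϖ o.D ∧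
      (cPoly' p ϖ o.D o.ε).degree = o.D := by
  set P := ∏ j, minpoly ℤ (ϖ j)
  have hm : P.Monic := monic_prod_of_monic _ _ fun j _ => minpoly.monic (hint j)
  have hlead : P.coeff (o.D + o.D) = 1 := by
    rw [← two_mul, ← o.hdeg]; exact hm.leadingCoeff
  have hc : ∀ i, (cPoly p ϖ o.D).coeff i = if i ≤ o.D then ((P.coeff (o.D + i) : ℤ) : ZMod p) else 0 := by
    intro i
    simp [cPoly, P]
  have hcD : (cPoly p ϖ o.D).coeff o.D = 1 := by rw [hc, if_pos le_rfl, hlead]; simp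
  have hle : (cPoly p ϖ o.D).natDegree ≤ o.D := natDegree_le_iff_coeff_eq_zero.2 fun i hi => by
    rw [hc, if_neg (by omega)]
  refine ⟨monic_of_natDegree_le_of_coeff_eq_one _ hle hcD, natDegree_eq_of_le_of_coeff_ne_zero hle (by simp [hcD]), ?_, ?_⟩
  · ext i
    rw [coeff_map, eq_intCast, coeff_X_pow_mul']
    split_ifs with hi
    · rw [hc]
      split_ifs with hi'
      · rw [Nat.add_sub_cancel' hi]
      · rw [coeff_eq_zero_of_natDegree_lt (by rw [o.hdeg]; omega)]; simp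
    · have := o.sym (o.D - i) (by omega)
      rw [show o.D - (o.D - i) = i by omega] at this
      rw [this, Int.cast_mul, Int.cast_mul, Int.cast_pow, Int.cast_natCast, ZMod.natCast_self, zero_pow (by omega)]
      ring
  · have hε : (o.ε : ZMod p) ≠ 0 := fun h => by
      have := congrArg (fun t : ℤ => (t : ZMod p)) o.hε
      simp [h] at this
    rcases Nat.eq_zero_or_pos o.D with h0 | h0
    · have : cPoly' p ϖ o.D o.ε = 1 := by
        rw [cPoly', h0]
        simp only [Finset.range_zero, Finset.sum_empty, mul_zero, add_zero]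
        rw [show (∏ j, minpoly ℤ (ϖ j)).coeff 0 = 1 by simpa [h0] using hlead]
        simp
      rw [this, h0, degree_one]; rfl
    · refine le_antisymm ((degree_le_iff_coeff_zero _ _).2 fun i hi => ?_) (le_degree_of_ne_zero ?_)
      · have hi' : o.D < i := by exact_mod_cast hi
        simp only [cPoly', coeff_add, coeff_C, if_neg (show i ≠ 0 by omega), zero_add, coeff_C_mul, finsetSum_coeff,
          coeff_X_pow]
        rw [Finset.sum_eq_zero fun r hr => ?_, mul_zero]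
        rw [if_neg (by have := Finset.mem_range.1 hr; omega), mul_zero]
      · simp only [cPoly', coeff_add, coeff_C, if_neg h0.ne', zero_add, coeff_C_mul, finsetSum_coeff, coeff_X_pow]
        refine mul_ne_zero hε ?_
        rw [Finset.sum_eq_single (o.D - 1) (fun r hr hne => by
          have := Finset.mem_range.1 hr; rw [if_neg (by omega), mul_zero])
          (fun h => absurd (Finset.mem_range.2 (by omega)) h), if_pos (by omega), mul_one,
          show o.D - 1 + 1 = o.D by omega, hlead]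
        simp

end family

section det

/-- Multiplication determinants commute with maps of coefficient rings. -/
theorem det_lmul_map {R S : Type*} [CommRing R] [CommRing S] [Nontrivial R] [Nontrivial S] (f : R →+* S) (P : R[X]) (hP : P.Monic)
    (G : R[X]) :
    f (LinearMap.det (Algebra.lmul R (AdjoinRoot P) (AdjoinRoot.mk P G))) =
      LinearMap.det (Algebra.lmul S (AdjoinRoot (P.map f)) (AdjoinRoot.mk (P.map f) (G.map f))) := by
  classical
  let b := AdjoinRoot.powerBasis' hP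
  let b' := AdjoinRoot.powerBasis' (hP.map f)
  have hd : b'.dim = b.dim := by simp [b, b', hP.natDegree_map]
  let φ : AdjoinRoot P →+* AdjoinRoot (P.map f) := AdjoinRoot.map f P (P.map f) dvd_rfl
  have hφ : ∀ H : R[X], φ (AdjoinRoot.mk P H) = AdjoinRoot.mk (P.map f) (H.map f) := fun H => by
    induction H using Polynomial.induction_on' with
    | add a c ha hc => simp only [map_add, Polynomial.map_add, ha, hc]
    | monomial n c => simp [φ, ← C_mul_X_pow_eq_monomial, AdjoinRoot.map]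
  let B' := b'.basis.reindex (finCongr hd)
  have hB : ∀ i, φ (b.basis i) = B' i := fun i => by
    simp [B', b, b', PowerBasis.basis_eq_pow, φ, AdjoinRoot.map]
  have hrep : ∀ (z : AdjoinRoot P) i, B'.repr (φ z) i = f (b.basis.repr z i) := fun z i => by
    conv_lhs => rw [← b.basis.sum_repr z, map_sum]
    have : ∀ j, φ (b.basis.repr z j • b.basis j) = f (b.basis.repr z j) • B' j := fun j => by
      rw [Algebra.smul_def, Algebra.smul_def, map_mul, hB, AdjoinRoot.algebraMap_eq, AdjoinRoot.algebraMap_eq]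
      congr 1
      simp [φ, AdjoinRoot.map]
    rw [Finset.sum_congr rfl fun j _ => this j, B'.repr_sum_self]
  rw [← hφ, ← LinearMap.det_toMatrix b.basis, ← LinearMap.det_toMatrix B', RingHom.map_det]
  congr 1
  ext i j
  rw [RingHom.mapMatrix_apply, Matrix.map_apply, LinearMap.toMatrix_apply, LinearMap.toMatrix_apply, ← hrep, ← hB]
  simp

/-- The absolute determinant counts a cyclic quotient. -/
theorem natAbs_det_lmul (P : ℤ[X]) (hP : P.Monic) (G : ℤ[X]) :
    (LinearMap.det (Algebra.lmul ℤ (AdjoinRoot P) (AdjoinRoot.mk P G))).natAbs =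
      Nat.card (ℤ[X] ⧸ Ideal.span ({P, G} : Set ℤ[X])) := by
  classical
  set S := AdjoinRoot P
  haveI : Module.Free ℤ S := Module.Free.of_basis (AdjoinRoot.powerBasis' hP).basis
  haveI : Module.Finite ℤ S := Module.Finite.of_basis (AdjoinRoot.powerBasis' hP).basis
  set L := Algebra.lmul ℤ S (AdjoinRoot.mk P G)
  let I : Ideal S := Ideal.span {AdjoinRoot.mk P G}
  let q : ℤ[X] →+* S ⧸ I := (Ideal.Quotient.mk I).comp (AdjoinRoot.mk P)
  have hq : Function.Surjective q := Ideal.Quotient.mk_surjective.comp AdjoinRoot.mk_surjective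
  have hkerq : RingHom.ker q = Ideal.span ({P, G} : Set ℤ[X]) := by
    ext H
    rw [RingHom.mem_ker, Ideal.mem_span_pair]
    show Ideal.Quotient.mk I (AdjoinRoot.mk P H) = 0 ↔ _
    rw [Ideal.Quotient.eq_zero_iff_mem, Ideal.mem_span_singleton']
    constructor
    · rintro ⟨y, hy⟩
      obtain ⟨Y, rfl⟩ := AdjoinRoot.mk_surjective y
      rw [← map_mul, eq_comm, AdjoinRoot.mk_eq_mk] at hy
      obtain ⟨a, ha⟩ := hy
      exact ⟨a, Y, by linear_combination -ha⟩
    · rintro ⟨a, b, rfl⟩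
      exact ⟨AdjoinRoot.mk P b, by simp⟩
  let e0 : (ℤ[X] ⧸ Ideal.span ({P, G} : Set ℤ[X])) ≃ (S ⧸ Ideal.span {AdjoinRoot.mk P G}) :=
    ((Ideal.quotEquivOfEq hkerq.symm).trans (RingHom.quotientKerEquivOfSurjective hq)).toEquiv
  rw [Nat.card_congr e0]
  by_cases hinj : Function.Injective L
  · have e : S ≃ₗ[ℤ] LinearMap.range L := LinearEquiv.ofInjective L hinj
    have h1 := Submodule.natAbs_det_equiv (LinearMap.range L) (LinearEquiv.ofInjective L hinj)
    have h2 : (LinearMap.range L).subtype ∘ₗ AddMonoidHom.toIntLinearMap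
        ((LinearEquiv.ofInjective L hinj : S ≃ₗ[ℤ] LinearMap.range L) : S →+ LinearMap.range L) = L :=
      LinearMap.ext fun x => rfl
    rw [h2] at h1
    rw [h1]
    have hI : LinearMap.range L = (Ideal.span {AdjoinRoot.mk P G}).restrictScalars ℤ := by
      ext x
      rw [Submodule.restrictScalars_mem, Ideal.mem_span_singleton']
      exact ⟨fun ⟨y, hy⟩ => ⟨y, by rw [← hy, mul_comm]; rfl⟩, fun ⟨y, hy⟩ => ⟨y, by rw [← hy, mul_comm]; rfl⟩⟩
    rw [hI]
    exact Nat.card_congr (Submodule.Quotient.restrictScalarsEquiv ℤ _).toEquiv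
  · have h0 : LinearMap.det L = 0 := by
      by_contra h
      exact hinj (LinearMap.ker_eq_bot.1 (not_not.1 (mt LinearMap.det_eq_zero_iff_ker_ne_bot.2 h)))
    rw [h0, Int.natAbs_zero]
    symm
    have hinf : Infinite (S ⧸ (Ideal.span {AdjoinRoot.mk P G}).restrictScalars ℤ) := by
      by_contra hfin
      rw [not_infinite_iff_finite] at hfin
      have hI : LinearMap.range L = (Ideal.span {AdjoinRoot.mk P G}).restrictScalars ℤ := by
        ext x
        rw [Submodule.restrictScalars_mem, Ideal.mem_span_singleton']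
        exact ⟨fun ⟨y, hy⟩ => ⟨y, by rw [← hy, mul_comm]; rfl⟩, fun ⟨y, hy⟩ => ⟨y, by rw [← hy, mul_comm]; rfl⟩⟩
      rw [← hI] at hfin
      haveI := hfin
      haveI : Finite (S ⧸ (LinearMap.range L).toAddSubgroup) := hfin
      apply hinj
      obtain ⟨n, hn, hmul⟩ : ∃ n : ℤ, n ≠ 0 ∧ ∀ x : S, n • x ∈ LinearMap.range L :=
        ⟨(LinearMap.range L).toAddSubgroup.index, by exact_mod_cast AddSubgroup.index_ne_zero_of_finite,
          fun x => by
            rw [natCast_zsmul]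
            exact (LinearMap.range L).toAddSubgroup.nsmul_index_mem x⟩
      intro a c hac
      obtain ⟨y, hy⟩ := hmul 1
      have h1 : (AdjoinRoot.mk P G) * (a - c) = 0 := by
        rw [mul_sub, sub_eq_zero]; exact hac
      have h2 : n • (a - c) = 0 := by
        calc n • (a - c) = (n • (1 : S)) * (a - c) := by rw [smul_mul_assoc, one_mul]
          _ = y * ((AdjoinRoot.mk P G) * (a - c)) := by rw [← hy]; show (AdjoinRoot.mk P G * y) * (a - c) = _; ring
          _ = 0 := by rw [h1, mul_zero]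
      exact sub_eq_zero.1 ((smul_eq_zero.1 h2).resolve_left hn)
    have := hinf
    rw [Nat.card_congr (Submodule.Quotient.restrictScalarsEquiv ℤ (Ideal.span {AdjoinRoot.mk P G})).toEquiv.symm]
    exact Nat.card_eq_zero_of_infinite

/-- A lift of the unit-root factor whose determinant has the least possible valuation. -/
theorem exists_lift_det {p : ℕ} [Fact p.Prime] (P : ℤ[X]) (hP : P.Monic) (hr : (ZMod p)[X]) (hrm : hr.Monic)
    (G0 : (ZMod p)[X]) (hfac : P.map (Int.castRingHom (ZMod p)) = hr * G0) (hcop : IsCoprime hr G0) :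
    ∃ (Q : ℤ[X]) (m : ℕ), Q.map (Int.castRingHom (ZMod p)) = hr ∧ ¬ p ∣ m ∧
      (LinearMap.det (Algebra.lmul ℤ (AdjoinRoot P) (AdjoinRoot.mk P Q))).natAbs = p ^ hr.natDegree * m := by
  set f := Int.castRingHom (ZMod p)
  have hsurj : Function.Surjective (Polynomial.map f) := Polynomial.map_surjective _ ZMod.intCast_surjective
  obtain ⟨Q0, hQ0, hQ0d, hQ0m⟩ := lifts_and_degree_eq_and_monic (f := f) (hsurj hr) hrm
  have hR : (P %ₘ Q0).map f = 0 := by
    rw [map_modByMonic f hQ0m, hQ0, (modByMonic_eq_zero_iff_dvd hrm).2 ⟨G0, hfac⟩]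
  obtain ⟨E, hE⟩ : ∃ E : ℤ[X], P %ₘ Q0 = C (p : ℤ) * E := by
    refine C_dvd_iff_dvd_coeff _ _ |>.2 fun i => ?_
    have := congrArg (fun t : (ZMod p)[X] => t.coeff i) hR
    rw [coeff_map, coeff_zero] at this
    exact (ZMod.intCast_zmod_eq_zero_iff_dvd _ _).1 this
  have hG : (P /ₘ Q0).map f = G0 := by
    have h := congrArg (Polynomial.map f) (modByMonic_add_div P Q0)
    rw [Polynomial.map_add, hR, zero_add, Polynomial.map_mul, hQ0, hfac] at h
    exact mul_left_cancel₀ hrm.ne_zero h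
  obtain ⟨u, v, huv⟩ := hcop
  obtain ⟨c, hc, hcd⟩ := mem_lifts_and_degree_eq (f := f) (hsurj (((E.map f - 1) * v) %ₘ hr))
  let Q := Q0 + C (p : ℤ) * c
  have hcdeg : (C (p : ℤ) * c).degree < Q0.degree := by
    rw [degree_C_mul (by exact_mod_cast (Fact.out : p.Prime).ne_zero), hcd, hQ0d]
    exact degree_modByMonic_lt _ hrm
  have hQm : Q.Monic := hQ0m.add_of_left hcdeg
  have hQf : Q.map f = hr := by simp [Q, hQ0, f]
  have hQd : Q.natDegree = hr.natDegree := by rw [← hQf, hQm.natDegree_map]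
  let e := E - c * (P /ₘ Q0)
  have hP' : P = Q * (P /ₘ Q0) + C (p : ℤ) * e := by
    conv_lhs => rw [← modByMonic_add_div P Q0, hE]
    simp only [Q, e]; ring
  have he : hr ∣ e.map f - 1 := by
    simp only [e, Polynomial.map_sub, Polynomial.map_mul, hc, hG]
    refine ⟨(E.map f - 1) * u + G0 * (((E.map f - 1) * v) /ₘ hr), ?_⟩
    have h1 := modByMonic_add_div ((E.map f - 1) * v) hr
    linear_combination -G0 * h1 - (E.map f - 1) * huv
  set d := LinearMap.det (Algebra.lmul ℤ (AdjoinRoot Q) (AdjoinRoot.mk Q e))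
  refine ⟨Q, d.natAbs, hQf, fun hdvd => ?_, ?_⟩
  · have h := det_lmul_map f Q hQm e
    haveI : Nontrivial (ZMod p) := inferInstance
    have h1 : AdjoinRoot.mk (Q.map f) (e.map f) = 1 := by
      rw [← sub_eq_zero, ← map_one (AdjoinRoot.mk (Q.map f)), ← map_sub, AdjoinRoot.mk_eq_zero, hQf]
      exact he
    rw [h1, map_one, map_one] at h
    have h0 : f d = 0 := (ZMod.intCast_zmod_eq_zero_iff_dvd _ _).2 (Int.natCast_dvd.2 hdvd)
    rw [h0] at h
    exact zero_ne_one h
  · rw [natAbs_det_lmul P hP Q, show ({P, Q} : Set ℤ[X]) = {Q, P} from Set.pair_comm P Q, ← natAbs_det_lmul Q hQm P]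
    have : AdjoinRoot.mk Q P = (p : ℤ) • AdjoinRoot.mk Q e := by
      conv_lhs => rw [hP']
      simp [Algebra.smul_def]
    haveI hfreeQ : Module.Free ℤ (AdjoinRoot Q) := Module.Free.of_basis (AdjoinRoot.powerBasis' hQm).basis
    rw [this, map_smul, LinearMap.det_smul, Int.natAbs_mul, Int.natAbs_pow, Int.natAbs_natCast,
      PowerBasis.finrank (AdjoinRoot.powerBasis' hQm), AdjoinRoot.powerBasis'_dim, hQd]

end det

end Groth.Agent.MinOrd22
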