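import Groth.Agent.Lib.MinOrd22.FrobTate
import Groth.Agent.Lib.MinOrd22.Cyclic
import Groth.Agent.Lib.TateTors22.TateRank
import Groth.Agent.Lib.TateTors22.FiniteIff
import Groth.Agent.Lib.Index22.Index
import Mathlib.FieldTheory.Minpoly.IsIntegrallyClosed
import Mathlib.LinearAlgebra.Charpoly.Basic

/-!
# Abelian varieties with minimal endomorphism ring over a prime field: the Tate module
-/

universe u

open CategoryTheory Limits MonoidalCategory CartesianMonoidalCategory AlgebraicGeometry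
open scoped MonObj GrpObj
open Polynomial (aeval)

set_option linter.style.haveILetI false
set_option linter.unusedSectionVars false
set_option maxHeartbeats 1000000
set_option synthInstance.maxHeartbeats 400000
set_option backward.isDefEq.respectTransparency false

noncomputable section

namespace Groth.Agent.MinOrd22

variable {J : Type} [Fintype J] {K : J → Type} [∀ j, Field (K j)] [∀ j, CharZero (K j)] {ϖ : ∀ j, K j}

theorem aeval_ringHom {R S : Type*} [Ring R] [Ring S] [Algebra ℤ R] [Algebra ℤ S] (f : R →+* S) (a : R)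
    (Q : Polynomial ℤ) : aeval (f a) Q = f (aeval a Q) := by
  induction Q using Polynomial.induction_on' with
  | add p q hp hq => simp [hp, hq]
  | monomial n c => simp [Polynomial.aeval_monomial]

/-- The product of the minimal polynomials. -/
def PP (ϖ : ∀ j, K j) : Polynomial ℤ := ∏ j, minpoly ℤ (ϖ j)

theorem monic_PP (hint : ∀ j, IsIntegral ℤ (ϖ j)) : (PP ϖ).Monic :=
  Polynomial.monic_prod_of_monic _ _ fun j _ => minpoly.monic (hint j)

/-- Small degree polynomials are detected by the family. -/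
theorem eq_zero_of_aeval (hint : ∀ j, IsIntegral ℤ (ϖ j)) (hinj : ∀ i j, minpoly ℤ (ϖ i) = minpoly ℤ (ϖ j) → i = j)
    (Q : Polynomial ℤ) (hdeg : Q.degree < (PP ϖ).degree) (h : ∀ j, aeval (ϖ j) Q = 0) : Q = 0 := by
  let c : ℤ →+* ℚ := algebraMap ℤ ℚ
  have hq : ∀ j, minpoly ℚ (ϖ j) = (minpoly ℤ (ϖ j)).map c := fun j =>
    minpoly.isIntegrallyClosed_eq_field_fractions ℚ (K j) (hint j)
  have hdvd : ∏ j, (minpoly ℤ (ϖ j)).map c ∣ Q.map c := by
    refine Finset.prod_dvd_of_coprime ?_ fun j _ => ?_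
    · intro i _ j _ hij
      have hirr : ∀ j, Irreducible ((minpoly ℤ (ϖ j)).map c) := fun j =>
        hq j ▸ minpoly.irreducible (hint j).tower_top
      refine ((hirr i).coprime_iff_not_dvd).2 fun hd => hij (hinj i j (Polynomial.map_injective c
        (RingHom.injective_int _) ?_))
      exact Polynomial.eq_of_monic_of_associated ((minpoly.monic (hint i)).map c) ((minpoly.monic (hint j)).map c)
        ((hirr i).associated_of_dvd (hirr j) hd)
    · rw [← hq]
      exact minpoly.dvd ℚ _ (by rw [Polynomial.aeval_map_algebraMap]; exact h j)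
  by_contra hne
  have hle := Polynomial.degree_le_of_dvd hdvd ((Polynomial.map_ne_zero_iff (RingHom.injective_int _)).2 hne)
  rw [← Polynomial.map_prod, Polynomial.degree_map_eq_of_injective (RingHom.injective_int _),
    Polynomial.degree_map_eq_of_injective (RingHom.injective_int _)] at hle
  exact absurd hdeg (not_lt.2 hle)

theorem varpi_ne_zero {p : ℕ} [Fact p.Prime] (hint : ∀ j, IsIntegral ℤ (ϖ j))
    (hweil : ∀ j, ∀ z ∈ (minpoly ℤ (ϖ j)).aroots ℂ, ‖z‖ = Real.sqrt p) (j : J) : ϖ j ≠ 0 := fun h => by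
  have hm : (0 : ℂ) ∈ (minpoly ℤ (ϖ j)).aroots ℂ := by
    rw [Polynomial.mem_aroots]
    refine ⟨(minpoly.monic (hint j)).ne_zero, ?_⟩
    rw [Polynomial.aeval_def, Polynomial.eval₂_at_zero]
    have h0 : (minpoly ℤ (ϖ j)).coeff 0 = 0 := by
      have hQ : ∀ Q : Polynomial ℤ, aeval (ϖ j) Q = algebraMap ℤ (K j) (Q.coeff 0) := fun Q => by
        rw [h, Polynomial.aeval_def, Polynomial.eval₂_at_zero]
      have h1 := (hQ _).symm.trans (minpoly.aeval ℤ (ϖ j))
      exact (algebraMap ℤ (K j)).injective_int (by rw [map_zero]; exact h1)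
    rw [h0, map_zero]
  have h2 := hweil j 0 hm
  rw [norm_zero] at h2
  exact (Real.sqrt_ne_zero'.2 (by exact_mod_cast (Fact.out : p.Prime).pos)) h2.symm

variable {k : Type u} [Field k] [Finite k] {p : ℕ} [Fact p.Prime] (hk : Nat.card k = p)
  (hint : ∀ j, IsIntegral ℤ (ϖ j))
  (Ω : Type u) [Field Ω] [Algebra k Ω] [IsAlgClosure k Ω] (l : ℕ) [Fact l.Prime]

/-- The minimal polynomial over `ℤ_l`. -/
def Pl (ϖ : ∀ j, K j) : Polynomial ℤ_[l] := (PP ϖ).map (Int.castRingHom ℤ_[l])

include hint in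
theorem monic_Pl : (Pl l ϖ).Monic := (monic_PP hint).map _

/-- The action of the order on the Tate module. -/
def act {X : Over (Spec (CommRingCat.of k))} [GrpObj X] [IsCommMonObj X] (a : EndAV.End X)
    (ha : aeval a (PP ϖ) = 0) :
    AdjoinRoot (Pl l ϖ) →ₐ[ℤ_[l]] Module.End ℤ_[l] (AbDual.TateMod X l (SGA7.pt (K := k) Ω)) :=
  Ideal.Quotient.liftₐ (Ideal.span {Pl l ϖ}) (aeval (EndAV.End.tateRep l (SGA7.pt (K := k) Ω) a)) fun q hq => by
    obtain ⟨c, rfl⟩ := Ideal.mem_span_singleton'.1 hq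
    rw [map_mul, show aeval (EndAV.End.tateRep l (SGA7.pt (K := k) Ω) a) (Pl l ϖ) = 0 by
      rw [Pl, show Int.castRingHom ℤ_[l] = algebraMap ℤ ℤ_[l] from RingHom.ext_int _ _, Polynomial.aeval_map_algebraMap]
      rw [aeval_ringHom, ha, map_zero], mul_zero]

theorem act_root {X : Over (Spec (CommRingCat.of k))} [GrpObj X] [IsCommMonObj X] (a : EndAV.End X)
    (ha : aeval a (PP ϖ) = 0) :
    act Ω l a ha (AdjoinRoot.root _) = EndAV.End.tateRep l (SGA7.pt (K := k) Ω) a :=
  Polynomial.aeval_X _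

/-- An additive map commuting with the generator commutes with the order. -/
theorem act_comm {X Y : Over (Spec (CommRingCat.of k))} [GrpObj X] [IsCommMonObj X] [GrpObj Y] [IsCommMonObj Y]
    (a : EndAV.End X) (ha : aeval a (PP ϖ) = 0) (b : EndAV.End Y) (hb : aeval b (PP ϖ) = 0)
    (g : AbDual.TateMod X l (SGA7.pt (K := k) Ω) →ₗ[ℤ_[l]] AbDual.TateMod Y l (SGA7.pt (K := k) Ω))
    (hg : g ∘ₗ EndAV.End.tateRep l (SGA7.pt (K := k) Ω) a = EndAV.End.tateRep l (SGA7.pt (K := k) Ω) b ∘ₗ g)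
    (r : AdjoinRoot (Pl l ϖ)) (x : AbDual.TateMod X l (SGA7.pt (K := k) Ω)) :
    g (act Ω l a ha r x) = act Ω l b hb r (g x) := by
  induction r using AdjoinRoot.induction_on with
  | ih Q =>
    induction Q using Polynomial.induction_on' generalizing x with
    | add p q hp hq => simp only [map_add, LinearMap.add_apply, hp, hq]
    | monomial n c =>
      rw [← Polynomial.C_mul_X_pow_eq_monomial, map_mul, map_pow, AdjoinRoot.mk_X, AdjoinRoot.mk_C, map_mul, map_mul,
        map_pow, map_pow, act_root, act_root, ← AdjoinRoot.algebraMap_eq, AlgHom.commutes, AlgHom.commutes,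
        Module.End.mul_apply, Module.End.mul_apply, Module.algebraMap_end_apply, Module.algebraMap_end_apply,
        map_smul]
      congr 1
      induction n generalizing x with
      | zero => simp
      | succ n ih =>
        rw [pow_succ, pow_succ, Module.End.mul_apply, Module.End.mul_apply, ih]
        exact congrArg _ (LinearMap.congr_fun hg x)

variable {Aw : Over (Spec (CommRingCat.of k))} [GrpObj Aw] [IsCommMonObj Aw] [IsProper Aw.hom]
  [GeometricallyIntegral Aw.hom] {πw : Aw ⟶ Aw} [IsMonHom πw] (hπw : IsPFrob p πw)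
  (hweil : ∀ j, ∀ z ∈ (minpoly ℤ (ϖ j)).aroots ℂ, ‖z‖ = Real.sqrt p)
  (hinj : ∀ i j, minpoly ℤ (ϖ i) = minpoly ℤ (ϖ j) → i = j)
  (ρw : (MvPolynomial.aeval ![fun j => ϖ j, fun j => (p : K j) / ϖ j] : MvPolynomial (Fin 2) ℤ →ₐ[ℤ] ((j : J) → K j)).range ≃+* EndAV.End Aw)
  (hρw : ρw ⟨(MvPolynomial.aeval ![fun j => ϖ j, fun j => (p : K j) / ϖ j] : MvPolynomial (Fin 2) ℤ →ₐ[ℤ] ((j : J) → K j)) (MvPolynomial.X 0), AlgHom.mem_range_self _ _⟩ = EndAV.End.of πw)
  (hl : (l : k) ≠ 0)

include ρw hρw in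
theorem aeval_piw : aeval (EndAV.End.of πw) (PP ϖ) = 0 := by
  rw [← hρw]
  refine ((aeval_ringHom ρw.toRingHom _ (PP ϖ)).trans ?_)
  show ρw _ = 0
  rw [← map_zero ρw]
  refine congrArg _ (Subtype.ext ?_)
  show ((aeval _ (PP ϖ) : ↥(MvPolynomial.aeval ![fun j => ϖ j, fun j => (p : K j) / ϖ j] : MvPolynomial (Fin 2) ℤ →ₐ[ℤ] ((j : J) → K j)).range) : (j : J) → K j) = 0
  rw [← Subalgebra.coe_val, ← Polynomial.aeval_algHom_apply]
  ext j
  show (Pi.evalAlgHom ℤ K j) (aeval _ (PP ϖ)) = 0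
  rw [← Polynomial.aeval_algHom_apply]
  show aeval ((MvPolynomial.aeval ![fun j => ϖ j, fun j => (p : K j) / ϖ j] : MvPolynomial (Fin 2) ℤ →ₐ[ℤ] ((j : J) → K j)) (MvPolynomial.X 0) j) (PP ϖ) = 0
  rw [MvPolynomial.aeval_X, PP, map_prod]
  exact Finset.prod_eq_zero (Finset.mem_univ j) (minpoly.aeval ℤ _)

include hk hint hπw hweil hinj ρw hρw hl in
/-- The Tate module of the distinguished variety is free of rank one over the order. -/
theorem exists_generator :
    ∃ (hw : aeval (EndAV.End.of πw) (PP ϖ) = 0) (t : AbDual.TateMod Aw l (SGA7.pt (K := k) Ω)),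
      Function.Bijective (fun r => act Ω l (EndAV.End.of πw) hw r t) ∧
      ∀ f : EndAV.End Aw, ∃ r, act Ω l (EndAV.End.of πw) hw r = EndAV.End.tateRep l (SGA7.pt (K := k) Ω) f := by
  haveI : IsAlgClosed Ω := IsAlgClosure.isAlgClosed k
  haveI := TateTors22.free_tateMod (A := Aw) (K := Ω) l hl
  haveI := TateTors22.finite_tateMod (A := Aw) (K := Ω) l hl
  have hw := aeval_piw ρw hρw
  let φ := act Ω l (EndAV.End.of πw) hw
  let N := (PP ϖ).natDegree
  -- faithful
  have hli : LinearIndependent ℤ fun i : Fin N => (EndAV.End.of πw ^ (i : ℕ) : EndAV.End Aw) := by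
    rw [Fintype.linearIndependent_iff]
    intro g hg i
    let Q : Polynomial ℤ := ∑ i : Fin N, Polynomial.monomial (i : ℕ) (g i)
    have hQ0 : Q = 0 := by
      refine eq_zero_of_aeval hint hinj Q ?_ fun j => ?_
      · rw [Polynomial.degree_eq_natDegree (monic_PP hint).ne_zero]
        exact (Polynomial.degree_sum_le _ _).trans_lt ((Finset.sup_lt_iff (WithBot.bot_lt_coe _)).2 fun i _ =>
          (Polynomial.degree_monomial_le _ _).trans_lt (WithBot.coe_lt_coe.2 i.isLt))
      · rw [← hρw] at hg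
        simp only [← map_pow, ← map_zsmul ρw, ← map_sum] at hg
        have hg' := congrArg (fun z : ↥(MvPolynomial.aeval ![fun j => ϖ j, fun j => (p : K j) / ϖ j] : MvPolynomial (Fin 2) ℤ →ₐ[ℤ] ((j : J) → K j)).range => (z : (j : J) → K j) j)
          (ρw.injective (hg.trans (map_zero ρw).symm))
        simp only [AddSubmonoidClass.coe_finsetSum, Finset.sum_apply, SetLike.val_smul, SubmonoidClass.coe_pow,
          Pi.smul_apply, Pi.pow_apply, ZeroMemClass.coe_zero, Pi.zero_apply] at hg'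
        simpa [Q, Algebra.smul_def] using hg'
    have := congrArg (fun q : Polynomial ℤ => q.coeff (i : ℕ)) hQ0
    simpa [Q, Polynomial.coeff_monomial, Fin.val_inj] using this
  have hliT := TateTors22.linearIndependent_tateMap Ω l hl (fun i : Fin N => (EndAV.End.of πw ^ (i : ℕ) : EndAV.End Aw)) hli
  let pb := AdjoinRoot.powerBasis' (monic_Pl hint l)
  have hφpow : ∀ i : ℕ, φ (AdjoinRoot.root _ ^ i) = EndAV.End.tateRep l (SGA7.pt (K := k) Ω) (EndAV.End.of πw ^ i) :=
    fun i => by rw [map_pow, map_pow, act_root]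
  have hdim : pb.dim = N := by
    rw [AdjoinRoot.powerBasis'_dim, Pl, (monic_PP hint).natDegree_map]
  have hφinj : Function.Injective φ := by
    have h2 : LinearIndependent ℤ_[l] (φ.toLinearMap ∘ pb.basis) := by
      refine ((linearIndependent_equiv' (finCongr hdim) ?_).2 hliT)
      funext i
      show EndAV.Hom.tateMap l _ (EndAV.End.of πw ^ (i : ℕ)) = φ (pb.basis i)
      rw [PowerBasis.basis_eq_pow, AdjoinRoot.powerBasis'_gen, hφpow]
      rfl
    refine (injective_iff_map_eq_zero φ).2 fun r hr => ?_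
    have h3 : ∑ i, pb.basis.repr r i • φ.toLinearMap (pb.basis i) = 0 := by
      simp only [← map_smul, ← map_sum, pb.basis.sum_repr]
      exact hr
    exact pb.basis.ext_elem fun i => (Fintype.linearIndependent_iff.1 h2 _ h3 i).trans (by simp)
  -- the endomorphisms act through the order
  let S : Subalgebra ℤ_[l] (Module.End ℤ_[l] (AbDual.TateMod Aw l (SGA7.pt (K := k) Ω))) := φ.range
  have hdet : IsUnit (EndAV.End.tateRep l (SGA7.pt (K := k) Ω) (EndAV.End.of πw)) := by
    rw [Module.End.isUnit_iff]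
    have heq : ∀ z, EndAV.End.tateRep l (SGA7.pt (K := k) Ω) (EndAV.End.of πw) z = galT Ω l Aw (frobAut (k := k) Ω) z :=
      fun z => AbDual.TateMod.ext fun n => congrArg Additive.ofMul (galAct_frobAut hk Ω hπw _).symm
    have hinv : ∀ τ z, galT Ω l Aw τ⁻¹ (galT Ω l Aw τ z) = z := fun τ z => AbDual.TateMod.ext fun n =>
      congrArg Additive.ofMul (by
        show SGA7.specAut τ⁻¹ ≫ SGA7.specAut τ ≫ TateSub22.co Ω l n z = TateSub22.co Ω l n z
        rw [← Category.assoc]
        convert Category.id_comp _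
        ext1
        show Spec.map _ ≫ Spec.map _ = 𝟙 _
        rw [← Spec.map_comp, ← Spec.map_id]
        congr 1
        ext x
        exact τ.symm_apply_apply x)
    refine ⟨fun a b h => ?_, fun b => ⟨galT Ω l Aw (frobAut (k := k) Ω)⁻¹ b, ?_⟩⟩
    · rw [← hinv (frobAut (k := k) Ω) a, ← heq, h, heq, hinv]
    · rw [heq]
      conv_lhs => rw [← inv_inv (frobAut (k := k) Ω)]
      rw [inv_inv]
      have := hinv (frobAut (k := k) Ω)⁻¹ b
      rwa [inv_inv] at this
  have hrange : ∀ f : EndAV.End Aw, EndAV.End.tateRep l (SGA7.pt (K := k) Ω) f ∈ S := by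
    intro f
    obtain ⟨⟨_, Q, rfl⟩, rfl⟩ := ρw.surjective f
    induction Q using MvPolynomial.induction_on with
    | C c =>
      rw [show (⟨_, _⟩ : ↥(MvPolynomial.aeval ![fun j => ϖ j, fun j => (p : K j) / ϖ j] : MvPolynomial (Fin 2) ℤ →ₐ[ℤ] ((j : J) → K j)).range) = (c : ↥(MvPolynomial.aeval ![fun j => ϖ j, fun j => (p : K j) / ϖ j] : MvPolynomial (Fin 2) ℤ →ₐ[ℤ] ((j : J) → K j)).range) from
        Subtype.ext (by simp [MvPolynomial.aeval_C]), map_intCast, map_intCast]
      exact intCast_mem S c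
    | add a b ha hb =>
      have e : ∀ h₁ h₂ h₃, (⟨MvPolynomial.aeval ![fun j => ϖ j, fun j => (p : K j) / ϖ j] (a + b), h₁⟩ : ↥(MvPolynomial.aeval ![fun j => ϖ j, fun j => (p : K j) / ϖ j] : MvPolynomial (Fin 2) ℤ →ₐ[ℤ] ((j : J) → K j)).range) = ⟨MvPolynomial.aeval ![fun j => ϖ j, fun j => (p : K j) / ϖ j] a, h₂⟩ + ⟨MvPolynomial.aeval ![fun j => ϖ j, fun j => (p : K j) / ϖ j] b, h₃⟩ :=
        fun _ _ _ => Subtype.ext (map_add (MvPolynomial.aeval _) a b)
      refine (congrArg (fun z => EndAV.End.tateRep l (SGA7.pt (K := k) Ω) (ρw z) ∈ S)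
        (e _ (AlgHom.mem_range_self _ a) (AlgHom.mem_range_self _ b))).mpr ?_
      rw [map_add, map_add]
      exact add_mem ha hb
    | mul_X a i ha =>
      have e : ∀ h₁ h₂ h₃, (⟨MvPolynomial.aeval ![fun j => ϖ j, fun j => (p : K j) / ϖ j] (a * MvPolynomial.X i), h₁⟩ : ↥(MvPolynomial.aeval ![fun j => ϖ j, fun j => (p : K j) / ϖ j] : MvPolynomial (Fin 2) ℤ →ₐ[ℤ] ((j : J) → K j)).range) = ⟨MvPolynomial.aeval ![fun j => ϖ j, fun j => (p : K j) / ϖ j] a, h₂⟩ * ⟨MvPolynomial.aeval ![fun j => ϖ j, fun j => (p : K j) / ϖ j] (MvPolynomial.X i), h₃⟩ :=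
        fun _ _ _ => Subtype.ext (map_mul (MvPolynomial.aeval _) a _)
      refine (congrArg (fun z => EndAV.End.tateRep l (SGA7.pt (K := k) Ω) (ρw z) ∈ S)
        (e _ (AlgHom.mem_range_self _ a) (AlgHom.mem_range_self _ (MvPolynomial.X i)))).mpr ?_
      rw [map_mul, map_mul]
      refine mul_mem ha ?_
      have h0 : EndAV.End.tateRep l (SGA7.pt (K := k) Ω) (EndAV.End.of πw) ∈ S := ⟨_, act_root Ω l _ hw⟩
      match i with
      | 0 => rw [hρw]; exact h0
      | 1 =>
        obtain ⟨u, hu⟩ := hdet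
        have hFV : EndAV.End.tateRep l (SGA7.pt (K := k) Ω) (EndAV.End.of πw) *
            EndAV.End.tateRep l (SGA7.pt (K := k) Ω) (ρw ⟨_, AlgHom.mem_range_self _ (MvPolynomial.X 1)⟩) = p := by
          rw [← map_mul, ← hρw, ← map_mul]
          rw [show (⟨_, AlgHom.mem_range_self _ (MvPolynomial.X 0)⟩ : ↥(MvPolynomial.aeval ![fun j => ϖ j, fun j => (p : K j) / ϖ j] : MvPolynomial (Fin 2) ℤ →ₐ[ℤ] ((j : J) → K j)).range) * ⟨_, AlgHom.mem_range_self _ (MvPolynomial.X 1)⟩ = (p : ↥(MvPolynomial.aeval ![fun j => ϖ j, fun j => (p : K j) / ϖ j] : MvPolynomial (Fin 2) ℤ →ₐ[ℤ] ((j : J) → K j)).range) from Subtype.ext (by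
            funext j
            simp [MvPolynomial.aeval_X, mul_div_cancel₀ _ (varpi_ne_zero hint hweil j)]), map_natCast, map_natCast]
        rw [← hu] at hFV h0
        have huinv : (↑u⁻¹ : Module.End ℤ_[l] (AbDual.TateMod Aw l (SGA7.pt (K := k) Ω))) ∈ S := by
          have hint' : IsIntegral ℤ_[l] (↑u : Module.End ℤ_[l] (AbDual.TateMod Aw l (SGA7.pt (K := k) Ω))) :=
            Algebra.IsIntegral.isIntegral _
          have hc0 : IsUnit ((↑u : Module.End ℤ_[l] (AbDual.TateMod Aw l (SGA7.pt (K := k) Ω))).charpoly.coeff 0) := by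
            have hd := LinearMap.det_eq_sign_charpoly_coeff (↑u : Module.End ℤ_[l] (AbDual.TateMod Aw l (SGA7.pt (K := k) Ω)))
            have hud : IsUnit (LinearMap.det (↑u : Module.End ℤ_[l] (AbDual.TateMod Aw l (SGA7.pt (K := k) Ω)))) :=
              u.isUnit.map LinearMap.det
            rw [hd] at hud
            exact isUnit_of_mul_isUnit_right hud
          obtain ⟨c, hc⟩ := hc0
          let G := (↑u : Module.End ℤ_[l] (AbDual.TateMod Aw l (SGA7.pt (K := k) Ω))).charpoly
          have hG := LinearMap.aeval_self_charpoly (↑u : Module.End ℤ_[l] (AbDual.TateMod Aw l (SGA7.pt (K := k) Ω)))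
          change aeval _ G = 0 at hG
          change _ = G.coeff 0 at hc
          rw [← Polynomial.X_mul_divX_add G, map_add, map_mul, Polynomial.aeval_X, Polynomial.aeval_C, ← hc,
            add_eq_zero_iff_eq_neg] at hG
          have h2 : (↑u⁻¹ : Module.End ℤ_[l] (AbDual.TateMod Aw l (SGA7.pt (K := k) Ω))) =
              -((↑c⁻¹ : ℤ_[l]) • aeval (↑u : Module.End ℤ_[l] (AbDual.TateMod Aw l (SGA7.pt (K := k) Ω))) G.divX) := by
            refine (u.eq_inv_of_mul_eq_one_left ?_).symm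
            rw [mul_neg, mul_smul_comm, hG, smul_neg, neg_neg, Algebra.smul_def, ← map_mul, c.inv_mul, map_one]
          rw [h2]
          refine neg_mem (S.smul_mem ?_ _)
          obtain ⟨r0, hr0⟩ := h0
          change φ r0 = _ at hr0
          rw [← hr0, Polynomial.aeval_algHom_apply]
          exact ⟨_, rfl⟩
        have : EndAV.End.tateRep l (SGA7.pt (K := k) Ω) (ρw ⟨_, AlgHom.mem_range_self _ (MvPolynomial.X 1)⟩) =
            ↑u⁻¹ * (p : Module.End ℤ_[l] (AbDual.TateMod Aw l (SGA7.pt (K := k) Ω))) := by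
          rw [← hFV, Units.inv_mul_cancel_left]
        rw [this]
        exact mul_mem huinv (natCast_mem S p)
  obtain ⟨t, ht⟩ := exists_cyclic (monic_Pl hint l) φ (l : ℤ_[l]) (by exact_mod_cast (Fact.out : l.Prime).ne_zero)
    PadicInt.maximalIdeal_eq_span_p hφinj fun g hg => by
      have hc : g ∘ₗ EndAV.End.tateRep l (SGA7.pt (K := k) Ω) (EndAV.End.of πw) =
          EndAV.End.tateRep l (SGA7.pt (K := k) Ω) (EndAV.End.of πw) ∘ₗ g := by
        have := hg (AdjoinRoot.root _)
        rwa [act_root] at this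
      have hm := mem_span_frob hk Ω l hl hπw hπw g hc
      have hle : Submodule.span ℤ_[l] (Set.range (EndAV.Hom.tateMap (A := Aw) (B := Aw) l (SGA7.pt (K := k) Ω))) ≤
          Subalgebra.toSubmodule S := Submodule.span_le.2 (Set.range_subset_iff.2 fun f => hrange f)
      obtain ⟨r, hr⟩ := hle hm
      exact ⟨r, hr⟩
  exact ⟨hw, t, ht, fun f => hrange f⟩

end Groth.Agent.MinOrd22

end
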