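import Groth.Agent.Lib.MinOrd22.Essential
import Mathlib.Algebra.Module.ULift
import Mathlib.LinearAlgebra.FreeModule.PID

/-!
# The subvariety attached to a subfamily
-/

universe u

open CategoryTheory Limits MonoidalCategory CartesianMonoidalCategory AlgebraicGeometry
open scoped MonObj GrpObj

set_option linter.style.haveILetI false
set_option linter.unusedSectionVars false
set_option maxHeartbeats 2000000
set_option synthInstance.maxHeartbeats 400000
set_option backward.isDefEq.respectTransparency false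

noncomputable section

namespace Groth.Agent.MinOrd22

open AVQuotH1 (AV unitPt)

variable {J : Type} [Fintype J] {K : J → Type} [∀ j, Field (K j)] [∀ j, CharZero (K j)] {ϖ : ∀ j, K j}

/-- A polynomial in `x` and `y` with `x y = p` becomes a polynomial in `x` after multiplying by a power of `x`. -/
theorem exists_clear (p : ℕ) (Q : MvPolynomial (Fin 2) ℤ) :
    ∃ (a : ℕ) (G : Polynomial ℤ), ∀ {A : Type} [CommRing A] (x y : A), x * y = (p : A) →
      x ^ a * MvPolynomial.aeval ![x, y] Q = Polynomial.aeval x G := by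
  induction Q using MvPolynomial.induction_on with
  | C c => exact ⟨0, Polynomial.C c, fun x y _ => by simp⟩
  | add P R hP hR =>
    obtain ⟨a, G, hG⟩ := hP
    obtain ⟨b, H, hH⟩ := hR
    refine ⟨a + b, Polynomial.X ^ b * G + Polynomial.X ^ a * H, fun x y h => ?_⟩
    simp only [map_add, map_mul, map_pow, Polynomial.aeval_X, ← hG x y h, ← hH x y h]
    ring
  | mul_X P i hP =>
    obtain ⟨a, G, hG⟩ := hP
    fin_cases i
    · refine ⟨a, G * Polynomial.X, fun x y h => ?_⟩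
      simp only [map_mul, MvPolynomial.aeval_X, Polynomial.aeval_X, ← hG x y h]
      simp
      ring
    · refine ⟨a + 1, G * Polynomial.C (p : ℤ), fun x y h => ?_⟩
      simp only [map_mul, MvPolynomial.aeval_X, Polynomial.aeval_C, ← hG x y h]
      simp [← h]
      ring

/-- The product of the minimal polynomials divides every integral polynomial vanishing at the family. -/
theorem PP_dvd (hint : ∀ j, IsIntegral ℤ (ϖ j)) (hinj : ∀ i j, minpoly ℤ (ϖ i) = minpoly ℤ (ϖ j) → i = j)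
    (G : Polynomial ℤ) (h : ∀ j, Polynomial.aeval (ϖ j) G = 0) : PP ϖ ∣ G := by
  have hm := monic_PP hint
  rw [← Polynomial.modByMonic_eq_zero_iff_dvd hm]
  refine eq_zero_of_aeval hint hinj _ (Polynomial.degree_modByMonic_lt G hm) fun j => ?_
  rw [Polynomial.aeval_modByMonic_eq_self_of_root (by
    rw [PP, map_prod]; exact Finset.prod_eq_zero (Finset.mem_univ j) (minpoly.aeval ℤ _))]
  exact h j

theorem varpi_mul_div {p : ℕ} [Fact p.Prime] (hint : ∀ j, IsIntegral ℤ (ϖ j))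
    (hweil : ∀ j, ∀ z ∈ (minpoly ℤ (ϖ j)).aroots ℂ, ‖z‖ = Real.sqrt p) :
    (fun j => ϖ j) * (fun j => (p : K j) / ϖ j) = ((p : ℕ) : (j : J) → K j) := by
  ext j
  show ϖ j * ((p : K j) / ϖ j) = _
  rw [mul_div_cancel₀ _ (varpi_ne_zero hint hweil j)]
  simp

variable {k : Type u} [Field k] [Finite k] {p : ℕ} [Fact p.Prime] (hk : Nat.card k = p)
  (hint : ∀ j, IsIntegral ℤ (ϖ j))
  {Aw : Over (Spec (CommRingCat.of k))} [GrpObj Aw] [IsCommMonObj Aw] [IsProper Aw.hom]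
  [GeometricallyIntegral Aw.hom] {πw : Aw ⟶ Aw} [IsMonHom πw] (hπw : IsPFrob p πw)
  (hweil : ∀ j, ∀ z ∈ (minpoly ℤ (ϖ j)).aroots ℂ, ‖z‖ = Real.sqrt p)
  (hinj : ∀ i j, minpoly ℤ (ϖ i) = minpoly ℤ (ϖ j) → i = j)
  (ρw : (MvPolynomial.aeval ![fun j => ϖ j, fun j => (p : K j) / ϖ j] : MvPolynomial (Fin 2) ℤ →ₐ[ℤ] ((j : J) → K j)).range ≃+* EndAV.End Aw)
  (hρw : ρw ⟨(MvPolynomial.aeval ![fun j => ϖ j, fun j => (p : K j) / ϖ j] : MvPolynomial (Fin 2) ℤ →ₐ[ℤ] ((j : J) → K j)) (MvPolynomial.X 0), AlgHom.mem_range_self _ _⟩ = EndAV.End.of πw)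
  (o : OrderData p ϖ)
  {J' : Type} [Fintype J'] (emb : J' → J) (hemb : Function.Injective emb)

include hemb in
theorem PP_sub_dvd : PP (fun j' => ϖ (emb j')) ∣ PP ϖ := by
  classical
  unfold PP
  rw [show (∏ j', minpoly ℤ (ϖ (emb j'))) = ∏ j ∈ Finset.univ.image emb, minpoly ℤ (ϖ j) from
    (Finset.prod_image (f := fun j => minpoly ℤ (ϖ j)) fun a _ b _ h => hemb h).symm]
  exact Finset.prod_dvd_prod_of_subset _ _ _ (Finset.subset_univ _)

theorem aeval_zero_of_dvd {S : Type*} [Ring S] [Algebra ℤ S] {a : S} {P Q : Polynomial ℤ} (h : P ∣ Q)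
    (h0 : Polynomial.aeval a P = 0) : Polynomial.aeval a Q = 0 := by
  obtain ⟨R, rfl⟩ := h
  rw [map_mul, h0, zero_mul]

include hk hπw in
/-- Cancelling a power of the Frobenius. -/
theorem cancel_piw_pow (B : AV k) {πB : B.X ⟶ B.X} [IsMonHom πB] (hπB : IsPFrob p πB) :
    ∀ (a : ℕ) (φ : EndAV.Hom B.X Aw), φ ≫ ((EndAV.End.of πw ^ a : EndAV.End Aw) : EndAV.Hom Aw Aw) = 0 → φ = 0 := by
  intro a
  induction a with
  | zero => intro φ h; rw [pow_zero] at h; exact (Category.comp_id φ).symm.trans h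
  | succ a ih =>
    intro φ h
    rw [pow_succ] at h
    have h1 : (φ ≫ (EndAV.End.of πw : EndAV.Hom Aw Aw)) ≫ ((EndAV.End.of πw ^ a : EndAV.End Aw) : EndAV.Hom Aw Aw) = 0 :=
      (Category.assoc _ _ _).trans h
    have h2 := ih _ h1
    haveI : Surjective (EndAV.Hom.of πB).toHom.left := ⟨fun z => ⟨z, by
      rw [EndAV.Hom.toHom_of, hπB.1]; rfl⟩⟩
    haveI := AVQuotH1.epi_of_surjective (EndAV.Hom.of πB).toHom
    refine EndAV.Hom.ext ((cancel_epi (EndAV.Hom.of πB).toHom).1 ?_)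
    show πB ≫ φ.toHom = πB ≫ (1 : B.X ⟶ Aw)
    rw [MonObj.comp_one, ← IsPFrob.comm hk hπB hπw φ.toHom]
    exact congrArg EndAV.Hom.toHom h2

include hk hint hπw hweil hinj ρw hρw hemb in
/-- Relations of the subfamily kill the lattices of its objects. -/
theorem comp_eq_zero_of_proj (B : AV k) {πB : B.X ⟶ B.X} [IsMonHom πB] (hπB : IsPFrob p πB)
    (hP : Polynomial.aeval (EndAV.End.of πB) (PP fun j' => ϖ (emb j')) = 0) (φ : EndAV.Hom B.X Aw)
    (r : (MvPolynomial.aeval ![fun j => ϖ j, fun j => (p : K j) / ϖ j] : MvPolynomial (Fin 2) ℤ →ₐ[ℤ] ((j : J) → K j)).range)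
    (hr : ∀ j', (r : (j : J) → K j) (emb j') = 0) : φ ≫ (ρw r : EndAV.Hom Aw Aw) = 0 := by
  obtain ⟨_, Q, rfl⟩ := r
  obtain ⟨a, G, hG⟩ := exists_clear p Q
  let x : (j : J) → K j := fun j => ϖ j
  let y : (j : J) → K j := fun j => (p : K j) / ϖ j
  have hxy : x * y = ((p : ℕ) : (j : J) → K j) := varpi_mul_div hint hweil
  have hG' := hG x y hxy
  obtain ⟨H, hH⟩ := PP_dvd (ϖ := fun j' => ϖ (emb j')) (fun j' => hint _) (fun i i' e => hemb (hinj _ _ e)) G fun j' => by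
    have h1 : (Pi.evalAlgHom ℤ K (emb j')) (Polynomial.aeval x G) = 0 := by
      rw [← hG', map_mul]
      show _ * ((MvPolynomial.aeval ![x, y] Q : (j : J) → K j) (emb j')) = 0
      exact mul_eq_zero_of_right _ (hr j')
    rw [← Polynomial.aeval_algHom_apply] at h1
    exact h1
  have hR : Polynomial.aeval (EndAV.End.of πw) G = EndAV.End.of πw ^ a * ρw ⟨_, AlgHom.mem_range_self _ Q⟩ := by
    rw [← hρw]
    refine (aeval_ringHom ρw.toRingHom _ G).trans ?_
    show ρw _ = _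
    rw [← map_pow, ← map_mul]
    refine congrArg ρw (Subtype.ext ?_)
    rw [← Subalgebra.coe_val, ← Polynomial.aeval_algHom_apply]
    show Polynomial.aeval ((MvPolynomial.aeval ![x, y] : MvPolynomial (Fin 2) ℤ →ₐ[ℤ] _) (MvPolynomial.X 0)) G =
      ((MvPolynomial.aeval ![x, y] : MvPolynomial (Fin 2) ℤ →ₐ[ℤ] _) (MvPolynomial.X 0)) ^ a *
        (MvPolynomial.aeval ![x, y] : MvPolynomial (Fin 2) ℤ →ₐ[ℤ] _) Q
    rw [MvPolynomial.aeval_X]
    exact hG'.symm
  refine cancel_piw_pow hk hπw B hπB a _ ?_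
  rw [Category.assoc]
  show φ ≫ ((EndAV.End.of πw ^ a * ρw ⟨_, AlgHom.mem_range_self _ Q⟩ : EndAV.End Aw) : EndAV.Hom Aw Aw) = 0
  rw [← hR, ← aeval_comm (X := B) (Q := ⟨Aw⟩) φ _ _ (frob_comm_hom hk (X := B) (Q := ⟨Aw⟩) hπB hπw φ) G,
    aeval_zero_of_dvd ⟨H, hH⟩ hP]
  exact Limits.zero_comp

/-- The projection of the order onto the order of the subfamily. -/
def projOrder :
    (MvPolynomial.aeval ![fun j => ϖ j, fun j => (p : K j) / ϖ j] : MvPolynomial (Fin 2) ℤ →ₐ[ℤ] ((j : J) → K j)).range →+*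
      (MvPolynomial.aeval ![fun j' => ϖ (emb j'), fun j' => (p : K (emb j')) / ϖ (emb j')] : MvPolynomial (Fin 2) ℤ →ₐ[ℤ] ((j' : J') → K (emb j'))).range :=
  RingHom.codRestrict ((Pi.ringHom fun j' => Pi.evalRingHom K (emb j')).comp
      ((MvPolynomial.aeval ![fun j => ϖ j, fun j => (p : K j) / ϖ j] : MvPolynomial (Fin 2) ℤ →ₐ[ℤ] ((j : J) → K j)).range.val.toRingHom))
    ((MvPolynomial.aeval ![fun j' => ϖ (emb j'), fun j' => (p : K (emb j')) / ϖ (emb j')] : MvPolynomial (Fin 2) ℤ →ₐ[ℤ] ((j' : J') → K (emb j'))).range)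
    (by
      rintro ⟨_, Q, rfl⟩
      refine ⟨Q, ?_⟩
      ext j'
      show (Pi.evalAlgHom ℤ (fun j' => K (emb j')) j') (MvPolynomial.aeval _ Q) = (Pi.evalAlgHom ℤ K (emb j')) (MvPolynomial.aeval _ Q)
      rw [← AlgHom.comp_apply, ← AlgHom.comp_apply]
      refine DFunLike.congr_fun (MvPolynomial.algHom_ext (Fin.forall_fin_two.mpr ⟨?_, ?_⟩)) Q <;> simp)

theorem projOrder_coe (r) (j' : J') : (projOrder (p := p) (ϖ := ϖ) emb r : (j' : J') → K (emb j')) j' = (r : (j : J) → K j) (emb j') :=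
  rfl

theorem projOrder_aeval (Q : MvPolynomial (Fin 2) ℤ) :
    projOrder (p := p) (ϖ := ϖ) emb ⟨_, AlgHom.mem_range_self _ Q⟩ = ⟨_, AlgHom.mem_range_self _ Q⟩ := by
  refine Subtype.ext (funext fun j' => ?_)
  show (Pi.evalAlgHom ℤ K (emb j')) (MvPolynomial.aeval _ Q) = (Pi.evalAlgHom ℤ (fun j' => K (emb j')) j') (MvPolynomial.aeval _ Q)
  rw [← AlgHom.comp_apply, ← AlgHom.comp_apply]
  refine DFunLike.congr_fun (MvPolynomial.algHom_ext (Fin.forall_fin_two.mpr ⟨?_, ?_⟩)) Q <;> simp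

include hk hint hπw hweil hinj ρw hρw o hemb in
/-- The subvariety generated by the subfamily has the order of the subfamily as endomorphisms. -/
theorem exists_end_sub (C : AV k) {πC : C.X ⟶ C.X} [IsMonHom πC] (hπC : IsPFrob p πC) (j : EndAV.Hom C.X Aw)
    [Mono j.toHom]
    (hfac : ∀ (B : AV k) (πB : B.X ⟶ B.X) [IsMonHom πB], IsPFrob p πB →
      Polynomial.aeval (EndAV.End.of πB) (PP fun j' => ϖ (emb j')) = 0 → ∀ f : EndAV.Hom B.X Aw, ∃ f₀, f₀ ≫ j = f)
    (hmin : ∀ (C' : AV k) (j' : EndAV.Hom C'.X Aw), IsClosedImmersion j'.toHom.left →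
      (∀ (B : AV k) (πB : B.X ⟶ B.X) [IsMonHom πB], IsPFrob p πB →
        Polynomial.aeval (EndAV.End.of πB) (PP fun j' => ϖ (emb j')) = 0 → ∀ f : EndAV.Hom B.X Aw, ∃ f₀, f₀ ≫ j' = f) →
      ∃ i, i ≫ j' = j) :
    Polynomial.aeval (EndAV.End.of πC) (PP fun j' => ϖ (emb j')) = 0 ∧
      ∃ ρv : (MvPolynomial.aeval ![fun j' => ϖ (emb j'), fun j' => (p : K (emb j')) / ϖ (emb j')] : MvPolynomial (Fin 2) ℤ →ₐ[ℤ] ((j' : J') → K (emb j'))).range ≃+* EndAV.End C.X,
        ρv ⟨(MvPolynomial.aeval ![fun j' => ϖ (emb j'), fun j' => (p : K (emb j')) / ϖ (emb j')] : MvPolynomial (Fin 2) ℤ →ₐ[ℤ] ((j' : J') → K (emb j'))) (MvPolynomial.X 0), AlgHom.mem_range_self _ _⟩ = EndAV.End.of πC := by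
  let R := (MvPolynomial.aeval ![fun j => ϖ j, fun j => (p : K j) / ϖ j] : MvPolynomial (Fin 2) ℤ →ₐ[ℤ] ((j : J) → K j)).range
  let R' := (MvPolynomial.aeval ![fun j' => ϖ (emb j'), fun j' => (p : K (emb j')) / ϖ (emb j')] : MvPolynomial (Fin 2) ℤ →ₐ[ℤ] ((j' : J') → K (emb j'))).range
  let θ : EndAV.End Aw →+* R' := (projOrder (p := p) (ϖ := ϖ) emb).comp ρw.symm.toRingHom
  have hθsurj : Function.Surjective θ := by
    rintro ⟨_, Q, rfl⟩
    exact ⟨ρw ⟨_, AlgHom.mem_range_self _ Q⟩, by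
      show projOrder emb (ρw.symm (ρw _)) = _
      rw [ρw.symm_apply_apply]; exact projOrder_aeval emb Q⟩
  have hθπ : θ (EndAV.End.of πw) = ⟨_, AlgHom.mem_range_self _ (MvPolynomial.X 0)⟩ := by
    show projOrder emb (ρw.symm _) = _
    rw [← hρw, ρw.symm_apply_apply]; exact projOrder_aeval emb _
  letI : Module R' (ULift.{u} R') := ULift.module'
  letI : Module (EndAV.End Aw) (ULift.{u} R') := Module.compHom _ θ
  haveI : IsAddTorsionFree R' := Function.Injective.isAddTorsionFree R'.val.toAddMonoidHom Subtype.val_injective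
  haveI : Module.Finite ℤ (EndAV.End Aw) := TateTors22.finite_hom (A := Aw) (B := Aw)
  haveI : Module.Finite ℤ R' := Module.Finite.of_surjective θ.toAddMonoidHom.toIntLinearMap hθsurj
  haveI : Module.Finite ℤ (ULift.{u} R') := Module.Finite.equiv ULift.moduleEquiv.symm
  haveI : Module.Free ℤ R' := Module.free_of_finite_type_torsion_free'
  haveI : Module.Free ℤ (ULift.{u} R') := Module.Free.of_equiv ULift.moduleEquiv.symm
  obtain ⟨B, hB, e, he⟩ := exists_of_module hk hint hπw hweil hinj ρw hρw o (ULift.{u} R')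
  let eB : EndAV.Hom B.X Aw ≃+ R' := e.symm.trans AddEquiv.ulift
  have heB : ∀ (φ : EndAV.Hom B.X Aw) (s : EndAV.Hom Aw Aw), eB (φ ≫ s) = θ (s : EndAV.End Aw) * eB φ := fun φ s => by
    obtain ⟨z, rfl⟩ := e.surjective φ
    show (e.symm (e z ≫ s)).down = θ (s : EndAV.End Aw) * (e.symm (e z)).down
    rw [← he (s : EndAV.End Aw) z, e.symm_apply_apply, e.symm_apply_apply]
    rfl
  have hsat : ∀ z : R', ∃ n : ℤ, n ≠ 0 ∧ n • z ∈ θ.range := fun z => ⟨1, one_ne_zero, by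
    rw [one_smul]; exact hθsurj z⟩
  have hroot : Polynomial.aeval (⟨_, AlgHom.mem_range_self _ (MvPolynomial.X 0)⟩ : R') (PP fun j' => ϖ (emb j')) = 0 := by
    refine Subtype.ext (funext fun j' => ?_)
    rw [← Subalgebra.coe_val, ← Polynomial.aeval_algHom_apply]
    show (Pi.evalAlgHom ℤ (fun j' => K (emb j')) j') (Polynomial.aeval _ _) = 0
    rw [← Polynomial.aeval_algHom_apply]
    show Polynomial.aeval ((MvPolynomial.aeval _ : MvPolynomial (Fin 2) ℤ →ₐ[ℤ] ((j' : J') → K (emb j'))) (MvPolynomial.X 0) j') _ = 0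
    rw [MvPolynomial.aeval_X, PP, map_prod]
    exact Finset.prod_eq_zero (Finset.mem_univ j') (minpoly.aeval ℤ _)
  obtain ⟨σB, hσB⟩ := end_equiv hk hint hπw hweil hinj ρw hρw o B hB θ hsat eB heB
  obtain ⟨πB, _, hπB, -⟩ := id hB
  have hPB : Polynomial.aeval (EndAV.End.of πB) (PP fun j' => ϖ (emb j')) = 0 := by
    rw [← hσB πB hπB, hθπ]
    refine (aeval_ringHom σB.toRingHom _ _).trans ?_
    rw [hroot]; exact map_zero σB
  let j₀ : EndAV.Hom B.X Aw := eB.symm 1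
  have hj₀ : ∀ s : EndAV.Hom Aw Aw, eB (j₀ ≫ s) = θ (s : EndAV.End Aw) := fun s => by
    rw [heB, eB.apply_symm_apply, _root_.mul_one]
  have hAw : InAV p ϖ (⟨Aw⟩ : AV k) := inAV_Aw hπw ρw hρw
  haveI hj₀c : IsClosedImmersion j₀.toHom.left := by
    refine isClosedImmersion_of_surjective hk hint hπw hweil hinj ρw hρw o B ⟨Aw⟩ hB j₀ hAw fun φ => ?_
    obtain ⟨s, hs⟩ := hθsurj (eB φ)
    exact ⟨s, eB.injective ((hj₀ s).trans hs)⟩
  have hprop : ∀ (B' : AV k) (π' : B'.X ⟶ B'.X) [IsMonHom π'], IsPFrob p π' →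
      Polynomial.aeval (EndAV.End.of π') (PP fun j' => ϖ (emb j')) = 0 → ∀ f : EndAV.Hom B'.X Aw, ∃ f₀, f₀ ≫ j₀ = f := by
    intro B' π' _ hπ' hP' f
    choose sec hsec using fun φ : EndAV.Hom B.X Aw => hθsurj (eB φ)
    have hwd : ∀ s s' : EndAV.Hom Aw Aw, θ (s : EndAV.End Aw) = θ (s' : EndAV.End Aw) → f ≫ s = f ≫ s' := fun s s' h => by
      rw [← sub_eq_zero, ← Preadditive.comp_sub]
      have hz : θ ((s - s' : EndAV.Hom Aw Aw) : EndAV.End Aw) = 0 := by
        rw [← sub_eq_zero] at h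
        exact (map_sub θ (s : EndAV.End Aw) (s' : EndAV.End Aw)).trans h
      have h2 := comp_eq_zero_of_proj hk hint hπw hweil hinj ρw hρw emb hemb B' hπ' hP' f
        (ρw.symm ((s - s' : EndAV.Hom Aw Aw) : EndAV.End Aw)) fun j' => by
          have := congrFun (congrArg Subtype.val hz) j'
          exact this
      rwa [ρw.apply_symm_apply] at h2
    obtain ⟨f₀, hf₀⟩ := exists_hom_of_linear hk hint hπw hweil hinj ρw hρw o B' B hB
      (AddMonoidHom.mk' (fun φ => f ≫ (sec φ : EndAV.Hom Aw Aw)) fun a b => by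
        rw [← Preadditive.comp_add]
        refine hwd _ _ ?_
        rw [hsec, map_add, ← hsec a, ← hsec b]
        exact (map_add θ (sec a) (sec b)).symm) fun φ s => by
        show f ≫ (sec (φ ≫ s) : EndAV.Hom Aw Aw) = (f ≫ (sec φ : EndAV.Hom Aw Aw)) ≫ s
        rw [Category.assoc]
        refine hwd _ _ ?_
        rw [hsec, heB, ← hsec φ]
        exact (map_mul θ (toE s) (toE (sec φ))).symm
    refine ⟨f₀, ?_⟩
    rw [← hf₀]
    show f ≫ (sec j₀ : EndAV.Hom Aw Aw) = f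
    conv_rhs => rw [← Category.comp_id f]
    refine hwd _ _ ?_
    rw [hsec, eB.apply_symm_apply]
    exact (map_one θ).symm
  obtain ⟨i, hi⟩ := hmin B j₀ hj₀c hprop
  obtain ⟨f₀, hf₀⟩ := hfac B πB hπB hPB j₀
  haveI : Mono j₀.toHom := Over.mono_of_mono_left _
  have h1 : i ≫ f₀ = 𝟙 (CommGrp.mk C.X) := EndAV.Hom.ext ((cancel_mono j.toHom).1 (by
    have : (i ≫ f₀) ≫ j = 𝟙 (CommGrp.mk C.X) ≫ j := by rw [Category.assoc, hf₀, hi, Category.id_comp]
    exact congrArg EndAV.Hom.toHom this))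
  have h2 : f₀ ≫ i = 𝟙 (CommGrp.mk B.X) := EndAV.Hom.ext ((cancel_mono j₀.toHom).1 (by
    have : (f₀ ≫ i) ≫ j₀ = 𝟙 (CommGrp.mk B.X) ≫ j₀ := by rw [Category.assoc, hi, hf₀, Category.id_comp]
    exact congrArg EndAV.Hom.toHom this))
  haveI : Mono j.toHom := ‹_›
  have hC : InAV p ϖ C := inAV_of_mono hk (X := C) (Y := ⟨Aw⟩) hAw j
  let eC : EndAV.Hom C.X Aw ≃+ R' :=
    { toFun := fun φ => eB (f₀ ≫ φ)
      invFun := fun t => i ≫ eB.symm t
      left_inv := fun φ => by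
        show i ≫ eB.symm (eB (f₀ ≫ φ)) = φ
        rw [eB.symm_apply_apply, ← Category.assoc, h1, Category.id_comp]
      right_inv := fun t => by
        show eB (f₀ ≫ i ≫ eB.symm t) = t
        rw [← Category.assoc, h2, Category.id_comp, eB.apply_symm_apply]
      map_add' := fun a b => by rw [Preadditive.comp_add, map_add] }
  obtain ⟨σ, hσ⟩ := end_equiv hk hint hπw hweil hinj ρw hρw o C hC θ hsat eC fun φ s => by
    show eB (f₀ ≫ φ ≫ s) = _
    rw [← Category.assoc, heB]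
    rfl
  have hπ : σ ⟨_, AlgHom.mem_range_self _ (MvPolynomial.X 0)⟩ = EndAV.End.of πC := by rw [← hθπ]; exact hσ πC hπC
  refine ⟨?_, σ, hπ⟩
  rw [← hπ]
  refine (aeval_ringHom σ.toRingHom _ _).trans ?_
  rw [hroot]; exact map_zero σ

end Groth.Agent.MinOrd22

end
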